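import Groth.Agent.L13.Nagata.Pair
import Groth.Agent.L20.AdmSep

/-!
# Partial compactifications adapted to an open
-/

set_option autoImplicit false
set_option linter.style.haveILetI false
set_option backward.isDefEq.respectTransparency.types false

universe u

open CategoryTheory CategoryTheory.Limits AlgebraicGeometry TopologicalSpace

noncomputable section

namespace Groth.L13.Nagata

variable {X S : Scheme.{u}}

/-- A proper modification of `X`, trivial over `V`, with an open immersion into a proper scheme. -/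
structure Piece (g : X ⟶ S) (V : X.Opens) where
  P : Scheme.{u}
  Xm : Scheme.{u}
  π : P ⟶ S
  o : Xm ⟶ P
  q : Xm ⟶ X
  proper_π : IsProper π
  open_o : IsOpenImmersion o
  qc_o : QuasiCompact o
  proper_q : IsProper q
  comm : q ≫ g = o ≫ π
  iso : IsIso (q ∣_ V)

attribute [instance] Piece.proper_π Piece.open_o Piece.qc_o Piece.proper_q Piece.iso

/-- The open immersion lifts to an admissible blow-up with full preimage. -/
theorem exists_openImmersion_lift {W P P' : Scheme.{u}} (o : W ⟶ P) [IsOpenImmersion o] {c : P' ⟶ P}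
    {E : P.IdealSheafData} (hc : BlowUp.IsBlowUp c E)
    (hd : Disjoint (E.support : Set P) (o.opensRange : Set P)) :
    ∃ o' : W ⟶ P', o' ≫ c = o ∧ IsOpenImmersion o' ∧
      ((c ⁻¹ᵁ o.opensRange : P'.Opens) : Set P') = Set.range o' := by
  haveI := isIso_restrict_of_admissible hc hd
  refine ⟨o.isoOpensRange.hom ≫ inv (c ∣_ o.opensRange) ≫ (c ⁻¹ᵁ o.opensRange).ι, ?_, inferInstance, ?_⟩
  · rw [Category.assoc, Category.assoc, ← morphismRestrict_ι, IsIso.inv_hom_id_assoc,
      Scheme.Hom.isoOpensRange_hom_ι]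
  · rw [← Category.assoc, Scheme.Hom.comp_base, TopCat.coe_comp, Set.range_comp,
      (o.isoOpensRange.hom ≫ inv (c ∣_ o.opensRange)).surjective.range_eq, Set.image_univ, Scheme.Opens.range_ι]

/-- A piece may be replaced by an admissible blow-up. -/
theorem Piece.exists_blow {g : X ⟶ S} {V : X.Opens} (D : Piece g V) {E : D.P.IdealSheafData}
    (hE : BlowUp.IsAdmissibleFor D.o.opensRange E) {P' : Scheme.{u}} {c : P' ⟶ D.P} (hc : BlowUp.IsBlowUp c E) :
    ∃ (o' : D.Xm ⟶ P'), IsProper (c ≫ D.π) ∧ IsOpenImmersion o' ∧ QuasiCompact o' ∧ o' ≫ c = D.o ∧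
      D.q ≫ g = o' ≫ c ≫ D.π ∧ ((c ⁻¹ᵁ D.o.opensRange : P'.Opens) : Set P') = Set.range o' := by
  obtain ⟨o', ho', hoi, hr⟩ := exists_openImmersion_lift D.o hc hE.2
  haveI := Groth.L13.BU.isProper_blowUp hc hE.1
  haveI : QuasiCompact (o' ≫ c) := by rw [ho']; infer_instance
  haveI : QuasiCompact o' := QuasiCompact.of_comp o' c
  exact ⟨o', inferInstance, hoi, inferInstance, ho', by rw [reassoc_of% ho']; exact D.comm, hr⟩

/-- An open with a compactification gives a piece. -/
theorem exists_piece [CompactSpace S] [QuasiSeparatedSpace S] (g : X ⟶ S) [IsSeparated g] [QuasiCompact g]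
    [LocallyOfFiniteType g] (V : X.Opens) (hV : IsCompact (V : Set X))
    (h : ∃ (Y : Scheme.{u}) (j : (V : Scheme.{u}) ⟶ Y) (p : Y ⟶ S),
      IsOpenImmersion j ∧ QuasiCompact j ∧ IsProper p ∧ j ≫ p = V.ι ≫ g) :
    Nonempty (Piece g V) := by
  obtain ⟨Y, k, π, hk, hkq, hπ, hcomm⟩ := h
  haveI : CompactSpace V := isCompact_iff_compactSpace.1 hV
  haveI : CompactSpace X := QuasiCompact.compactSpace_of_compactSpace g
  haveI : QuasiSeparatedSpace X := quasiSeparatedSpace_of_quasiSeparated g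
  haveI : CompactSpace Y := QuasiCompact.compactSpace_of_compactSpace π
  haveI : QuasiSeparatedSpace Y := quasiSeparatedSpace_of_quasiSeparated π
  obtain ⟨T, i, t, hi, ht, htd, htq, h1, h2, -, -⟩ := exists_graphClosure g π V.ι k hcomm.symm
  haveI : IsDominant t := inferInstance
  let p₁ := i ≫ pullback.fst g π
  let p₂ := i ≫ pullback.snd g π
  haveI : IsProper (pullback.fst g π) := MorphismProperty.pullback_fst _ _ inferInstance
  haveI : IsSeparated (pullback.snd g π) := MorphismProperty.pullback_snd _ _ inferInstance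
  haveI : QuasiCompact (pullback.snd g π) := MorphismProperty.pullback_snd _ _ inferInstance
  haveI : LocallyOfFiniteType (pullback.snd g π) := MorphismProperty.pullback_snd _ _ inferInstance
  have hp₁ : p₁ ⁻¹ᵁ V = t.opensRange := by
    have := preimage_range_of_section p₁ V.ι t h1
    rwa [Scheme.Opens.opensRange_ι] at this
  have hp₂ : p₂ ⁻¹ᵁ k.opensRange = t.opensRange := preimage_range_of_section p₂ k t h2
  haveI : IsIso (p₂ ∣_ k.opensRange) := isIso_restrict_of_section p₂ k t h2 hp₂.le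
  haveI : IsIso (p₁ ∣_ V) := by
    have := isIso_restrict_of_section p₁ V.ι t h1 (by rw [Scheme.Opens.opensRange_ι]; exact hp₁.le)
    rwa [Scheme.Opens.opensRange_ι] at this
  obtain ⟨J, Y', T', b, c, e, hb, hc, hJ, -, he, hcomm'⟩ :=
    exists_openImmersion_blowUps p₂ k.opensRange (isCompact_range k.continuous)
  haveI := Groth.L13.BU.isProper_blowUp hb hJ.1
  haveI := Groth.L13.BU.isProper_blowUp hc (isFiniteType_comap hJ.1 p₂)
  haveI : IsIso (c ∣_ (p₁ ⁻¹ᵁ V)) := isIso_restrict_of_admissible hc (by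
    rw [hp₁, ← hp₂]; exact (admissible_comap hJ p₂).2)
  haveI : IsIso ((c ≫ p₁) ∣_ V) := by
    rw [morphismRestrict_comp]
    exact IsIso.comp_isIso' (inferInstanceAs (IsIso (c ∣_ (p₁ ⁻¹ᵁ V)))) (inferInstanceAs (IsIso (p₁ ∣_ V)))
  haveI : QuasiSeparated b := inferInstance
  haveI : QuasiCompact (e ≫ b) := by rw [hcomm']; infer_instance
  haveI : QuasiCompact e := QuasiCompact.of_comp e b
  refine ⟨⟨Y', T', b ≫ π, e, c ≫ p₁, inferInstance, he, inferInstance, inferInstance, ?_, inferInstance⟩⟩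
  rw [reassoc_of% hcomm']
  simp only [p₁, p₂, Category.assoc, pullback.condition]

/-- Ideals of finite type cutting out closed subsets of an open with quasi-compact complement. -/
theorem exists_ideal_image {W P : Scheme.{u}} [CompactSpace P] [QuasiSeparatedSpace P] (o : W ⟶ P) [IsOpenImmersion o]
    (G : W.Opens) (hG : IsCompact (G : Set W)) :
    ∃ I : P.IdealSheafData, BlowUp.IsFiniteTypeIdeal I ∧ ∀ y : W, (o y ∈ I.support ↔ y ∉ G) := by
  let Q : P.Opens := ⟨o '' (G : Set W), o.isOpenEmbedding.isOpenMap _ G.2⟩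
  obtain ⟨I, hI, hs⟩ := exists_compl_ideal Q (hG.image o.continuous)
  refine ⟨I, hI, fun y => ?_⟩
  rw [← SetLike.mem_coe, hs]
  show o y ∉ o '' (G : Set W) ↔ _
  rw [o.isOpenEmbedding.injective.mem_set_image]
  rfl

/-- A quasi-compact open between a compact set and an open. -/
theorem exists_compact_open_between {P : Scheme.{u}} {K : Set P} (hK : IsCompact K) (O : P.Opens) (h : K ⊆ O) :
    ∃ M : P.Opens, IsCompact (M : Set P) ∧ K ⊆ M ∧ M ≤ O := by
  have hb : ∀ x : K, ∃ A : P.affineOpens, x.1 ∈ A.1 ∧ A.1 ≤ O := fun x => by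
    obtain ⟨_, ⟨A, hA, rfl⟩, hx, hle⟩ := P.isBasis_affineOpens.exists_subset_of_mem_open (h x.2) O.2
    exact ⟨⟨A, hA⟩, hx, hle⟩
  choose A hxA hA using hb
  obtain ⟨s, hs⟩ := hK.elim_finite_subcover (fun x => ((A x).1 : Set P)) (fun x => (A x).1.2)
    fun x hx => Set.mem_iUnion.2 ⟨⟨x, hx⟩, hxA ⟨x, hx⟩⟩
  refine ⟨⟨⋃ x ∈ s, ((A x).1 : Set P), isOpen_biUnion fun x _ => (A x).1.2⟩,
    s.finite_toSet.isCompact_biUnion fun x _ => (A x).2.isCompact, hs, ?_⟩
  exact Set.iUnion₂_subset fun x _ => hA x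

/-- Two disjoint closed subsets with quasi-compact complements in an open are separated. -/
theorem exists_separation {W P : Scheme.{u}} [CompactSpace P] [QuasiSeparatedSpace P] (o : W ⟶ P)
    [IsOpenImmersion o] [QuasiCompact o] (G₁ G₂ : W.Opens) (hG₁ : IsCompact (G₁ : Set W))
    (hG₂ : IsCompact (G₂ : Set W)) (hcov : ∀ y : W, y ∈ G₁ ∨ y ∈ G₂) :
    ∃ (E : P.IdealSheafData) (P' : Scheme.{u}) (c : P' ⟶ P), BlowUp.IsBlowUp c E ∧
      BlowUp.IsAdmissibleFor o.opensRange E ∧
      Disjoint (closure (c ⁻¹' (o '' (G₁ : Set W)ᶜ))) (closure (c ⁻¹' (o '' (G₂ : Set W)ᶜ))) := by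
  haveI : CompactSpace W := QuasiCompact.compactSpace_of_compactSpace o
  haveI : QuasiSeparatedSpace o.opensRange :=
    o.opensRange.2.isOpenEmbedding_subtypeVal.quasiSeparatedSpace
  have hcons : ∀ G : W.Opens, IsCompact (G : Set W) →
      IsClosed {x : o.opensRange | x.1 ∈ o '' (G : Set W)ᶜ} ∧
        Topology.IsConstructible {x : o.opensRange | x.1 ∈ o '' (G : Set W)ᶜ} := by
    intro G hG
    let Q : Set o.opensRange := {x | x.1 ∈ o '' (G : Set W)}
    have hQo : IsOpen Q := (o.isOpenEmbedding.isOpenMap _ G.2).preimage continuous_subtype_val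
    have hQc : IsCompact Q := by
      refine (Topology.IsEmbedding.subtypeVal).isCompact_iff.2 ?_
      have e : Subtype.val '' Q = o '' (G : Set W) := by
        ext x
        constructor
        · rintro ⟨z, hz, rfl⟩; exact hz
        · rintro ⟨y, hy, rfl⟩; exact ⟨⟨o y, y, rfl⟩, ⟨y, hy, rfl⟩, rfl⟩
      rw [e]
      exact hG.image o.continuous
    have e : {x : o.opensRange | x.1 ∈ o '' (G : Set W)ᶜ} = Qᶜ := by
      ext ⟨x, y, rfl⟩
      show o y ∈ o '' (G : Set W)ᶜ ↔ o y ∉ o '' (G : Set W)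
      rw [o.isOpenEmbedding.injective.mem_set_image, o.isOpenEmbedding.injective.mem_set_image]
      rfl
    rw [e]
    have hr : IsRetrocompact Q := fun U hUc hUo => QuasiSeparatedSpace.inter_isCompact Q U hQo hQc hUo hUc
    exact ⟨hQo.isClosed_compl, (hr.isConstructible hQo).compl⟩
  obtain ⟨E, P', c, hc, hE, hdis⟩ := Groth.L20.AdmSep.exists_separating o.opensRange
    (isCompact_range o.continuous) _ _ (hcons G₁ hG₁).1 (hcons G₂ hG₂).1 (hcons G₁ hG₁).2 (hcons G₂ hG₂).2
    (by
      refine Set.disjoint_left.2 ?_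
      rintro x ⟨y, hy, e⟩ ⟨y', hy', e'⟩
      obtain rfl := o.isOpenEmbedding.injective (e.trans e'.symm)
      exact (hcov y).elim hy hy')
  refine ⟨E, P', c, hc, hE, ?_⟩
  have e : ∀ A : Set W, Subtype.val '' {x : o.opensRange | x.1 ∈ o '' A} = o '' A := fun A => by
    ext x
    constructor
    · rintro ⟨z, hz, rfl⟩; exact hz
    · rintro ⟨y, hy, rfl⟩; exact ⟨⟨o y, y, rfl⟩, ⟨y, hy, rfl⟩, rfl⟩
  simpa only [e] using hdis

end Groth.L13.Nagata
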