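import Groth.Agent.L13.Nagata.ExtendSection
import Groth.Agent.L13.Nagata.Piece
import Groth.Agent.L06.BlowComp.Main
import Mathlib.RingTheory.Noetherian.Nilpotent

/-!
# Isomorphisms near a closed set after strict transforms
-/

set_option autoImplicit false
set_option linter.style.haveILetI false
set_option backward.isDefEq.respectTransparency.types false

universe u

open CategoryTheory CategoryTheory.Limits AlgebraicGeometry TopologicalSpace

noncomputable section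

namespace Groth.L13.Nagata

variable {X Y : Scheme.{u}}

/-- A base change of a morphism is an isomorphism over opens mapping into the locus where it is one. -/
theorem isIso_restrict_of_isPullback {X' Y' : Scheme.{u}} {p₁ : X' ⟶ X} {p₂ : X' ⟶ Y'} {f : X ⟶ Y} {b : Y' ⟶ Y}
    (H : IsPullback p₁ p₂ f b) (W : Y.Opens) [IsIso (f ∣_ W)] (O : Y'.Opens) (hO : ∀ y ∈ O, b y ∈ W) :
    IsIso (p₂ ∣_ O) := by
  let l : (O : Scheme.{u}) ⟶ (W : Scheme.{u}) := IsOpenImmersion.lift W.ι (O.ι ≫ b) (by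
    rw [Scheme.Opens.range_ι]; rintro _ ⟨y, rfl⟩; exact hO _ y.2)
  have hl : l ≫ W.ι = O.ι ≫ b := IsOpenImmersion.lift_fac _ _ _
  let r : (O : Scheme.{u}) ⟶ X := l ≫ inv (f ∣_ W) ≫ (f ⁻¹ᵁ W).ι
  have hr : r ≫ f = O.ι ≫ b := by
    simp only [r, Category.assoc, ← morphismRestrict_ι, IsIso.inv_hom_id_assoc, hl]
  let t : (O : Scheme.{u}) ⟶ (p₂ ⁻¹ᵁ O : X'.Opens) := IsOpenImmersion.lift (p₂ ⁻¹ᵁ O).ι (H.lift r O.ι hr) (by
    rw [Scheme.Opens.range_ι]
    rintro _ ⟨y, rfl⟩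
    show p₂ (H.lift r O.ι hr y) ∈ O
    rw [← Scheme.Hom.comp_apply, H.lift_snd]
    exact y.2)
  have ht : t ≫ (p₂ ⁻¹ᵁ O).ι = H.lift r O.ι hr := IsOpenImmersion.lift_fac _ _ _
  refine ⟨t, ?_, ?_⟩
  · rw [← cancel_mono (p₂ ⁻¹ᵁ O).ι, Category.assoc, ht, Category.id_comp]
    refine H.hom_ext ?_ ?_
    · rw [Category.assoc, H.lift_fst]
      refine eq_of_isIso_restrict f W ?_ fun z => ?_
      · rw [Category.assoc, hr, morphismRestrict_ι_assoc, Category.assoc, H.w]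
      · rw [← Scheme.Hom.comp_apply, Category.assoc, hr, morphismRestrict_ι_assoc, Scheme.Hom.comp_apply,
          Scheme.Hom.comp_apply]
        exact hO _ z.2
    · rw [Category.assoc, H.lift_snd, morphismRestrict_ι]
  · rw [← cancel_mono O.ι, Category.assoc, morphismRestrict_ι, reassoc_of% ht, H.lift_snd, Category.id_comp]

/-- Off the support of an ideal sheaf of finite type, a function vanishes iff it is killed by a power. -/
theorem killed_iff_restrict_eq_zero (E : X.IdealSheafData) (hE : BlowUp.IsFiniteTypeIdeal E) (A : X.affineOpens)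
    (Z : X.Opens) (hZA : Z ≤ A.1) (hZ : ∀ x ∈ A.1, (x ∈ Z ↔ x ∉ E.support)) (a : Γ(X, A.1)) :
    (∃ n : ℕ, ∀ e : Γ(X, A.1), e ∈ (E ^ n).ideal A → e * a = 0) ↔
      X.presheaf.map (homOfLE hZA).op a = 0 := by
  constructor
  · rintro ⟨n, hn⟩
    have hcov : ∀ x : Z, ∃ e ∈ E.ideal A, x.1 ∈ X.basicOpen e := fun x => by
      have h := (hZ x.1 (hZA x.2)).1 x.2
      rw [Scheme.IdealSheafData.mem_support_iff_of_mem (U := A) (hZA x.2), Scheme.mem_zeroLocus_iff] at h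
      push Not at h
      exact h
    choose e he hxe using hcov
    refine X.IsSheaf.section_ext fun x hx => ⟨X.basicOpen (e ⟨x, hx⟩) ⊓ Z, inf_le_right, ⟨hxe ⟨x, hx⟩, hx⟩, ?_⟩
    rw [map_zero, ← CommRingCat.comp_apply, ← Functor.map_comp]
    have hu := (X.toRingedSpace.isUnit_res_basicOpen (e ⟨x, hx⟩)).map
      (X.presheaf.map (homOfLE (inf_le_left : X.basicOpen (e ⟨x, hx⟩) ⊓ Z ≤ _)).op).hom
    have h1 := congrArg (X.presheaf.map (homOfLE
      ((inf_le_right : X.basicOpen (e ⟨x, hx⟩) ⊓ Z ≤ Z).trans hZA)).op).hom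
      (hn _ (Ideal.pow_mem_pow (he ⟨x, hx⟩) n))
    rw [map_mul, map_pow, map_zero] at h1
    refine (IsUnit.mul_right_eq_zero (IsUnit.pow n ?_)).1 h1
    have e1 : X.presheaf.map (homOfLE
        ((inf_le_right : X.basicOpen (e ⟨x, hx⟩) ⊓ Z ≤ Z).trans hZA)).op =
        X.presheaf.map (homOfLE (X.basicOpen_le (e ⟨x, hx⟩))).op ≫
          X.presheaf.map (homOfLE (inf_le_left : X.basicOpen (e ⟨x, hx⟩) ⊓ Z ≤ _)).op := by
      rw [← Functor.map_comp]; rfl
    rw [e1, CommRingCat.comp_apply]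
    exact hu
  · intro ha
    let N : Ideal Γ(X, A.1) := (⊥ : Ideal Γ(X, A.1)).colon (Ideal.span {a} : Set Γ(X, A.1))
    have hrad : E.ideal A ≤ N.radical := fun e he => by
      have hle : X.basicOpen e ≤ Z := fun x hx => (hZ x (X.basicOpen_le e hx)).2 fun hs => by
        rw [Scheme.IdealSheafData.mem_support_iff_of_mem (U := A) (X.basicOpen_le e hx),
          Scheme.mem_zeroLocus_iff] at hs
        exact hs e he hx
      haveI := A.2.isLocalization_basicOpen e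
      have h2 : algebraMap Γ(X, A.1) Γ(X, X.basicOpen e) a = 0 := by
        show X.presheaf.map (homOfLE (X.basicOpen_le e)).op a = 0
        have e1 : X.presheaf.map (homOfLE (X.basicOpen_le e)).op =
            X.presheaf.map (homOfLE hZA).op ≫ X.presheaf.map (homOfLE hle).op := by
          rw [← Functor.map_comp]; rfl
        rw [e1, CommRingCat.comp_apply, ha, map_zero]
      obtain ⟨⟨_, n, rfl⟩, hn⟩ := (IsLocalization.map_eq_zero_iff (Submonoid.powers e) _ a).1 h2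
      refine ⟨n, Submodule.mem_colon.2 fun y hy => ?_⟩
      obtain ⟨r, rfl⟩ := Ideal.mem_span_singleton'.1 hy
      simp only [smul_eq_mul, Ideal.mem_bot]
      rw [mul_left_comm, hn, mul_zero]
    obtain ⟨n, hn⟩ := Ideal.exists_pow_le_of_le_radical_of_fg hrad (hE A)
    exact ⟨n, fun e he => by
      have := Submodule.mem_colon.1 (hn he) a (Ideal.mem_span_singleton_self a)
      simpa using this⟩

/-- The strict transform along a section which agrees with the base change off the centre is the section. -/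
theorem isIso_strict_restrict {Z' Y' : Scheme.{u}} (p₂ : Z' ⟶ Y') [IsSeparated p₂]
    (D : Y'.IdealSheafData) (hD : BlowUp.IsEffCartierIdeal D) (hft : BlowUp.IsFiniteTypeIdeal (D.comap p₂))
    (W' : Y'.Opens) [CompactSpace (W' : Scheme.{u})] [QuasiSeparatedSpace Z']
    (s : (W' : Scheme.{u}) ⟶ Z') (hs : s ≫ p₂ = W'.ι)
    [IsIso (p₂ ∣_ (W' ⊓ D.support.compl))]
    (𝒥 : Z'.IdealSheafData)
    (h𝒥 : ∀ (A : Z'.affineOpens) (a : Γ(Z', A.1)), a ∈ 𝒥.ideal A ↔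
      BlowUp.KilledByPowerNear (D.comap p₂) (Coh.structureModule Z') A a) :
    IsIso ((𝒥.subschemeι ≫ p₂) ∣_ W') := by
  let W₀ : Y'.Opens := W' ⊓ D.support.compl
  let Z : Z'.Opens := p₂ ⁻¹ᵁ W₀
  let V₀ : (W' : Scheme.{u}).Opens := W'.ι ⁻¹ᵁ W₀
  let d := V₀.ι
  have hV₀ : V₀ = (D.comap W'.ι).support.compl := by
    refine Opens.ext ?_
    show W'.ι ⁻¹' ((W' : Set Y') ∩ (D.support : Set Y')ᶜ) = ((D.comap W'.ι).support : Set (W' : Scheme.{u}))ᶜ
    rw [Scheme.IdealSheafData.support_comap, Closeds.coe_preimage]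
    ext y
    exact ⟨fun h => h.2, fun h => ⟨y.2, h⟩⟩
  have hdD := Groth.L22.Ideals.isEffCartier_comap_of_flat W'.ι hD
  haveI : IsSchemeTheoreticallyDominant d := by
    show IsSchemeTheoreticallyDominant V₀.ι
    rw [hV₀]; exact isEffCartier_schDominant_compl hdD
  haveI : QuasiCompact d := by
    show QuasiCompact V₀.ι
    rw [hV₀]; exact Groth.L13.MP.quasiCompact_interior hdD
  haveI : QuasiCompact s := quasiCompact_of_compactSpace s
  let q := (Scheme.Opens.isoOfLE (inf_le_left : W₀ ≤ W')).inv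
  have hq : q ≫ d ≫ W'.ι = W₀.ι := Scheme.Opens.isoOfLE_inv_ι _
  have hs₀ : q ≫ d ≫ s = inv (p₂ ∣_ W₀) ≫ Z.ι := by
    refine eq_of_isIso_restrict p₂ W₀ ?_ fun z => ?_
    · rw [Category.assoc, Category.assoc, Category.assoc, hs, hq, ← morphismRestrict_ι, IsIso.inv_hom_id_assoc]
    · rw [← Scheme.Hom.comp_apply, Category.assoc, Category.assoc, hs, hq]
      exact z.2
  haveI : QuasiCompact Z.ι := by
    have e : Z.ι = (p₂ ∣_ W₀) ≫ q ≫ d ≫ s := by rw [hs₀, IsIso.hom_inv_id_assoc]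
    rw [e]; infer_instance
  have hker : s.ker = Z.ι.ker := by
    have h1 : (d ≫ s).ker = s.ker := by
      rw [Scheme.Hom.ker_comp, IsSchemeTheoreticallyDominant.ker_eq_bot d, Scheme.IdealSheafData.map_bot]
    rw [← h1, ← Scheme.Hom.ker_comp_of_isIso q (d ≫ s), hs₀, Scheme.Hom.ker_comp_of_isIso]
  have hideal : ∀ A : Z'.affineOpens, A.1 ≤ p₂ ⁻¹ᵁ W' → 𝒥.ideal A = s.ker.ideal A := by
    intro A hA
    ext a
    have hZ : ∀ x ∈ A.1, (x ∈ Z.ι ''ᵁ Z.ι ⁻¹ᵁ A.1 ↔ x ∉ (D.comap p₂).support) := fun x hx => by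
      rw [Scheme.Hom.image_preimage_eq_opensRange_inf, Scheme.Opens.opensRange_ι]
      show x ∈ Z ⊓ A.1 ↔ x ∉ ((D.comap p₂).support : Set Z')
      rw [Scheme.IdealSheafData.support_comap]
      exact ⟨fun h => h.1.2, fun h => ⟨⟨hA hx, h⟩, hx⟩⟩
    rw [h𝒥, hker, Scheme.Hom.ker_apply, RingHom.mem_ker, Scheme.Opens.ι_app]
    exact killed_iff_restrict_eq_zero (D.comap p₂) hft A _
      (Set.image_preimage_subset _ _) hZ a
  let O := p₂ ⁻¹ᵁ W'
  let s' : (W' : Scheme.{u}) ⟶ (O : Scheme.{u}) := IsOpenImmersion.lift O.ι s (by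
    rw [Scheme.Opens.range_ι]
    rintro _ ⟨y, rfl⟩
    show p₂ (s y) ∈ W'
    rw [← Scheme.Hom.comp_apply, hs]
    exact y.2)
  have hs' : s' ≫ O.ι = s := IsOpenImmersion.lift_fac _ _ _
  have hsec : s' ≫ (p₂ ∣_ W') = 𝟙 _ := by
    rw [← cancel_mono W'.ι, Category.assoc, morphismRestrict_ι, reassoc_of% hs', hs, Category.id_comp]
  haveI : IsClosedImmersion (s' ≫ (p₂ ∣_ W')) := by rw [hsec]; infer_instance
  haveI : IsClosedImmersion s' := IsClosedImmersion.of_comp s' (p₂ ∣_ W')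
  have hpb : IsPullback s' (𝟙 (W' : Scheme.{u})) O.ι s := by
    refine IsPullback.of_isLimit' ⟨by rw [hs', Category.id_comp]⟩
      (PullbackCone.IsLimit.mk _ (fun t => t.snd) (fun t => ?_) (fun t => Category.comp_id _) fun t u h1 h2 => ?_)
    · rw [← cancel_mono O.ι, Category.assoc, hs']
      exact t.condition.symm
    · exact (Category.comp_id u).symm.trans h2
  have hk : (𝒥.subschemeι ∣_ O).ker = s'.ker := by
    refine Scheme.IdealSheafData.ext (funext fun A => ?_)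
    rw [Scheme.ker_morphismRestrict_ideal, Scheme.ker_ideal_of_isPullback_of_isOpenImmersion s s' _ O.ι hpb A,
      Scheme.IdealSheafData.ker_subschemeι,
      hideal ⟨O.ι ''ᵁ A, A.2.image_of_isOpenImmersion _⟩ ((O.ι.image_mono le_top).trans O.ι_image_top.le),
      Scheme.Opens.ι_appIso]
    exact (Ideal.comap_id _).symm
  haveI : IsIso (IsClosedImmersion.lift (𝒥.subschemeι ∣_ O) s' hk.le) :=
    IsClosedImmersion.isIso_lift _ _ hk
  let l := IsClosedImmersion.lift (𝒥.subschemeι ∣_ O) s' hk.le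
  have hl : l ≫ (𝒥.subschemeι ∣_ O) = s' := IsClosedImmersion.lift_fac _ _ _
  haveI : IsIso ((𝒥.subschemeι ∣_ O) ≫ (p₂ ∣_ W')) := by
    have e : (𝒥.subschemeι ∣_ O) ≫ (p₂ ∣_ W') = inv l := by
      rw [← cancel_epi l, reassoc_of% hl, hsec, IsIso.hom_inv_id]
    rw [e]; infer_instance
  rw [morphismRestrict_comp]
  exact ‹IsIso ((𝒥.subschemeι ∣_ O) ≫ (p₂ ∣_ W'))›

open Topology in
/-- **Strict transforms become isomorphisms near a closed set.** -/
theorem exists_strictTransform_iso [CompactSpace X] [QuasiSeparatedSpace X] [CompactSpace Y] [QuasiSeparatedSpace Y]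
    (f : X ⟶ Y) [IsProper f] (V : Y.Opens) (hV : IsCompact (V : Set Y)) (T : Set Y) (hTV : T ⊆ V)
    (hT : IsClosed (Subtype.val ⁻¹' T : Set V))
    (hiso : ∃ W : Y.Opens, T ⊆ W ∧ W ≤ V ∧ IsIso (f ∣_ W)) :
    ∃ (I : Y.IdealSheafData) (Y' : Scheme.{u}) (b : Y' ⟶ Y), BlowUp.IsBlowUp b I ∧ BlowUp.IsAdmissibleFor V I ∧
      ∀ (X' : Scheme.{u}) (p₁ : X' ⟶ X) (p₂ : X' ⟶ Y'), IsPullback p₁ p₂ f b →
      ∀ (𝒥 : X'.IdealSheafData),
        (∀ (W : X'.affineOpens) (a : Γ(X', W.1)), a ∈ 𝒥.ideal W ↔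
          BlowUp.KilledByPowerNear ((I.comap f).comap p₁) (Coh.structureModule X') W a) →
        ∃ W' : Y'.Opens, closure (b.base ⁻¹' T) ⊆ W' ∧ IsIso ((𝒥.subschemeι ≫ p₂) ∣_ W') := by
  obtain ⟨W, hTW, hWV, hW⟩ := hiso
  haveI : CompactSpace V := isCompact_iff_compactSpace.1 hV
  haveI : QuasiSeparatedSpace V := quasiSeparatedSpace_of_quasiSeparated V.ι
  have hTc : IsCompact T := by
    have h := hT.isCompact.image continuous_subtype_val
    rwa [Set.image_preimage_eq_of_subset fun x hx => ⟨⟨x, hTV hx⟩, rfl⟩] at h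
  obtain ⟨W₀, hW₀c, hTW₀, hW₀W⟩ := exists_compact_open_between hTc W hTW
  obtain ⟨O, hOc, hWO, hOT⟩ := exists_compact_open_between (hV.inter_right W₀.2.isClosed_compl)
    ⟨Subtype.val '' (Subtype.val ⁻¹' T : Set V)ᶜ, V.2.isOpenMap_subtype_val _ hT.isOpen_compl⟩
    (fun x hx => ⟨⟨x, hx.1⟩, fun h => hx.2 (hTW₀ h), rfl⟩)
  have hOV : (O : Set Y) ⊆ V := fun x hx => by obtain ⟨v, -, rfl⟩ := hOT hx; exact v.2
  have hcons : ∀ P : Y.Opens, IsCompact (P : Set Y) → (P : Set Y) ⊆ V →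
      IsConstructible (Subtype.val ⁻¹' (P : Set Y) : Set V)ᶜ := fun P hP hPV => by
    have hc : IsCompact (Subtype.val ⁻¹' (P : Set Y) : Set V) := by
      refine Topology.IsEmbedding.subtypeVal.isCompact_iff.2 ?_
      refine (congrArg IsCompact (Set.ext fun x => ?_)).mpr hP
      exact ⟨fun ⟨v, hv, hvx⟩ => hvx ▸ hv, fun hx => ⟨⟨x, hPV hx⟩, hx, rfl⟩⟩
    have ho : IsOpen (Subtype.val ⁻¹' (P : Set Y) : Set V) := P.2.preimage continuous_subtype_val
    exact ((hc.isRetrocompact ho).isConstructible ho).compl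
  obtain ⟨J₁, Y₁, b₁, hb₁, hJ₁, hdis⟩ := Groth.L20.AdmSep.exists_separating V hV
    (Subtype.val ⁻¹' (O : Set Y))ᶜ (Subtype.val ⁻¹' (W₀ : Set Y))ᶜ
    (O.2.preimage continuous_subtype_val).isClosed_compl (W₀.2.preimage continuous_subtype_val).isClosed_compl
    (hcons O hOc hOV) (hcons W₀ hW₀c (hW₀W.trans hWV))
    (Set.disjoint_left.2 fun x hx hx' => hx (hWO ⟨x.2, hx'⟩))
  haveI := Groth.L13.BU.isProper_blowUp hb₁ hJ₁.1
  haveI : CompactSpace Y₁ := QuasiCompact.compactSpace_of_compactSpace b₁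
  haveI : QuasiSeparatedSpace Y₁ := quasiSeparatedSpace_of_quasiSeparated b₁
  obtain ⟨W₁, hW₁c, hTW₁, hW₁W⟩ := exists_compact_open_between
    (isClosed_closure (s := b₁.base ⁻¹' (Subtype.val '' (Subtype.val ⁻¹' (O : Set Y) : Set V)ᶜ))).isCompact
    ⟨(closure (b₁.base ⁻¹' (Subtype.val '' (Subtype.val ⁻¹' (W₀ : Set Y) : Set V)ᶜ)))ᶜ,
      isClosed_closure.isOpen_compl⟩ (fun x hx => Set.disjoint_left.1 hdis hx)
  have hW₁W' : ∀ y ∈ W₁, b₁ y ∈ V → b₁ y ∈ W := fun y hy hyV => by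
    by_contra hyW
    exact hW₁W hy (subset_closure ⟨⟨b₁ y, hyV⟩, fun h => hyW (hW₀W h), rfl⟩)
  haveI : CompactSpace (W₁ : Scheme.{u}) := isCompact_iff_compactSpace.1 hW₁c
  haveI : QuasiSeparatedSpace (W₁ : Scheme.{u}) := quasiSeparatedSpace_of_quasiSeparated W₁.ι
  haveI : QuasiCompact W₁.ι := quasiCompact_of_compactSpace W₁.ι
  let U₁ : (W₁ : Scheme.{u}).Opens := W₁.ι ⁻¹ᵁ (b₁ ⁻¹ᵁ V)
  have hbV : IsCompact ((b₁ ⁻¹ᵁ V : Y₁.Opens) : Set Y₁) := b₁.isCompact_preimage hV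
  have hU₁ : IsCompact (U₁ : Set (W₁ : Scheme.{u})) := W₁.ι.isCompact_preimage hbV
  let g := W₁.ι ≫ b₁
  let p := pullback.snd f g
  haveI : IsProper p := MorphismProperty.pullback_snd _ _ inferInstance
  haveI : IsIso (p ∣_ U₁) := isIso_restrict_of_isPullback (IsPullback.of_hasPullback f g) W U₁
    fun y hy => by rw [Scheme.Hom.comp_apply]; exact hW₁W' _ y.2 hy
  obtain ⟨J, X₁, T₁, b', c, h, hb', hc, hJ, hJs, hh, hhb⟩ := exists_isIso_blowUps p U₁ hU₁
  obtain ⟨K₁, hK₁, hK₁W, hK₁b⟩ := Groth.Agent.S8857.result Y₁ (b₁ ⁻¹ᵁ V) W₁ hbV hW₁c J hJ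
  obtain ⟨Y₂, e, he⟩ := Groth.L13.BU.exists_isBlowUp K₁
  haveI := Groth.L13.BU.isProper_blowUp he hK₁.1
  obtain ⟨K, hKft, hKs, hKb⟩ := Groth.L06.BlowComp.exists_isBlowUp_comp hb₁ hJ₁.1 hK₁.1 he
  have hKV : BlowUp.IsAdmissibleFor V K := by
    refine ⟨hKft, Set.disjoint_left.2 fun x hx hxV => ?_⟩
    rw [hKs] at hx
    rcases hx with hx | ⟨y, hy, rfl⟩
    · exact Set.disjoint_left.1 hJ₁.2 hx hxV
    · exact Set.disjoint_left.1 hK₁.2 hy hxV
  refine ⟨K, Y₂, e ≫ b₁, hKb, hKV, fun X' p₁ p₂ H 𝒥 h𝒥 => ⟨e ⁻¹ᵁ W₁, ?_, ?_⟩⟩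
  · refine (closure_minimal (fun y hy => ?_) (isClosed_closure.preimage e.continuous)).trans
      (Set.preimage_mono hTW₁)
    have hy : b₁ (e y) ∈ T := by rw [← Scheme.Hom.comp_apply]; exact hy
    refine subset_closure ⟨⟨b₁ (e y), hTV hy⟩, fun h => ?_, rfl⟩
    obtain ⟨v, hv, hve⟩ := hOT h
    exact hv (show v.1 ∈ T from hve ▸ hy)
  obtain ⟨k, hk, -⟩ := hb'.2 _ (e ∣_ W₁) (hK₁b Y₂ e he).1
  replace hk : k ≫ b' = e ∣_ W₁ := hk
  let γ := k ≫ inv h ≫ c ≫ pullback.fst f g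
  have hγ : γ ≫ f = (e ⁻¹ᵁ W₁).ι ≫ e ≫ b₁ := by
    simp only [γ, g, Category.assoc, pullback.condition]
    rw [← morphismRestrict_ι_assoc, ← hk, Category.assoc, ← reassoc_of% hhb, IsIso.inv_hom_id_assoc]
  haveI : IsProper p₂ := MorphismProperty.of_isPullback H inferInstance
  haveI : CompactSpace (e ⁻¹ᵁ W₁ : Y₂.Opens) := isCompact_iff_compactSpace.1 (e.isCompact_preimage hW₁c)
  haveI : QuasiSeparatedSpace Y₂ := quasiSeparatedSpace_of_quasiSeparated e
  haveI : QuasiSeparatedSpace X' := quasiSeparatedSpace_of_quasiSeparated p₂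
  let D := K.comap (e ≫ b₁)
  have hE : (K.comap f).comap p₁ = D.comap p₂ := by
    show _ = (K.comap (e ≫ b₁)).comap p₂
    rw [← Scheme.IdealSheafData.comap_comp, ← Scheme.IdealSheafData.comap_comp, H.w]
  rw [hE] at h𝒥
  have hft : BlowUp.IsFiniteTypeIdeal (D.comap p₂) := hE ▸ isFiniteType_comap (isFiniteType_comap hKft f) p₁
  haveI : IsIso (p₂ ∣_ (e ⁻¹ᵁ W₁ ⊓ D.support.compl)) := isIso_restrict_of_isPullback H W _ fun y hy => by
    obtain ⟨hy₁, hy₂⟩ := hy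
    have hy₁ : e y ∈ W₁ := hy₁
    rw [Scheme.Hom.comp_apply]
    refine hW₁W' _ hy₁ (by_contra fun hV' => hy₂ ?_)
    show y ∈ ((K.comap (e ≫ b₁)).support : Set Y₂)
    rw [Scheme.IdealSheafData.support_comap, Closeds.coe_preimage, Set.mem_preimage, Scheme.Hom.comp_apply, hKs]
    refine Or.inr ⟨e y, ?_, rfl⟩
    have h0 : (⟨e y, hy₁⟩ : (W₁ : Scheme.{u})) ∈ (J.support : Set (W₁ : Scheme.{u})) := by
      rw [hJs]; exact hV'
    rw [← hK₁W, Scheme.IdealSheafData.support_comap] at h0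
    exact h0
  exact isIso_strict_restrict p₂ D hKb.1 hft (e ⁻¹ᵁ W₁) (H.lift γ _ hγ) (H.lift_snd _ _ _) 𝒥 h𝒥

end Groth.L13.Nagata
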