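import Groth.Agent.L13.Nagata.ExtendSection

/-!
# Extending quasi-dominations
-/

set_option autoImplicit false
set_option linter.style.haveILetI false
set_option backward.isDefEq.respectTransparency.types false

universe u

open CategoryTheory CategoryTheory.Limits AlgebraicGeometry TopologicalSpace

noncomputable section

namespace Groth.L13.Nagata

variable {X Y S T : Scheme.{u}}

/-- The preimage of the open left alone lies in the image of the strict transform of a section over it. -/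
theorem preimage_le_opensRange {X' T' U : Scheme.{u}} {b : X' ⟶ X} {c : T' ⟶ T} {J : X.IdealSheafData}
    {p : T ⟶ X} (hb : BlowUp.IsBlowUp b J) (hc : BlowUp.IsBlowUp c (J.comap p)) (h : T' ⟶ X') [IsOpenImmersion h]
    (hhb : h ≫ b = c ≫ p) (j : U ⟶ X) [IsOpenImmersion j] (t : U ⟶ T) (ht : t ≫ p = j)
    (hd : Disjoint (J.support : Set X) (j.opensRange : Set X)) : b ⁻¹ᵁ j.opensRange ≤ h.opensRange := by
  intro z hz
  obtain ⟨x, hx⟩ := hz
  have hd' : Disjoint ((J.comap p).support : Set T) ((p ⁻¹ᵁ j.opensRange : T.Opens) : Set T) := by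
    rw [Scheme.IdealSheafData.support_comap, Closeds.coe_preimage]
    exact Disjoint.preimage _ hd
  have htx : p (t x) = j x := by rw [← Scheme.Hom.comp_apply, ht]
  obtain ⟨w, hw, -⟩ := surjective_over_of_admissible hc hd' (x := t x)
    (show p (t x) ∈ j.opensRange from htx ▸ ⟨x, rfl⟩)
  obtain ⟨z', -, hu⟩ := surjective_over_of_admissible hb hd (x := b z) ⟨x, hx⟩
  refine ⟨w, (hu _ ?_).trans (hu _ rfl).symm⟩
  rw [← Scheme.Hom.comp_apply, hhb, Scheme.Hom.comp_apply, hw, htx]
  exact hx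

/-- Preimages of dense opens under a blow-up in an ideal supported on the complement of a bigger open. -/
theorem dense_preimage_blowUp {X' : Scheme.{u}} {b : X' ⟶ X} {J : X.IdealSheafData} (hb : BlowUp.IsBlowUp b J)
    (U V : X.Opens) (hUd : Dense (U : Set X)) (hJ : (J.support : Set X) = (V : Set X)ᶜ) :
    Dense ((b ⁻¹ᵁ U : X'.Opens) : Set X') := by
  haveI := isIso_restrict_of_admissible hb (U := V) (Set.disjoint_left.2 fun x hx hx' => (hJ.subset hx) hx')
  rw [dense_iff_inter_open]
  intro O hO hne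
  obtain ⟨y, hy, hyV⟩ := (dense_compl_effCartier hb.1).inter_open_nonempty O hO hne
  rw [Scheme.IdealSheafData.support_comap, Closeds.coe_preimage, hJ, Set.preimage_compl, compl_compl] at hyV
  haveI : IsOpenImmersion ((b ⁻¹ᵁ V).ι ≫ b) := by rw [← morphismRestrict_ι]; infer_instance
  let O' : (b ⁻¹ᵁ V : X'.Opens).toScheme.Opens := (b ⁻¹ᵁ V).ι ⁻¹ᵁ ⟨O, hO⟩
  have hopen : IsOpen (((b ⁻¹ᵁ V).ι ≫ b) '' (O' : Set _)) :=
    ((b ⁻¹ᵁ V).ι ≫ b).isOpenEmbedding.isOpenMap _ O'.2
  obtain ⟨_, ⟨w, hw, rfl⟩, hwU⟩ := hUd.inter_open_nonempty _ hopen ⟨_, ⟨⟨y, hyV⟩, hy, rfl⟩⟩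
  refine ⟨_, hw, ?_⟩
  rw [Scheme.Hom.comp_apply] at hwU
  exact hwU

/-- **Extending a quasi-domination.** -/
theorem exists_quasiDomination [CompactSpace X] [QuasiSeparatedSpace X] [CompactSpace S] [QuasiSeparatedSpace S]
    [CompactSpace Y] (pX : X ⟶ S) (pY : Y ⟶ S) [IsSeparated pY] [LocallyOfFiniteType pY]
    (U V : X.Opens) (hUV : U ≤ V) (hU : IsCompact (U : Set X)) (hV : IsCompact (V : Set X))
    (hUd : Dense (U : Set X))
    (f : (U : Scheme.{u}) ⟶ Y) (hf : U.ι ≫ pX = f ≫ pY)
    (hcl : closure (Set.range (fun x => pullback.lift U.ι f hf x)) ∩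
        ((pullback.fst pX pY) ⁻¹ᵁ V : Set ↥(pullback pX pY)) ⊆ Set.range (fun x => pullback.lift U.ι f hf x)) :
    ∃ (I : X.IdealSheafData) (Xt : Scheme.{u}) (q : Xt ⟶ X),
      BlowUp.IsBlowUp q I ∧ BlowUp.IsAdmissibleFor V I ∧
      ∃ (W : Xt.Opens) (hle : q ⁻¹ᵁ U ≤ W) (ft : (W : Scheme.{u}) ⟶ Y) (hft : W.ι ≫ q ≫ pX = ft ≫ pY),
        Dense (W : Set Xt) ∧ Xt.homOfLE hle ≫ ft = (q ∣_ U) ≫ f ∧
        IsClosed (Set.range (fun x => pullback.lift W.ι ft hft x)) := by
  haveI : CompactSpace (U : Scheme.{u}) := isCompact_iff_compactSpace.1 hU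
  haveI : QuasiCompact pY := quasiCompact_of_compactSpace pY
  obtain ⟨T, i, t, hi, hto, htd, htq, ht, htf, hpre, hiso⟩ := exists_graphClosure pX pY U.ι f hf
  let p := i ≫ pullback.fst pX pY
  let q₂ := i ≫ pullback.snd pX pY
  haveI : IsSeparated (pullback.fst pX pY) := MorphismProperty.pullback_fst _ _ inferInstance
  haveI : QuasiCompact (pullback.fst pX pY) := MorphismProperty.pullback_fst _ _ inferInstance
  haveI : LocallyOfFiniteType (pullback.fst pX pY) := MorphismProperty.pullback_fst _ _ inferInstance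
  haveI : IsSeparated p := inferInstanceAs (IsSeparated (i ≫ pullback.fst pX pY))
  haveI : QuasiCompact p := inferInstanceAs (QuasiCompact (i ≫ pullback.fst pX pY))
  haveI : LocallyOfFiniteType p := inferInstanceAs (LocallyOfFiniteType (i ≫ pullback.fst pX pY))
  haveI : IsDominant t := inferInstance
  have hti : t ≫ i = pullback.lift U.ι f hf := by
    refine pullback.hom_ext ?_ ?_
    · rw [pullback.lift_fst, Category.assoc]; exact ht
    · rw [pullback.lift_snd, Category.assoc]; exact htf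
  have hpV : p ⁻¹ᵁ V = t.opensRange := by
    refine le_antisymm (fun z hz => ?_) ?_
    · have h1 : i z ∈ closure (Set.range (fun x => pullback.lift U.ι f hf x)) := by
        rw [← hti]
        refine closure_mono ?_ (image_closure_subset_closure_image i.continuous ⟨z, t.denseRange z, rfl⟩)
        rintro _ ⟨_, ⟨x, rfl⟩, rfl⟩
        exact ⟨x, Scheme.Hom.comp_apply t i x⟩
      obtain ⟨x, hx⟩ := hcl ⟨h1, hz⟩
      exact ⟨x, i.isClosedEmbedding.injective (((Scheme.Hom.comp_apply t i x).symm.trans (congrArg (fun φ : (U : Scheme.{u}) ⟶ pullback pX pY => φ x) hti)).trans hx)⟩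
    · rintro _ ⟨x, rfl⟩
      show p (t x) ∈ V
      rw [← Scheme.Hom.comp_apply, show t ≫ p = U.ι from ht]
      exact hUV x.2
  haveI : IsOpenImmersion (p ∣_ V) := by
    haveI : IsOpenImmersion ((p ⁻¹ᵁ V).ι ≫ p) := by
      rw [hpV, ← t.isoOpensRange_inv_comp, Category.assoc, show t ≫ p = U.ι from ht]
      infer_instance
    exact isOpenImmersion_restrict_of_comp p V
  obtain ⟨J, X', T', b, c, h, hb, hc, hJ, hJs, hh, hhb⟩ := exists_openImmersion_blowUps p V hV
  haveI := Groth.L13.BU.isProper_blowUp hb hJ.1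
  haveI := Groth.L13.BU.isProper_blowUp hc (isFiniteType_comap hJ.1 p)
  have hdU : Disjoint (J.support : Set X) (U : Set X) := hJ.2.mono_right hUV
  have hle : b ⁻¹ᵁ U ≤ h.opensRange := by
    have := preimage_le_opensRange hb hc h hhb U.ι t ht (by rw [Scheme.Opens.opensRange_ι]; exact hdU)
    rwa [Scheme.Opens.opensRange_ι] at this
  let ft : (h.opensRange : Scheme.{u}) ⟶ Y := h.isoOpensRange.inv ≫ c ≫ q₂
  have hW : h.opensRange.ι = h.isoOpensRange.inv ≫ h := (Scheme.Hom.isoOpensRange_inv_comp h).symm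
  have hft : h.opensRange.ι ≫ b ≫ pX = ft ≫ pY := by
    rw [hW, Category.assoc, reassoc_of% hhb]
    simp only [ft, p, q₂, Category.assoc, pullback.condition]
  refine ⟨J, X', b, hb, hJ, h.opensRange, hle, ft, hft, (dense_preimage_blowUp hb U V hUd hJs).mono hle, ?_, ?_⟩
  · haveI : IsIso (p ∣_ U) := by
      have := hiso
      rwa [Scheme.Opens.opensRange_ι] at this
    have key : X'.homOfLE hle ≫ h.isoOpensRange.inv ≫ c = (b ∣_ U) ≫ t := by
      have e1 : (X'.homOfLE hle ≫ h.isoOpensRange.inv ≫ c) ≫ p = (b ∣_ U) ≫ U.ι := by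
        rw [morphismRestrict_ι]
        simp only [Category.assoc, ← hhb, Scheme.Hom.isoOpensRange_inv_comp_assoc, Scheme.homOfLE_ι_assoc]
      refine eq_of_isIso_restrict p U (e1.trans (by rw [Category.assoc]; exact congrArg ((b ∣_ U) ≫ ·) ht.symm))
        fun z => ?_
      rw [← Scheme.Hom.comp_apply, e1, Scheme.Hom.comp_apply]
      exact ((b ∣_ U) z).2
    exact (by simp only [ft, Category.assoc] : X'.homOfLE hle ≫ ft = (X'.homOfLE hle ≫ h.isoOpensRange.inv ≫ c) ≫ q₂).trans
      ((congrArg (· ≫ q₂) key).trans ((Category.assoc _ t q₂).trans (congrArg ((b ∣_ U) ≫ ·) htf)))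
  · let m : pullback (b ≫ pX) pY ⟶ pullback pX pY :=
      pullback.map _ _ _ _ b (𝟙 Y) (𝟙 S) (Category.comp_id _) (by rw [Category.comp_id, Category.id_comp])
    haveI : IsSeparated m := MorphismProperty.pullback_map (P := @IsSeparated)
      (inferInstanceAs (IsSeparated b)) (inferInstanceAs (IsSeparated (𝟙 Y))) rfl (Category.id_comp _).symm
    let l : T' ⟶ pullback (b ≫ pX) pY := h.isoOpensRange.hom ≫ pullback.lift h.opensRange.ι ft hft
    have e : l ≫ m = c ≫ i := by
      refine pullback.hom_ext ?_ ?_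
      · simp only [l, m, Category.assoc, pullback.lift_fst, pullback.lift_fst_assoc,
          Scheme.Hom.isoOpensRange_hom_ι_assoc, hhb, p]
      · simp only [l, m, Category.assoc, pullback.lift_snd, pullback.lift_snd_assoc, Category.comp_id, ft, q₂,
          Iso.hom_inv_id_assoc]
    haveI : IsProper (l ≫ m) := by rw [e]; infer_instance
    haveI : IsProper l := IsProper.of_comp l m
    have hrange : Set.range (fun x => pullback.lift h.opensRange.ι ft hft x) = Set.range l := by
      ext z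
      constructor
      · rintro ⟨x, rfl⟩
        exact ⟨h.isoOpensRange.inv x, by simp only [l, ← Scheme.Hom.comp_apply, Iso.inv_hom_id_assoc]⟩
      · rintro ⟨x, rfl⟩
        exact ⟨h.isoOpensRange.hom x, (Scheme.Hom.comp_apply _ _ x).symm⟩
    rw [hrange]
    exact l.isClosedMap.isClosed_range

end Groth.L13.Nagata
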