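import Groth.Agent.L13.Nagata.CommonBirational
import Groth.Agent.L13.Nagata.QuasiDom
import Groth.Agent.L18.PBundle.FTProj
import Groth.Agent.L18.AmpleComp
import Groth.Agent.L18.ProjAlg.TwistAmple
import Groth.Agent.L27.Quot.ProjProper
import Groth.Agent.L06.BlowProj

/-!
# Chow's lemma by an admissible blow-up
-/

set_option autoImplicit false
set_option linter.style.haveILetI false
set_option backward.isDefEq.respectTransparency.types false

universe u

open CategoryTheory CategoryTheory.Limits AlgebraicGeometry TopologicalSpace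

noncomputable section

namespace Groth.L13.Nagata

/-- Projective morphisms compose over a quasi-compact quasi-separated base. -/
theorem isProjective_comp {X Y Z : Scheme.{u}} [CompactSpace Z] [QuasiSeparatedSpace Z] (f : X ⟶ Y) (g : Y ⟶ Z)
    (hf : RelProj.IsProjective f) (hg : RelProj.IsProjective g) : RelProj.IsProjective (f ≫ g) := by
  haveI := Groth.L27.ProjProper.isProper_of_isProjective hf
  haveI := Groth.L27.ProjProper.isProper_of_isProjective hg
  obtain ⟨-, -, L, hL⟩ := Groth.L18.TwistAmp.isQuasiProjective_of_isProjective hf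
  obtain ⟨-, -, K, hK⟩ := Groth.L18.TwistAmp.isQuasiProjective_of_isProjective hg
  obtain ⟨n, -, hn⟩ := Groth.L18.Ample.exists_forall_isRelAmple_comp f g hL hK
  exact Groth.L18.PBundle.isProjective_of_isQuasiProjective _
    ⟨inferInstance, inferInstance, _, hn n le_rfl⟩

/-- **Chow's lemma by an admissible blow-up.** -/
theorem exists_chow_blowUp {X S : Scheme.{u}} [CompactSpace S] [QuasiSeparatedSpace S]
    (f : X ⟶ S) [IsSeparated f] [QuasiCompact f] [LocallyOfFiniteType f]
    (U : X.Opens) (hU : IsCompact (U : Set X)) (hUd : Dense (U : Set X))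
    (hq : RelProj.IsQuasiProjective (U.ι ≫ f)) :
    ∃ (I : X.IdealSheafData) (X' P : Scheme.{u}) (q : X' ⟶ X) (j : X' ⟶ P) (g : P ⟶ S),
      BlowUp.IsBlowUp q I ∧ BlowUp.IsAdmissibleFor U I ∧ RelProj.IsProjective g ∧
      IsOpenImmersion j ∧ IsDominant j ∧ j ≫ g = q ≫ f := by
  haveI : CompactSpace (U : Scheme.{u}) := isCompact_iff_compactSpace.1 hU
  obtain ⟨-, -, 𝒮, P₀, p, chart, j₀, hgen, hft, hP, hj₀o, hj₀d, hj₀⟩ :=
    (Groth.L18.PBundle.isQuasiProjective_iff_openDense (U.ι ≫ f)).1 hq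
  have hproj : RelProj.IsProjective p := ⟨𝒮, P₀, p, chart, Iso.refl _, hgen, hft, hP, Category.id_comp p⟩
  haveI : IsProper p := Groth.L27.ProjProper.isProper_of_isProjective hproj
  haveI : CompactSpace X := QuasiCompact.compactSpace_of_compactSpace f
  haveI : QuasiSeparatedSpace X := quasiSeparatedSpace_of_quasiSeparated f
  haveI : CompactSpace P₀ := QuasiCompact.compactSpace_of_compactSpace p
  haveI : QuasiSeparatedSpace P₀ := quasiSeparatedSpace_of_quasiSeparated p
  obtain ⟨T, i, t, hi, hto, htd, htq, ht, htσ, -, hiso⟩ := exists_graphClosure f p U.ι j₀ hj₀.symm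
  let π := i ≫ pullback.fst f p
  let σ := i ≫ pullback.snd f p
  haveI : IsDominant t := inferInstance
  haveI : IsProper (pullback.fst f p) := MorphismProperty.pullback_fst _ _ inferInstance
  haveI : IsSeparated (pullback.snd f p) := MorphismProperty.pullback_snd _ _ inferInstance
  haveI : QuasiCompact (pullback.snd f p) := MorphismProperty.pullback_snd _ _ inferInstance
  haveI : LocallyOfFiniteType (pullback.snd f p) := MorphismProperty.pullback_snd _ _ inferInstance
  haveI : IsProper π := inferInstanceAs (IsProper (i ≫ pullback.fst f p))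
  haveI : IsSeparated σ := inferInstanceAs (IsSeparated (i ≫ pullback.snd f p))
  haveI : QuasiCompact σ := inferInstanceAs (QuasiCompact (i ≫ pullback.snd f p))
  haveI : LocallyOfFiniteType σ := inferInstanceAs (LocallyOfFiniteType (i ≫ pullback.snd f p))
  haveI : CompactSpace T := QuasiCompact.compactSpace_of_compactSpace π
  haveI : QuasiSeparatedSpace T := quasiSeparatedSpace_of_quasiSeparated π
  have hπU : π ⁻¹ᵁ U.ι.opensRange = t.opensRange := preimage_range_of_section π U.ι t ht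
  have hσU : σ ⁻¹ᵁ j₀.opensRange = t.opensRange := preimage_range_of_section σ j₀ t htσ
  haveI : IsIso (π ∣_ U.ι.opensRange) := hiso
  haveI : IsIso (σ ∣_ j₀.opensRange) := isIso_restrict_of_section σ j₀ t htσ hσU.le
  obtain ⟨I, J₁, J₂, Tt, Xt, Pt, b, c₁, c₂, k₁, k₂, hb, hI, hc₁, hJ₁, hd₁, hc₂, hJ₂, hd₂, hk₁o, hk₂o, e₁, e₂⟩ :=
    exists_common_birational π σ U.ι.opensRange j₀.opensRange (isCompact_range U.ι.continuous)
      (isCompact_range j₀.continuous)
  rw [hπU, hσU, inf_idem] at hI hd₁ hd₂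
  have himg : ∀ {Z : Scheme.{u}} (ρ : T ⟶ Z) (jj : (U : Scheme.{u}) ⟶ Z), t ≫ ρ = jj →
      (fun x => ρ x) '' (t.opensRange : Set T) = Set.range jj := by
    intro Z ρ jj h
    show (fun x => ρ x) '' Set.range t = _
    rw [← Set.range_comp, ← h, Scheme.Hom.comp_base, TopCat.coe_comp]
  rw [himg π U.ι ht, Scheme.Opens.range_ι] at hd₁
  rw [himg σ j₀ htσ] at hd₂
  haveI := Groth.L13.BU.isProper_blowUp hb hI.1
  haveI := Groth.L13.BU.isProper_blowUp hc₁ hJ₁
  haveI : IsProper (k₁ ≫ c₁) := by rw [e₁]; infer_instance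
  haveI : IsProper k₁ := IsProper.of_comp k₁ c₁
  haveI : Surjective k₁ := ⟨fun z => by
    have hcl : IsClosed (Set.range k₁) := k₁.isClosedMap.isClosed_range
    have hd : Dense ((c₁ ⁻¹ᵁ U : Xt.Opens) : Set Xt) :=
      dense_preimage_blowUp hc₁ U J₁.support.compl hUd (compl_compl _).symm
    refine closure_minimal (fun w hw => ?_) hcl (hd z)
    obtain ⟨w', hw', -⟩ := surjective_over_of_admissible hb hI.2 (x := t ⟨c₁ w, hw⟩) ⟨_, rfl⟩
    obtain ⟨w₀, -, hu⟩ := surjective_over_of_admissible hc₁ hd₁ (x := c₁ w) hw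
    refine ⟨w', (hu _ ?_).trans (hu _ rfl).symm⟩
    rw [← Scheme.Hom.comp_apply, e₁, Scheme.Hom.comp_apply, hw', ← Scheme.Hom.comp_apply,
      show t ≫ π = U.ι from ht]
    rfl⟩
  haveI : IsIso k₁ := (isIso_iff_isOpenImmersion_and_surjective _).2 ⟨inferInstance, inferInstance⟩
  refine ⟨J₁, Xt, Pt, c₁, inv k₁ ≫ k₂, c₂ ≫ p, hc₁, ⟨hJ₁, hd₁⟩,
    isProjective_comp c₂ p (Groth.L06.BlowProj.isProjective_of_isBlowUp J₂ hJ₂ c₂ hc₂) hproj, inferInstance, ?_, ?_⟩
  · refine ⟨?_⟩
    have hd : Dense ((c₂ ⁻¹ᵁ j₀.opensRange : Pt.Opens) : Set Pt) :=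
      dense_preimage_blowUp hc₂ j₀.opensRange J₂.support.compl hj₀d (compl_compl _).symm
    show Dense (Set.range (inv k₁ ≫ k₂))
    rw [Scheme.Hom.comp_base, TopCat.coe_comp, Set.range_comp, (inv k₁).surjective.range_eq, Set.image_univ]
    refine hd.mono fun w hw => ?_
    obtain ⟨x, hx⟩ := hw
    obtain ⟨w', hw', -⟩ := surjective_over_of_admissible hb hI.2 (x := t x) ⟨_, rfl⟩
    obtain ⟨w₀, -, hu⟩ := surjective_over_of_admissible hc₂ (U := j₀.opensRange) hd₂ (x := c₂ w) ⟨x, hx⟩
    refine ⟨w', (hu _ ?_).trans (hu _ rfl).symm⟩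
    rw [← Scheme.Hom.comp_apply, e₂, Scheme.Hom.comp_apply, hw', ← Scheme.Hom.comp_apply,
      show t ≫ σ = j₀ from htσ]
    exact hx
  · rw [Category.assoc, reassoc_of% e₂]
    simp only [σ, π, Category.assoc, ← pullback.condition] at e₁ ⊢
    rw [← reassoc_of% e₁, IsIso.inv_hom_id_assoc]

end Groth.L13.Nagata
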