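import Groth.Agent.L13.Nagata.Immersion

/-!
# Admissible blow-ups dominate modifications
-/

set_option autoImplicit false
set_option linter.style.haveILetI false
set_option backward.isDefEq.respectTransparency.types false

universe u

open CategoryTheory CategoryTheory.Limits AlgebraicGeometry TopologicalSpace
open Groth.L13.MP

noncomputable section

namespace Groth.L13.Nagata

variable {X T S : Scheme.{u}}

/-- Unpacked form of `exists_good`. -/
theorem exists_openImmersion_blowUps [CompactSpace X] [QuasiSeparatedSpace X] (p : T ⟶ X) [IsSeparated p]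
    [QuasiCompact p] [LocallyOfFiniteType p] (U : X.Opens) (hU : IsCompact (U : Set X))
    [IsOpenImmersion (p ∣_ U)] :
    ∃ (J : X.IdealSheafData) (X' T' : Scheme.{u}) (b : X' ⟶ X) (c : T' ⟶ T) (h : T' ⟶ X'),
      BlowUp.IsBlowUp b J ∧ BlowUp.IsBlowUp c (J.comap p) ∧ BlowUp.IsAdmissibleFor U J ∧
      (J.support : Set X) = (U : Set X)ᶜ ∧ IsOpenImmersion h ∧ h ≫ b = c ≫ p := by
  obtain ⟨J, hJ, hs, hg⟩ := exists_good p U hU
  obtain ⟨X', b, hb⟩ := Groth.L13.BU.exists_isBlowUp J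
  obtain ⟨T', c, hc⟩ := Groth.L13.BU.exists_isBlowUp (J.comap p)
  obtain ⟨h, hh, -⟩ := hb.2 T' (c ≫ p) (by rw [Scheme.IdealSheafData.comap_comp]; exact hc.1)
  exact ⟨J, X', T', b, c, h, hb, hc, hJ, hs, hg b c hb hc h hh, hh⟩

/-- Over an open missing the centre a blow-up is an isomorphism. -/
theorem isIso_restrict_of_admissible {X' : Scheme.{u}} {b : X' ⟶ X} {J : X.IdealSheafData}
    (hb : BlowUp.IsBlowUp b J) {U : X.Opens} (hd : Disjoint (J.support : Set X) (U : Set X)) : IsIso (b ∣_ U) := by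
  obtain ⟨h, hh, -⟩ := (isBlowUp_restrict hb U).2 _ (𝟙 _) (by
    rw [Scheme.IdealSheafData.comap_id, Groth.L22.Ideals.comap_eq_top J U.ι
      fun y hy => Set.disjoint_left.1 hd hy y.2]
    exact Groth.L22.Ideals.isEffCartier_top)
  have hh : h ≫ (b ∣_ U) = 𝟙 _ := hh
  have h2 : (b ∣_ U) ≫ h = 𝟙 _ := by
    refine blowUp_hom_ext (isBlowUp_restrict hb U) ?_ (by rw [Category.assoc, hh, Category.comp_id, Category.id_comp])
    rw [Category.assoc, hh, Category.comp_id]
    exact (isBlowUp_restrict hb U).1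
  exact ⟨h, h2, hh⟩

theorem surjective_over_of_admissible {X' : Scheme.{u}} {b : X' ⟶ X} {J : X.IdealSheafData}
    (hb : BlowUp.IsBlowUp b J) {U : X.Opens} (hd : Disjoint (J.support : Set X) (U : Set X)) {x : X} (hx : x ∈ U) :
    ∃ x', b x' = x ∧ ∀ x'', b x'' = x → x'' = x' := by
  haveI := isIso_restrict_of_admissible hb hd
  let e := asIso (b ∣_ U)
  refine ⟨(e.inv ⟨x, hx⟩).1, ?_, fun x'' hx'' => ?_⟩
  · have h := morphismRestrict_base_coe b U (e.inv ⟨x, hx⟩)
    have h2 : (b ∣_ U) (e.inv ⟨x, hx⟩) = ⟨x, hx⟩ := by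
      rw [← Scheme.Hom.comp_apply]; simp [e]
    rw [h2] at h
    exact h.symm
  · have hmem : x'' ∈ b ⁻¹ᵁ U := show b x'' ∈ U from hx'' ▸ hx
    have h1 : (b ∣_ U) ⟨x'', hmem⟩ = ⟨x, hx⟩ :=
      Subtype.ext ((morphismRestrict_base_coe b U ⟨x'', hmem⟩).trans hx'')
    have h2 : e.inv ((b ∣_ U) ⟨x'', hmem⟩) = ⟨x'', hmem⟩ := by
      rw [← Scheme.Hom.comp_apply]; simp [e]
    rw [h1] at h2
    exact (congrArg Subtype.val h2).symm

/-- A proper modification is dominated: after an admissible blow-up it becomes an isomorphism. -/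
theorem exists_isIso_blowUps [CompactSpace X] [QuasiSeparatedSpace X] (p : T ⟶ X) [IsProper p]
    (U : X.Opens) (hU : IsCompact (U : Set X)) [IsIso (p ∣_ U)] :
    ∃ (J : X.IdealSheafData) (X' T' : Scheme.{u}) (b : X' ⟶ X) (c : T' ⟶ T) (h : T' ⟶ X'),
      BlowUp.IsBlowUp b J ∧ BlowUp.IsBlowUp c (J.comap p) ∧ BlowUp.IsAdmissibleFor U J ∧
      (J.support : Set X) = (U : Set X)ᶜ ∧ IsIso h ∧ h ≫ b = c ≫ p := by
  obtain ⟨J, X', T', b, c, h, hb, hc, hJ, hs, hoi, hh⟩ := exists_openImmersion_blowUps p U hU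
  refine ⟨J, X', T', b, c, h, hb, hc, hJ, hs, ?_, hh⟩
  haveI := Groth.L13.BU.isProper_blowUp hb hJ.1
  haveI := Groth.L13.BU.isProper_blowUp hc (isFiniteType_comap hJ.1 p)
  haveI : IsProper (h ≫ b) := by rw [hh]; infer_instance
  haveI : IsProper h := IsProper.of_comp h b
  haveI : Surjective h := ⟨fun y => by
    have hcl : IsClosed (Set.range h) := h.isClosedMap.isClosed_range
    have hd := dense_compl_effCartier hb.1
    refine hcl.closure_subset_iff.2 (fun z hz => ?_) (hd y)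
    have hzU : b z ∈ U := by
      by_contra hzU
      refine hz ?_
      show z ∈ (J.comap b).support
      refine (SetLike.ext_iff.1 (Scheme.IdealSheafData.support_comap J b) z).2 ?_
      show b z ∈ (J.support : Set X)
      rw [hs]; exact hzU
    let e := asIso (p ∣_ U)
    let t := e.inv ⟨b z, hzU⟩
    have ht : p t.1 = b z := by
      rw [← morphismRestrict_base_coe p U t]
      show ((p ∣_ U) (e.inv ⟨b z, hzU⟩)).1 = _
      rw [← Scheme.Hom.comp_apply]
      simp [e]
    obtain ⟨t', ht', -⟩ := surjective_over_of_admissible hc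
      (admissible_comap hJ p).2 (x := t.1) (show p t.1 ∈ U from ht ▸ hzU)
    obtain ⟨z', -, huniq⟩ := surjective_over_of_admissible hb hJ.2 hzU
    refine ⟨t', (huniq (h t') ?_).trans (huniq z rfl).symm⟩
    rw [← Scheme.Hom.comp_apply, hh, Scheme.Hom.comp_apply, ht', ht]⟩
  exact (isIso_iff_isOpenImmersion_and_surjective _).2 ⟨hoi, inferInstance⟩

end Groth.L13.Nagata
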