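import Groth.Agent.L13.Nagata.Pair
import Groth.Agent.L13.Nagata.Piece

/-!
# A common target for finitely many schemes containing the same open
-/

set_option autoImplicit false
set_option linter.style.haveILetI false
set_option backward.isDefEq.respectTransparency.types false

universe u

open CategoryTheory CategoryTheory.Limits AlgebraicGeometry TopologicalSpace

noncomputable section

namespace Groth.L13.Nagata

variable {U X S : Scheme.{u}}

/-- The identity is a blow-up in the unit ideal. -/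
theorem isBlowUp_id_top : BlowUp.IsBlowUp (𝟙 X) (⊤ : X.IdealSheafData) :=
  ⟨by rw [Scheme.IdealSheafData.comap_id]; exact Groth.L22.Ideals.isEffCartier_top,
    fun _ g _ => ⟨g, Category.comp_id g, fun l hl => by simpa using hl⟩⟩

/-- Any lift of an open immersion missing the centre is an open immersion with full preimage. -/
theorem lift_openImmersion {W X' : Scheme.{u}} {b : X' ⟶ X} {I : X.IdealSheafData} (hb : BlowUp.IsBlowUp b I)
    (j : W ⟶ X) [IsOpenImmersion j] (hd : Disjoint (I.support : Set X) (j.opensRange : Set X)) (u : W ⟶ X')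
    (hu : u ≫ b = j) : IsOpenImmersion u ∧ ((b ⁻¹ᵁ j.opensRange : X'.Opens) : Set X') = Set.range u := by
  obtain ⟨u', hu', hu'o, hr⟩ := exists_openImmersion_lift j hb hd
  have e : u' = u := by
    refine blowUp_hom_ext hb ?_ (hu'.trans hu.symm)
    rw [hu', Groth.L22.Ideals.comap_eq_top I _ fun y hy => Set.disjoint_left.1 hd hy ⟨y, rfl⟩]
    exact Groth.L22.Ideals.isEffCartier_top
  exact ⟨e ▸ hu'o, e ▸ hr⟩

/-- **A common target for finitely many schemes.** -/
theorem exists_common_target_many [CompactSpace S] [QuasiSeparatedSpace S] (gU : U ⟶ S) [QuasiCompact gU] (n : ℕ) :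
    ∀ (X : Fin n → Scheme.{u}) (g : ∀ i, X i ⟶ S) [∀ i, IsSeparated (g i)] [∀ i, QuasiCompact (g i)]
      [∀ i, LocallyOfFiniteType (g i)] (j : ∀ i, U ⟶ X i) [∀ i, IsOpenImmersion (j i)]
      (_ : ∀ i, j i ≫ g i = gU),
    ∃ (Xc : Scheme.{u}) (q : Xc ⟶ S) (_ : IsSeparated q) (_ : QuasiCompact q) (_ : LocallyOfFiniteType q)
      (I : ∀ i, (X i).IdealSheafData) (X' : Fin n → Scheme.{u}) (b : ∀ i, X' i ⟶ X i)
      (o : ∀ i, X' i ⟶ Xc) (u : ∀ i, U ⟶ X' i),
      (∀ i, BlowUp.IsBlowUp (b i) (I i) ∧ BlowUp.IsAdmissibleFor (j i).opensRange (I i) ∧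
        IsOpenImmersion (o i) ∧ o i ≫ q = b i ≫ g i ∧ u i ≫ b i = j i) ∧
      (⋃ i, Set.range (fun x => o i x)) = Set.univ ∧ (∀ i i', u i ≫ o i = u i' ≫ o i') := by
  induction n with
  | zero =>
    intro X g _ _ _ j _ _
    exact ⟨∅, Scheme.emptyTo S, inferInstance, inferInstance, inferInstance,
      fun i => i.elim0, fun i => i.elim0, fun i => i.elim0, fun i => i.elim0, fun i => i.elim0,
      fun i => i.elim0, Set.eq_univ_of_forall fun x => isEmptyElim x, fun i => i.elim0⟩
  | succ n ih =>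
    intro X g _ _ _ j _ hj
    rcases n with _ | n
    · refine ⟨X 0, g 0, inferInstance, inferInstance, inferInstance, fun _ => ⊤, X, fun i => 𝟙 (X i),
        fun i => eqToHom (congrArg X (Fin.fin_one_eq_zero i)), j, fun i => ?_, ?_, fun i i' => ?_⟩
      · obtain rfl := Fin.fin_one_eq_zero i
        exact ⟨isBlowUp_id_top, admissible_top _, inferInstance, by simp, Category.comp_id _⟩
      · exact Set.eq_univ_of_forall fun x => Set.mem_iUnion.2 ⟨0, x, by simp⟩
      · rw [Fin.fin_one_eq_zero i, Fin.fin_one_eq_zero i']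
    obtain ⟨Xc, q, _, _, _, I, X', b, o, u, hP, hcov, heq⟩ :=
      ih (fun i => X i.succ) (fun i => g i.succ) (fun i => j i.succ) (fun i => hj i.succ)
    have hu : ∀ i, IsOpenImmersion (u i) ∧ ((b i ⁻¹ᵁ (j i.succ).opensRange : (X' i).Opens) : Set (X' i)) = Set.range (u i) :=
      fun i => lift_openImmersion (hP i).1 (j i.succ) (hP i).2.1.2 (u i) (hP i).2.2.2.2
    haveI : ∀ i, IsOpenImmersion (u i) := fun i => (hu i).1
    haveI : ∀ i, IsOpenImmersion (o i) := fun i => (hP i).2.2.1
    let jc : U ⟶ Xc := u 0 ≫ o 0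
    haveI : IsOpenImmersion jc := inferInstanceAs (IsOpenImmersion (u 0 ≫ o 0))
    have hjc : jc ≫ q = gU := by
      rw [Category.assoc, (hP 0).2.2.2.1, reassoc_of% (hP 0).2.2.2.2, hj]
    obtain ⟨T, qT, hTs, hTl, hTc, I₀, Ic, X₀', Xc', b₀, bc, o₀, oc, u₀, uc, hb₀, hI₀, hbc, hIc, ho₀, hoc,
      he₀, hec, hu₀, huc, heq₀, hcov₀⟩ := exists_common_target gU (g 0) q (j 0) jc (hj 0) hjc
    haveI : ∀ i : Fin (n + 1), CompactSpace (X i.succ) := fun i => QuasiCompact.compactSpace_of_compactSpace (g i.succ)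
    haveI : ∀ i : Fin (n + 1), QuasiSeparatedSpace (X i.succ) := fun i => quasiSeparatedSpace_of_quasiSeparated (g i.succ)
    have hK : ∀ i, ∃ K : (X i.succ).IdealSheafData, BlowUp.IsAdmissibleFor (j i.succ).opensRange K ∧
        BlowUp.IsBlowUp (pullback.fst (o i) bc ≫ b i) K := by
      intro i
      obtain ⟨K, hK, hKs, hKb⟩ := Groth.L06.BlowComp.exists_isBlowUp_comp (hP i).1 (hP i).2.1.1
        (isFiniteType_comap hIc.1 (o i)) (Groth.L13.BU.isBlowUp_pullback (o i) hbc)
      refine ⟨K, ⟨hK, Set.disjoint_left.2 fun x hx hxU => ?_⟩, hKb⟩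
      rw [hKs] at hx
      rcases hx with hx | ⟨y, hy, rfl⟩
      · exact Set.disjoint_left.1 (hP i).2.1.2 hx hxU
      · obtain ⟨w, hw⟩ := (hu i).2.subset hxU
        rw [Scheme.IdealSheafData.support_comap] at hy
        refine Set.disjoint_left.1 hIc.2 hy ⟨w, ?_⟩
        show jc w = o i y
        rw [← hw, ← Scheme.Hom.comp_apply, heq i 0]
    choose K hKadm hKb using hK
    let X'' : Fin (n + 2) → Scheme.{u} := Fin.cases X₀' fun i => pullback (o i) bc
    refine ⟨T, qT, hTs, hTc, hTl, Fin.cases I₀ K, X'',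
      Fin.cases (motive := fun i => X'' i ⟶ X i) b₀ fun i => pullback.fst (o i) bc ≫ b i,
      Fin.cases (motive := fun i => X'' i ⟶ T) o₀ fun i => pullback.snd (o i) bc ≫ oc,
      Fin.cases (motive := fun i => U ⟶ X'' i) u₀ fun i => pullback.lift (u i) uc ((heq i 0).trans huc.symm),
      ?_, ?_, ?_⟩
    · refine Fin.cases ?_ ?_
      · exact ⟨hb₀, hI₀, ho₀, he₀, hu₀⟩
      · intro i
        refine ⟨hKb i, hKadm i, ?_, ?_, ?_⟩
        · haveI : IsOpenImmersion (pullback.snd (o i) bc) := MorphismProperty.pullback_snd _ _ inferInstance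
          exact inferInstanceAs (IsOpenImmersion (pullback.snd (o i) bc ≫ oc))
        · show (pullback.snd (o i) bc ≫ oc) ≫ qT = (pullback.fst (o i) bc ≫ b i) ≫ g i.succ
          rw [Category.assoc, hec, ← pullback.condition_assoc, (hP i).2.2.2.1, Category.assoc]
        · show pullback.lift (u i) uc _ ≫ pullback.fst (o i) bc ≫ b i = j i.succ
          rw [pullback.lift_fst_assoc, (hP i).2.2.2.2]
    · refine Set.eq_univ_of_forall fun w => Set.mem_iUnion.2 ?_
      rcases hcov₀ w with ⟨x, rfl⟩ | ⟨y, rfl⟩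
      · exact ⟨0, x, rfl⟩
      · obtain ⟨i, x, hx⟩ := Set.mem_iUnion.1 (hcov.symm.subset (Set.mem_univ (bc y)))
        obtain ⟨z, -, hz⟩ := Scheme.Pullback.exists_preimage_pullback x y (f := o i) (g := bc) hx
        exact ⟨i.succ, z, (Scheme.Hom.comp_apply (pullback.snd (o i) bc) oc z).trans (congrArg oc hz)⟩
    · have key : ∀ i : Fin (n + 2), (Fin.cases (motive := fun i => U ⟶ X'' i) u₀
          (fun i => pullback.lift (u i) uc ((heq i 0).trans huc.symm)) i) ≫
          Fin.cases (motive := fun i => X'' i ⟶ T) o₀ (fun i => pullback.snd (o i) bc ≫ oc) i = uc ≫ oc := by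
        refine Fin.cases ?_ ?_
        · exact heq₀
        · intro i
          show pullback.lift (u i) uc _ ≫ pullback.snd (o i) bc ≫ oc = uc ≫ oc
          rw [pullback.lift_snd_assoc]
      exact fun i i' => (key i).trans (key i').symm

end Groth.L13.Nagata
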