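import Groth.Agent.L13.Nagata.Main
import Groth.Agent.L18.AmpleOps
import Groth.Agent.L18.VeryAmpleOver
import Groth.Agent.L16.ProjSpace.Basic

/-!
# Nagata compactification
-/

set_option autoImplicit false
set_option linter.style.haveILetI false
set_option backward.isDefEq.respectTransparency.types false

universe u

open CategoryTheory CategoryTheory.Limits AlgebraicGeometry TopologicalSpace

noncomputable section

namespace Groth.L13.Nagata

variable {X S : Scheme.{u}}

/-- An affine scheme of finite type over a quasi-separated base is compactifiable. -/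
theorem exists_compactification_of_isAffine [CompactSpace S] [QuasiSeparatedSpace S] (g : X ⟶ S) [IsAffine X]
    [LocallyOfFiniteType g] :
    ∃ (Y : Scheme.{u}) (j : X ⟶ Y) (p : Y ⟶ S), IsOpenImmersion j ∧ QuasiCompact j ∧ IsProper p ∧ j ≫ p = g := by
  haveI : X.IsQuasiAffine := inferInstance
  obtain ⟨N, n, i, hi, hig, -⟩ :=
    Groth.L18.VeryAmpleOver.exists_isRelVeryAmplePn_of_isAmple g (Groth.L18.Ample.isAmple_structureModule (X := X))
  let q := CohB1.ProjSpaceOver.toBase n S
  haveI : IsProper q := Groth.L16.ProjSpace.isProper_toBase n S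
  replace hig : i ≫ q = g := hig
  haveI : CompactSpace (CohB1.ProjSpaceOver n S) := QuasiCompact.compactSpace_of_compactSpace q
  haveI : QuasiSeparatedSpace (CohB1.ProjSpaceOver n S) := quasiSeparatedSpace_of_quasiSeparated q
  haveI : QuasiCompact i := inferInstance
  obtain ⟨ho, -⟩ := toImage_openImmersion i i.coborderRange i.liftCoborder i.liftCoborder_ι
  refine ⟨_, i.toImage, i.imageι ≫ q, ho, inferInstance, inferInstance, ?_⟩
  rw [Scheme.Hom.toImage_imageι_assoc, hig]

/-- Being compactifiable is invariant under isomorphism of the source. -/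
theorem compactifiable_of_iso {X' : Scheme.{u}} (e : X' ≅ X) (g : X ⟶ S)
    (h : ∃ (Y : Scheme.{u}) (j : X ⟶ Y) (p : Y ⟶ S), IsOpenImmersion j ∧ QuasiCompact j ∧ IsProper p ∧ j ≫ p = g) :
    ∃ (Y : Scheme.{u}) (j : X' ⟶ Y) (p : Y ⟶ S),
      IsOpenImmersion j ∧ QuasiCompact j ∧ IsProper p ∧ j ≫ p = e.hom ≫ g := by
  obtain ⟨Y, j, p, hj, hjc, hp, hjp⟩ := h
  exact ⟨Y, e.hom ≫ j, p, inferInstance, inferInstance, hp, by rw [Category.assoc, hjp]⟩

/-- Finite unions of affine opens are compactifiable. -/
theorem exists_compactification_finset [CompactSpace S] [QuasiSeparatedSpace S] (g : X ⟶ S) [IsSeparated g]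
    [QuasiCompact g] [LocallyOfFiniteType g] (s : Finset X.affineOpens) :
    IsCompact ((s.sup fun U => U.1 : X.Opens) : Set X) ∧
    ∃ (Y : Scheme.{u}) (j : ((s.sup fun U => U.1 : X.Opens) : Scheme.{u}) ⟶ Y) (p : Y ⟶ S),
      IsOpenImmersion j ∧ QuasiCompact j ∧ IsProper p ∧ j ≫ p = (s.sup fun U => U.1 : X.Opens).ι ≫ g := by
  classical
  induction s using Finset.induction with
  | empty =>
    haveI : IsAffine ((∅ : Finset X.affineOpens).sup fun U => U.1 : X.Opens) :=
      show IsAffineOpen _ by simpa using isAffineOpen_bot X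
    exact ⟨by simp, exists_compactification_of_isAffine _⟩
  | @insert a s ha ih =>
    obtain ⟨hc, ih⟩ := ih
    have hac : IsCompact (((a.1 ⊔ s.sup fun U => U.1) : X.Opens) : Set X) := by
      simpa using a.2.isCompact.union hc
    rw [Finset.sup_insert]
    refine ⟨hac, ?_⟩
    generalize hs : (s.sup fun U => U.1) = U at hc ih hac ⊢
    haveI : IsAffine (a.1 : Scheme.{u}) := a.2
    let W : X.Opens := a.1 ⊔ U
    haveI : CompactSpace (W : Scheme.{u}) := isCompact_iff_compactSpace.1 hac
    haveI : QuasiSeparatedSpace X := quasiSeparatedSpace_of_quasiSeparated g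
    haveI : QuasiCompact W.ι := inferInstance
    haveI : CompactSpace ((W.ι ⁻¹ᵁ a.1 : W.toScheme.Opens) : Scheme.{u}) := by
      haveI : CompactSpace (a.1 : Scheme.{u}) := isCompact_iff_compactSpace.1 a.2.isCompact
      exact (Scheme.Opens.isoOfLE (le_sup_left : a.1 ≤ W)).inv.homeomorph.compactSpace
    haveI : CompactSpace ((W.ι ⁻¹ᵁ U : W.toScheme.Opens) : Scheme.{u}) := by
      haveI : CompactSpace (U : Scheme.{u}) := isCompact_iff_compactSpace.1 hc
      exact (Scheme.Opens.isoOfLE (le_sup_right : U ≤ W)).inv.homeomorph.compactSpace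
    refine exists_compactification_union (W.ι ≫ g) (W.ι ⁻¹ᵁ a.1) (W.ι ⁻¹ᵁ U)
      (isCompact_iff_compactSpace.2 (by assumption)) (isCompact_iff_compactSpace.2 (by assumption)) ?_ ?_ ?_
    · rw [← Scheme.Hom.preimage_sup]
      exact eq_top_iff.2 fun x _ => x.2
    · have := compactifiable_of_iso (Scheme.Opens.isoOfLE (le_sup_left : a.1 ≤ W)) (a.1.ι ≫ g)
        (exists_compactification_of_isAffine _)
      simpa only [Scheme.Opens.isoOfLE_hom_ι_assoc] using this
    · have := compactifiable_of_iso (Scheme.Opens.isoOfLE (le_sup_right : U ≤ W)) (U.ι ≫ g) ih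
      simpa only [Scheme.Opens.isoOfLE_hom_ι_assoc] using this

/-- **Nagata compactification.** -/
theorem exists_compactification [CompactSpace S] [QuasiSeparatedSpace S] (g : X ⟶ S) [IsSeparated g]
    [QuasiCompact g] [LocallyOfFiniteType g] :
    ∃ (Y : Scheme.{u}) (j : X ⟶ Y) (p : Y ⟶ S), IsOpenImmersion j ∧ QuasiCompact j ∧ IsProper p ∧ j ≫ p = g := by
  classical
  haveI : CompactSpace X := QuasiCompact.compactSpace_of_compactSpace g
  obtain ⟨s, hs⟩ := isCompact_univ.elim_finite_subcover (fun U : X.affineOpens => (U.1 : Set X))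
    (fun U => U.1.2) (fun x _ => by
      obtain ⟨U, hU, hx, -⟩ := (Opens.isBasis_iff_nbhd.mp X.isBasis_affineOpens) (Opens.mem_top x)
      exact Set.mem_iUnion.2 ⟨⟨U, hU⟩, hx⟩)
  have htop : (s.sup fun U => U.1 : X.Opens) = ⊤ := by
    refine eq_top_iff.2 fun x _ => ?_
    obtain ⟨U, hU, hx⟩ := Set.mem_iUnion₂.1 (hs (Set.mem_univ x))
    exact (Finset.le_sup (f := fun U : X.affineOpens => U.1) hU) hx
  have h := (exists_compactification_finset g s).2
  generalize (s.sup fun U => U.1 : X.Opens) = U at h htop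
  subst htop
  have := compactifiable_of_iso X.topIso.symm _ h
  simpa using this

end Groth.L13.Nagata
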