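import Groth.Agent.L13.Nagata.Affine
import Groth.Agent.L13.ModPair.Basic

/-!
# Compactifications with affine open immersion
-/

set_option autoImplicit false
set_option linter.style.haveILetI false
set_option backward.isDefEq.respectTransparency.types false

universe u

open CategoryTheory CategoryTheory.Limits AlgebraicGeometry TopologicalSpace

noncomputable section

namespace Groth.L13.Nagata

variable {X S : Scheme.{u}}

/-- One may ask that the open immersion of a compactification be affine. -/
theorem exists_affine_compactification [CompactSpace S] [QuasiSeparatedSpace S] (g : X ⟶ S) [IsSeparated g]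
    [QuasiCompact g] [LocallyOfFiniteType g] :
    ∃ (Y : Scheme.{u}) (j : X ⟶ Y) (p : Y ⟶ S), IsOpenImmersion j ∧ IsAffineHom j ∧ IsProper p ∧ j ≫ p = g := by
  obtain ⟨Z, j, p, hj, hjc, hp, hjp⟩ := exists_compactification g
  haveI : CompactSpace X := QuasiCompact.compactSpace_of_compactSpace g
  haveI : CompactSpace Z := QuasiCompact.compactSpace_of_compactSpace p
  haveI : QuasiSeparatedSpace Z := quasiSeparatedSpace_of_quasiSeparated p
  obtain ⟨L, hL, hLs⟩ := exists_compl_ideal j.opensRange (isCompact_range j.continuous)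
  obtain ⟨Z', b, hb⟩ := Groth.L13.BU.exists_isBlowUp L
  haveI := Groth.L13.BU.isProper_blowUp hb hL
  haveI : IsIso (b ∣_ j.opensRange) := isIso_restrict_of_admissible hb
    (Set.disjoint_left.2 fun z hz hz' => (hLs.subset hz) hz')
  let k : X ⟶ Z' := j.isoOpensRange.hom ≫ inv (b ∣_ j.opensRange) ≫ (b ⁻¹ᵁ j.opensRange).ι
  have hkb : k ≫ b = j := by
    simp only [k, Category.assoc, ← morphismRestrict_ι, IsIso.inv_hom_id_assoc, Scheme.Hom.isoOpensRange_hom_ι]
  refine ⟨Z', k, b ≫ p, inferInstance, ?_, inferInstance, by rw [reassoc_of% hkb, hjp]⟩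
  have e : b ⁻¹ᵁ j.opensRange = ModPair.interior (L.comap b) := by
    refine Opens.ext ?_
    show b ⁻¹' Set.range j = ((L.comap b).support : Set Z')ᶜ
    rw [Scheme.IdealSheafData.support_comap, Closeds.coe_preimage, hLs, Set.preimage_compl, compl_compl]
    rfl
  haveI : IsAffineHom (b ⁻¹ᵁ j.opensRange).ι := by
    rw [e]; exact Groth.L13.MP.isAffineHom_interior hb.1
  infer_instance

end Groth.L13.Nagata
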