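import Groth.Agent.L13.BlowUp.Exists
import Groth.Agent.L13.BlowUp.Proper
import Groth.Agent.L13.ModPair.Colon
import Groth.Agent.L07.BlowLib.Dense
import Groth.Agent.L22.BlowUp
import Groth.Agent.L18.IdealModule
import Mathlib.AlgebraicGeometry.Morphisms.SchemeTheoreticallyDominant
import Mathlib.AlgebraicGeometry.Morphisms.Separated

/-!
# Formal tools for admissible blow-ups
-/

set_option autoImplicit false
set_option linter.style.haveILetI false
set_option backward.isDefEq.respectTransparency.types false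

universe u

open CategoryTheory CategoryTheory.Limits AlgebraicGeometry TopologicalSpace
open Groth.L13.MP

noncomputable section

namespace Groth.L13.Nagata

variable {X Y Z T S : Scheme.{u}}

theorem isFiniteType_comap {I : Y.IdealSheafData} (hI : BlowUp.IsFiniteTypeIdeal I) (f : X ⟶ Y) :
    BlowUp.IsFiniteTypeIdeal (I.comap f) :=
  fun V => ((LocFG.of_fg hI).comap f).fg V

theorem isFiniteType_mul {I J : X.IdealSheafData} (hI : BlowUp.IsFiniteTypeIdeal I)
    (hJ : BlowUp.IsFiniteTypeIdeal J) : BlowUp.IsFiniteTypeIdeal (I * J) := fun V => by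
  rw [Scheme.IdealSheafData.ideal_mul, Pi.mul_apply]
  exact Submodule.FG.mul (hI V) (hJ V)

theorem isFiniteType_top : BlowUp.IsFiniteTypeIdeal (⊤ : X.IdealSheafData) := fun V => by
  rw [Scheme.IdealSheafData.ideal_top, Pi.top_apply]
  exact Module.Finite.fg_top

theorem admissible_top (U : X.Opens) : BlowUp.IsAdmissibleFor U (⊤ : X.IdealSheafData) := by
  refine ⟨isFiniteType_top, ?_⟩
  rw [Scheme.IdealSheafData.support_top]
  exact Set.empty_disjoint _

theorem admissible_mul {U : X.Opens} {I J : X.IdealSheafData} (hI : BlowUp.IsAdmissibleFor U I)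
    (hJ : BlowUp.IsAdmissibleFor U J) : BlowUp.IsAdmissibleFor U (I * J) := by
  refine ⟨isFiniteType_mul hI.1 hJ.1, ?_⟩
  rw [Scheme.IdealSheafData.support_mul, Closeds.coe_sup]
  exact Set.disjoint_union_left.2 ⟨hI.2, hJ.2⟩

theorem admissible_comap {U : Y.Opens} {I : Y.IdealSheafData} (hI : BlowUp.IsAdmissibleFor U I) (f : X ⟶ Y) :
    BlowUp.IsAdmissibleFor (f ⁻¹ᵁ U) (I.comap f) := by
  refine ⟨isFiniteType_comap hI.1 f, ?_⟩
  rw [Scheme.IdealSheafData.support_comap]
  exact hI.2.preimage _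

theorem admissible_mono {U V : X.Opens} {I : X.IdealSheafData} (hI : BlowUp.IsAdmissibleFor U I) (h : V ≤ U) :
    BlowUp.IsAdmissibleFor V I :=
  ⟨hI.1, hI.2.mono_right h⟩

theorem admissible_prod {U : X.Opens} {ι : Type*} (s : Finset ι) (I : ι → X.IdealSheafData)
    (h : ∀ i ∈ s, BlowUp.IsAdmissibleFor U (I i)) : BlowUp.IsAdmissibleFor U (∏ i ∈ s, I i) :=
  Finset.prod_induction I (fun J => BlowUp.IsAdmissibleFor U J) (fun _ _ => admissible_mul)
    (admissible_top U) h

theorem isEffCartier_comap_left {f : X ⟶ Y} {I J : Y.IdealSheafData}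
    (h : BlowUp.IsEffCartierIdeal ((I * J).comap f)) : BlowUp.IsEffCartierIdeal (I.comap f) := by
  rw [Groth.L22.Ideals.comap_mul] at h
  exact Groth.L22.Ideals.isEffCartier_left_of_mul h

theorem isEffCartier_comap_right {f : X ⟶ Y} {I J : Y.IdealSheafData}
    (h : BlowUp.IsEffCartierIdeal ((I * J).comap f)) : BlowUp.IsEffCartierIdeal (J.comap f) :=
  isEffCartier_comap_left (J := I) (by rwa [mul_comm])

/-- Morphisms into a blow-up over the base are determined by the composite. -/
theorem blowUp_hom_ext {X' : Scheme.{u}} {b : X' ⟶ X} {I : X.IdealSheafData} (hb : BlowUp.IsBlowUp b I)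
    {f g : Y ⟶ X'} (hI : BlowUp.IsEffCartierIdeal (I.comap (f ≫ b))) (h : f ≫ b = g ≫ b) : f = g :=
  (hb.2 Y (f ≫ b) hI).unique rfl h.symm

/-- Blowing up a further factor. -/
theorem isBlowUp_comp_mul {X' X'' : Scheme.{u}} {b : X' ⟶ X} {I J : X.IdealSheafData}
    (hb : BlowUp.IsBlowUp b I) {c : X'' ⟶ X'} (hc : BlowUp.IsBlowUp c (J.comap b)) :
    BlowUp.IsBlowUp (c ≫ b) (I * J) := by
  refine ⟨?_, fun W g hg => ?_⟩
  · rw [Groth.L22.Ideals.comap_mul, Scheme.IdealSheafData.comap_comp, Scheme.IdealSheafData.comap_comp]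
    exact Groth.L22.Ideals.isEffCartier_mul (Groth.L22.Ideals.isEffCartier_comap hc hb.1) hc.1
  · obtain ⟨h₁, hh₁, -⟩ := hb.2 W g (isEffCartier_comap_left hg)
    have hJ : BlowUp.IsEffCartierIdeal ((J.comap b).comap h₁) := by
      rw [← Scheme.IdealSheafData.comap_comp, hh₁]
      exact isEffCartier_comap_right hg
    obtain ⟨h₂, hh₂, -⟩ := hc.2 W h₁ hJ
    refine ⟨h₂, ?_, fun l hl => ?_⟩
    · show h₂ ≫ c ≫ b = g
      rw [reassoc_of% hh₂, hh₁]
    · have hlc : l ≫ c = h₁ := by
        refine blowUp_hom_ext hb ?_ ?_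
        · rw [Category.assoc, show l ≫ c ≫ b = g from hl]; exact isEffCartier_comap_left hg
        · rw [Category.assoc, show l ≫ c ≫ b = g from hl, hh₁]
      refine blowUp_hom_ext hc ?_ (hlc.trans hh₂.symm)
      rw [hlc]; exact hJ

theorem isBlowUp_congr_iso {X' X'' : Scheme.{u}} {b : X' ⟶ X} {I : X.IdealSheafData}
    (hb : BlowUp.IsBlowUp b I) (e : X'' ≅ X') : BlowUp.IsBlowUp (e.hom ≫ b) I := by
  refine ⟨?_, fun W g hg => ?_⟩
  · rw [Scheme.IdealSheafData.comap_comp]
    exact Groth.L22.Ideals.isEffCartier_comap_of_flat _ hb.1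
  · obtain ⟨h, hh, hu⟩ := hb.2 W g hg
    refine ⟨h ≫ e.inv, ?_, fun l hl => ?_⟩
    · show (h ≫ e.inv) ≫ e.hom ≫ b = g
      simpa using hh
    · rw [Iso.eq_comp_inv]
      exact hu _ (by simpa using hl)

/-- A blow-up restricts to blow-ups over opens. -/
theorem isBlowUp_restrict {X' : Scheme.{u}} {b : X' ⟶ X} {I : X.IdealSheafData} (hb : BlowUp.IsBlowUp b I)
    (V : X.Opens) : BlowUp.IsBlowUp (b ∣_ V) (I.comap V.ι) := by
  have h := Groth.L13.BU.isBlowUp_pullback V.ι hb
  have h' := isBlowUp_congr_iso h (isPullback_morphismRestrict b V).isoPullback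
  rwa [(isPullback_morphismRestrict b V).isoPullback_hom_fst] at h'

/-- Morphisms to a separated scheme agree as soon as they agree after a schematically dominant one. -/
theorem hom_ext_of_schDominant (d : Y ⟶ Z) [IsSchemeTheoreticallyDominant d] {P : Scheme.{u}}
    (π : P ⟶ S) [IsSeparated π] {f g : Z ⟶ P} (h : d ≫ f = d ≫ g) (hπ : f ≫ π = g ≫ π) : f = g := by
  let m : Z ⟶ pullback π π := pullback.lift f g hπ
  let i := pullback.fst m (pullback.diagonal π)
  haveI : IsClosedImmersion i := inferInstanceAs (IsClosedImmersion (pullback.fst _ _))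
  have hd : d ≫ m = (d ≫ f) ≫ pullback.diagonal π := by
    refine pullback.hom_ext ?_ ?_
    · rw [Category.assoc, Category.assoc, pullback.diagonal_fst, Category.comp_id, pullback.lift_fst]
    · rw [Category.assoc, Category.assoc, pullback.diagonal_snd, Category.comp_id, pullback.lift_snd, h]
  let l : Y ⟶ pullback m (pullback.diagonal π) := pullback.lift d (d ≫ f) hd
  haveI : IsIso i := by
    have h1 : i.ker ≤ ⊥ := by
      rw [← IsSchemeTheoreticallyDominant.ker_eq_bot d, ← pullback.lift_fst d (d ≫ f) hd]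
      exact Scheme.Hom.le_ker_comp l i
    exact IsClosedImmersion.isIso_iff_ker_eq_bot.2 (le_bot_iff.1 h1)
  have e : m = (inv i ≫ pullback.snd m (pullback.diagonal π)) ≫ pullback.diagonal π := by
    rw [Category.assoc, ← pullback.condition, IsIso.inv_hom_id_assoc]
  calc f = m ≫ pullback.fst π π := (pullback.lift_fst _ _ _).symm
    _ = m ≫ pullback.snd π π := by rw [e]; simp
    _ = g := pullback.lift_snd _ _ _

/-- Off the exceptional divisor a blow-up is dense. -/
theorem isEffCartier_schDominant_compl {E : X.IdealSheafData} (hE : BlowUp.IsEffCartierIdeal E) :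
    IsSchemeTheoreticallyDominant (Scheme.Opens.ι (X := X) E.support.compl) := by
  have hb : BlowUp.IsBlowUp (𝟙 X) E := ⟨by rwa [Scheme.IdealSheafData.comap_id],
    fun W g _ => ⟨g, Category.comp_id g, fun l hl => by simpa using hl⟩⟩
  exact Groth.L07.BlowLib.schDominant_compl hb

/-- The complement of an effective Cartier divisor is dense. -/
theorem dense_compl_effCartier {E : X.IdealSheafData} (hE : BlowUp.IsEffCartierIdeal E) :
    Dense ((E.support : Set X)ᶜ) := by
  rw [dense_iff_inter_open]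
  rintro W hW ⟨x, hx⟩
  obtain ⟨U, hxU, t, -, -, hres⟩ := Groth.L22.Ideals.exists_generator hE x
  obtain ⟨_, ⟨V, hV, rfl⟩, hxV, hVW⟩ := X.isBasis_affineOpens.exists_subset_of_mem_open
    (show x ∈ W ∩ (U.1 : Set X) from ⟨hx, hxU⟩) (hW.inter U.1.2)
  have hVU : V ≤ U.1 := fun y hy => (hVW hy).2
  obtain ⟨ht, hI⟩ := hres ⟨V, hV⟩ hVU
  by_contra hcon
  have hbot : X.basicOpen (X.presheaf.map (homOfLE hVU).op t) = ⊥ := by
    refine eq_bot_iff.2 fun y hy => hcon ⟨y, (hVW (X.basicOpen_le _ hy)).1, fun hyE => ?_⟩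
    rw [SetLike.mem_coe, Scheme.IdealSheafData.mem_support_iff_of_mem (U := ⟨V, hV⟩) (X.basicOpen_le _ hy),
      hI, Scheme.zeroLocus_span, Scheme.zeroLocus_singleton] at hyE
    exact hyE hy
  have hnil : IsNilpotent (X.presheaf.map (homOfLE hVU).op t) := by
    rw [← PrimeSpectrum.basicOpen_eq_bot_iff, ← hV.fromSpec_preimage_basicOpen, hbot]
    exact Scheme.Hom.preimage_bot _
  obtain ⟨n, hn⟩ := hnil
  haveI : Subsingleton Γ(X, V) := subsingleton_of_zero_eq_one (by
    have h1 := pow_mem ht n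
    rw [hn] at h1
    exact (h1.2 1 (by rw [mul_zero])).symm)
  exact (hV.primeIdealOf ⟨x, hxV⟩).2.ne_top (Subsingleton.elim _ _)

/-- The open complement of the support of an ideal of finite type, as an ideal. -/
theorem exists_compl_ideal [CompactSpace X] [QuasiSeparatedSpace X] (U : X.Opens) (hU : IsCompact (U : Set X)) :
    ∃ L : X.IdealSheafData, BlowUp.IsFiniteTypeIdeal L ∧ (L.support : Set X) = (U : Set X)ᶜ := by
  obtain ⟨L, hL, hs, -⟩ := Groth.L18.IdealModule.exists_finiteType_of_isCompact U hU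
  exact ⟨L, hL, hs⟩

end Groth.L13.Nagata
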