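import Groth.Agent.L13.Nagata.Base
import Groth.Agent.L06.BlowProj
import Groth.Agent.L18.AmpleFamilyDivisors
import Groth.Agent.L18.ProjAlg.TwistAmple
import Groth.Agent.L18.PBundle.FTProj
import Groth.Agent.L13.BlowUp.Proper
import Groth.Agent.L17.Approx.Extend

/-!
# Ample families after admissible blow-ups
-/

set_option autoImplicit false
set_option linter.style.haveILetI false
set_option backward.isDefEq.respectTransparency.types false

universe u

open CategoryTheory CategoryTheory.Limits AlgebraicGeometry TopologicalSpace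

noncomputable section

namespace Groth.L13.Nagata

variable {X : Scheme.{u}}

/-- With finitely many irreducible components every affine open lies in a dense one. -/
theorem exists_dense_affine_ge (hirr : (irreducibleComponents X).Finite) {A : X.Opens} (hA : IsAffineOpen A) :
    ∃ B : X.Opens, A ≤ B ∧ IsAffineOpen B ∧ Dense (B : Set X) := by
  classical
  let I := {Z : Set X // Z ∈ irreducibleComponents X ∧ ¬ Z ⊆ closure (A : Set X)}
  haveI : Finite I := (hirr.subset fun Z hZ => hZ.1).to_subtype
  haveI := Fintype.ofFinite I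
  have hO : ∀ Z : I, ∃ V : X.Opens, IsAffineOpen V ∧ (Z.1 ∩ V).Nonempty ∧
      Disjoint (V : Set X) (closure (A : Set X)) ∧
      ∀ W ∈ irreducibleComponents X, W ≠ Z.1 → Disjoint (V : Set X) W := fun Z => by
    let F : Set X := ⋃ W ∈ irreducibleComponents X \ {Z.1}, W
    have hF : IsClosed F := (hirr.subset Set.sdiff_subset).isClosed_biUnion fun W hW =>
      isClosed_of_mem_irreducibleComponents W hW.1
    have hne : ¬ Z.1 ⊆ F ∪ closure (A : Set X) := fun h => by
      rcases isPreirreducible_iff_isClosed_union_isClosed.1 Z.2.1.1.2 F _ hF isClosed_closure h with h | h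
      · obtain ⟨C, hC, hZC⟩ := (isIrreducible_iff_sUnion_isClosed.mp Z.2.1.1)
          (hirr.subset (Set.sdiff_subset (t := {Z.1}))).toFinset (fun C hC => by
            rw [Set.Finite.mem_toFinset] at hC
            exact isClosed_of_mem_irreducibleComponents C hC.1) (fun x hx => by
            obtain ⟨W, hW, hxW⟩ := Set.mem_iUnion₂.mp (h hx)
            exact ⟨W, (Set.Finite.mem_toFinset _).2 hW, hxW⟩)
        rw [Set.Finite.mem_toFinset] at hC
        exact hC.2 ((Z.2.1.2 hC.1.1 hZC).antisymm hZC)
      · exact Z.2.2 h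
    obtain ⟨x, hxZ, hxF⟩ := Set.not_subset.mp hne
    obtain ⟨_, ⟨V, hV, rfl⟩, hxV, hVF⟩ :=
      X.isBasis_affineOpens.exists_subset_of_mem_open (show x ∈ (F ∪ closure (A : Set X))ᶜ from hxF)
        (hF.union isClosed_closure).isOpen_compl
    refine ⟨V, hV, ⟨x, hxZ, hxV⟩, Set.disjoint_left.2 fun y hy hy' => hVF hy (Or.inr hy'), fun W hW hne => ?_⟩
    exact Set.disjoint_left.2 fun y hy hyW => hVF hy (Or.inl (Set.mem_iUnion₂.mpr ⟨W, ⟨hW, hne⟩, hyW⟩))
  choose V hV hne hdA hdisj using hO
  refine ⟨⨆ o : Option I, o.elim A V, le_iSup (fun o : Option I => o.elim A V) none,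
    IsAffineOpen.iSup_of_disjoint (fun o => by cases o; exacts [hA, hV _]) ?_, fun x => ?_⟩
  · have h1 : ∀ Z, Disjoint A (V Z) := fun Z => disjoint_iff_inf_le.2 fun y hy =>
      absurd (subset_closure hy.1) (Set.disjoint_left.1 (hdA Z) hy.2)
    rintro (_ | Z) (_ | W) h
    · exact absurd rfl h
    · exact h1 W
    · exact (h1 Z).symm
    · refine disjoint_iff_inf_le.2 fun y hy => ?_
      obtain ⟨C, hC, hyC⟩ : ∃ C ∈ irreducibleComponents X, y ∈ C :=
        ⟨irreducibleComponent y, irreducibleComponent_mem_irreducibleComponents y, mem_irreducibleComponent⟩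
      have e1 : C = Z.1 := by_contra fun hne => Set.disjoint_left.1 (hdisj Z C hC hne) hy.1 hyC
      have e2 : C = W.1 := by_contra fun hne => Set.disjoint_left.1 (hdisj W C hC hne) hy.2 hyC
      exact absurd (congrArg some (Subtype.ext (e1.symm.trans e2))) h
  · have hZ := irreducibleComponent_mem_irreducibleComponents x
    by_cases hsub : irreducibleComponent x ⊆ closure (A : Set X)
    · exact closure_mono (SetLike.coe_subset_coe.2 (le_iSup (fun o : Option I => o.elim A V) none))
        (hsub mem_irreducibleComponent)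
    · let Z : I := ⟨_, hZ, hsub⟩
      have h := subset_closure_inter_of_isPreirreducible_of_isOpen hZ.1.2 (V Z).2 (hne Z)
        (mem_irreducibleComponent (x := x))
      exact closure_mono (Set.inter_subset_right.trans
        (SetLike.coe_subset_coe.2 (le_iSup (fun o : Option I => o.elim A V) (some Z)))) h

/-- **An admissible blow-up with an ample family.** -/
theorem exists_blowUp_ampleFamily [CompactSpace X] [QuasiSeparatedSpace X]
    (hirr : (irreducibleComponents X).Finite) :
    ∃ (U : X.Opens) (I : X.IdealSheafData) (X' : Scheme.{u}) (b : X' ⟶ X),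
      IsCompact (U : Set X) ∧ Dense (U : Set X) ∧ BlowUp.IsAdmissibleFor U I ∧ BlowUp.IsBlowUp b I ∧
      MoreMor.HasAmpleFamily X' := by
  classical
  have hex : ∀ x : X, ∃ B : X.Opens, x ∈ B ∧ IsAffineOpen B ∧ Dense (B : Set X) := fun x => by
    obtain ⟨_, ⟨A, hA, rfl⟩, hxA, -⟩ := X.isBasis_affineOpens.exists_subset_of_mem_open (Set.mem_univ x) isOpen_univ
    obtain ⟨B, hAB, hB, hBd⟩ := exists_dense_affine_ge hirr hA
    exact ⟨B, hAB hxA, hB, hBd⟩
  choose B hxB hB hBd using hex
  obtain ⟨s, hs⟩ := isCompact_univ.elim_finite_subcover (fun x => (B x : Set X)) (fun x => (B x).2)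
    fun x _ => Set.mem_iUnion.2 ⟨x, hxB x⟩
  choose J hJ hJs using fun x => exists_compl_ideal (B x) (hB x).isCompact
  have hU : ∀ t : Finset X, IsCompact ((t.inf B : X.Opens) : Set X) ∧ Dense ((t.inf B : X.Opens) : Set X) := by
    intro t
    induction t using Finset.induction with
    | empty => simpa using isCompact_univ (X := X)
    | @insert a t _ ih =>
      rw [Finset.inf_insert]
      exact ⟨QuasiSeparatedSpace.inter_isCompact _ _ (B a).2 (hB a).isCompact (t.inf B).2 ih.1,
        (hBd a).inter_of_isOpen_right ih.2 (t.inf B).2⟩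
  let U := s.inf B
  let K := ∏ x ∈ s, J x
  have hadm : BlowUp.IsAdmissibleFor U K := admissible_prod s J fun x hx => ⟨hJ x, by
    rw [hJs]; exact Set.disjoint_left.2 fun y hy hyU => hy ((Finset.inf_le hx : U ≤ B x) hyU)⟩
  obtain ⟨X', b, hb⟩ := Groth.L13.BU.exists_isBlowUp K
  obtain ⟨-, -, L, hL⟩ := Groth.L18.TwistAmp.isQuasiProjective_of_isProjective
    (Groth.L06.BlowProj.isProjective_of_isBlowUp K hadm.1 b hb)
  haveI := Groth.L13.BU.isProper_blowUp hb hadm.1
  refine ⟨U, K, X', b, (hU s).1, (hU s).2, hadm, hb, ?_⟩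
  let ν := s.equivFin
  refine Groth.L18.Ample.hasAmpleFamily_of_divisors (fun i => (J (ν.symm i).1).comap b) (fun i => ?_) ?_
    (fun _ => L) (fun _ => Groth.L18.PBundle.isInvertible_of_isRelAmple b hL) fun i => ?_
  · refine isEffCartier_comap_left (J := ∏ x ∈ s.erase (ν.symm i).1, J x) ?_
    rw [Finset.mul_prod_erase _ J (ν.symm i).2]
    exact hb.1
  · rw [Set.eq_empty_iff_forall_notMem]
    intro y hy
    obtain ⟨x, hx, hyx⟩ := Set.mem_iUnion₂.1 (hs (Set.mem_univ (b y)))
    have h := Set.mem_iInter.1 hy (ν ⟨x, hx⟩)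
    rw [Scheme.IdealSheafData.support_comap, Closeds.coe_preimage, Equiv.symm_apply_apply, hJs] at h
    exact h hyx
  · have e : ((J (ν.symm i).1).comap b).support.compl = b ⁻¹ᵁ B (ν.symm i).1 := by
      refine Opens.ext ?_
      show (((J (ν.symm i).1).comap b).support : Set X')ᶜ = b ⁻¹' (B (ν.symm i).1 : Set X)
      rw [Scheme.IdealSheafData.support_comap, Closeds.coe_preimage, hJs, Set.preimage_compl, compl_compl]
    rw [e]
    exact hL.2 ⟨_, hB (ν.symm i).1⟩

end Groth.L13.Nagata
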