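import Groth.Agent.L13.Nagata.LocalIso

/-!
# The blow-up of the source maps isomorphically to an open of the blow-up of the base
-/

set_option autoImplicit false
set_option linter.style.haveILetI false
set_option backward.isDefEq.respectTransparency.types false

universe u

open CategoryTheory CategoryTheory.Limits AlgebraicGeometry TopologicalSpace Opposite
open Groth.L13.MP

noncomputable section

namespace Groth.L13.Nagata

variable {X T Z : Scheme.{u}} [IsAffine X] [IsAffine T]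

/-- The ideal of the powers of the chosen functions. -/
def Centre.P {p : T ⟶ X} {U : X.Opens} (C : Centre p U) : X.IdealSheafData :=
  Scheme.IdealSheafData.ofIdealTop (Ideal.span ((fun a => a ^ C.N) '' (C.t : Set Γ(X, ⊤))))

theorem Centre.mem_of_notMem_support {p : T ⟶ X} {U : X.Opens} (C : Centre p U) {x : X}
    (hx : x ∉ C.P.support) : x ∈ U := by
  by_contra hxU
  refine hx ?_
  rw [← SetLike.mem_coe, Centre.P, Scheme.IdealSheafData.coe_support_ofIdealTop, Scheme.zeroLocus_span,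
    Scheme.mem_zeroLocus_iff]
  rintro _ ⟨a, ha, rfl⟩
  rw [X.basicOpen_pow a C.hpos]
  exact fun h => hxU (C.hUle a ha x h)

/-- Two morphisms into the source over the base agree if the centre pulls back to a Cartier ideal. -/
theorem Centre.hom_ext {p : T ⟶ X} {U : X.Opens} (C : Centre p U) [Mono (p ∣_ U)] {f g : Z ⟶ T}
    (h : f ≫ p = g ≫ p) (hE : BlowUp.IsEffCartierIdeal (C.P.comap (f ≫ p))) : f = g := by
  haveI := isEffCartier_schDominant_compl hE
  refine hom_ext_of_schDominant (Scheme.Opens.ι (X := Z) (C.P.comap (f ≫ p)).support.compl) p ?_ h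
  refine eq_of_range_subset p U (by simp only [Category.assoc, h]) fun z => ?_
  rw [Category.assoc, Scheme.Hom.comp_apply]
  refine C.mem_of_notMem_support fun hz => z.2 ?_
  show z.1 ∈ (C.P.comap (f ≫ p)).support
  exact (SetLike.ext_iff.1 (Scheme.IdealSheafData.support_comap C.P (f ≫ p)) z.1).2 hz

/-- Local lift to the source. -/
theorem Centre.exists_lift_local {p : T ⟶ X} {U : X.Opens} (C : Centre p U) (q : Z ⟶ X)
    (hE : BlowUp.IsEffCartierIdeal (C.K.comap q)) (hP : C.K.comap q = C.P.comap q) (z : Z) :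
    ∃ (V : Z.Opens) (ψ : (V : Scheme.{u}) ⟶ T), z ∈ V ∧ ψ ≫ p = V.ι ≫ q := by
  classical
  obtain ⟨U1, hz1, t, -, htI, hres⟩ := Groth.L22.Ideals.exists_generator hE z
  let α₁ : Γ(X, ⊤) → Γ(Z, U1.1) := fun a => q.appLE ⊤ U1.1 le_top (a ^ C.N)
  have hspan : Ideal.span ({t} : Set Γ(Z, U1.1)) = Ideal.span (α₁ '' (C.t : Set Γ(X, ⊤))) := by
    rw [← htI, hP, Groth.L22.Ideals.comap_ideal q C.P ⟨⊤, isAffineOpen_top X⟩ U1 le_top, Centre.P,
      ofIdealTop_top, Ideal.map_span, Set.image_image]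
  have hu : ∀ a : C.t, ∃ u, α₁ a = t * u := fun a => by
    have h : α₁ a ∈ Ideal.span ({t} : Set Γ(Z, U1.1)) := hspan ▸ Ideal.subset_span ⟨a, a.2, rfl⟩
    obtain ⟨u, hu⟩ := Ideal.mem_span_singleton.1 h
    exact ⟨u, hu⟩
  choose u hu using hu
  have hJ : Ideal.span (Set.range u) = ⊤ := by
    have h : t ∈ Ideal.span ({t} : Set Γ(Z, U1.1)) * Ideal.span (Set.range u) := by
      refine (Ideal.span_le.2 ?_ : Ideal.span (α₁ '' (C.t : Set Γ(X, ⊤))) ≤ _) (hspan ▸ Ideal.mem_span_singleton_self t)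
      rintro _ ⟨a, ha, rfl⟩
      rw [hu ⟨a, ha⟩]
      exact Ideal.mul_mem_mul (Ideal.mem_span_singleton_self t) (Ideal.subset_span ⟨⟨a, ha⟩, rfl⟩)
    obtain ⟨s, hs, hts⟩ := Ideal.mem_span_singleton_mul.1 h
    have ht : t ∈ nonZeroDivisors Γ(Z, U1.1) := by simpa using (hres U1 le_rfl).1
    have : s = 1 := (mul_cancel_left_mem_nonZeroDivisors ht).1 (by rw [hts, mul_one])
    exact (Ideal.eq_top_iff_one _).2 (this ▸ hs)
  obtain ⟨⟨_, a, rfl⟩, hza⟩ := Opens.mem_iSup.1 ((U1.2.self_le_iSup_basicOpen_iff).2 hJ hz1)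
  let V : Z.affineOpens := ⟨Z.basicOpen (u a), U1.2.basicOpen _⟩
  have hVU : V.1 ≤ U1.1 := Z.basicOpen_le _
  obtain ⟨htV, hIV⟩ := hres V hVU
  let ρ : Γ(X, ⊤) ⟶ Γ(Z, V.1) := q.appLE ⊤ V.1 le_top
  have hρ : ∀ x, ρ x = Z.presheaf.map (homOfLE hVU).op (q.appLE ⊤ U1.1 le_top x) := fun x => by
    rw [← CommRingCat.comp_apply, Scheme.Hom.appLE_map]
  let α := ρ (a.1 ^ C.N)
  have hαt : α = Z.presheaf.map (homOfLE hVU).op t * Z.presheaf.map (homOfLE hVU).op (u a) := by
    rw [← map_mul, ← hu a]; exact hρ _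
  have huV : IsUnit (Z.presheaf.map (homOfLE hVU).op (u a)) :=
    RingedSpace.isUnit_res_basicOpen _ (u a)
  have hnzd : α ∈ nonZeroDivisors Γ(Z, V.1) := by
    rw [hαt]; exact mul_mem htV huV.mem_nonZeroDivisors
  have hK : ∀ c ∈ C.K.ideal ⟨⊤, isAffineOpen_top X⟩, α ∣ ρ c := fun c hc => by
    have h : ρ c ∈ (C.K.comap q).ideal V := by
      rw [Groth.L22.Ideals.comap_ideal q C.K ⟨⊤, isAffineOpen_top X⟩ V le_top]
      exact Ideal.mem_map_of_mem _ hc
    rw [hIV, Ideal.mem_span_singleton] at h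
    rw [hαt]
    exact (huV.mul_right_dvd).2 h
  -- the basic open where `α` is invertible lies over `D(a)`
  let D := X.basicOpen a.1
  let W := Z.basicOpen α
  have hWV : W ≤ V.1 := Z.basicOpen_le _
  have hWD : W ≤ q ⁻¹ᵁ D := by
    show Z.basicOpen (q.appLE ⊤ V.1 le_top (a.1 ^ C.N)) ≤ _
    rw [Scheme.basicOpen_appLE, X.basicOpen_pow a.1 C.hpos]
    exact inf_le_right
  haveI := C.hiso a.1 a.2
  let ι₀ : Γ(Z, V.1) ⟶ Γ(Z, W) := Z.presheaf.map (homOfLE hWV).op
  let θ : Γ(T, ⊤) ⟶ Γ(Z, W) :=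
    T.presheaf.map (homOfLE le_top).op ≫ inv (p.app D) ≫ q.appLE D W hWD
  have hθ : p.appTop ≫ θ = ρ ≫ ι₀ := by
    simp only [θ, ρ, ι₀, Scheme.Hom.appLE_map]
    have e : p.appTop ≫ T.presheaf.map (homOfLE (le_top : p ⁻¹ᵁ D ≤ ⊤)).op =
        X.presheaf.map (homOfLE (le_top : D ≤ ⊤)).op ≫ p.app D := (p.naturality _).symm
    rw [reassoc_of% e, IsIso.hom_inv_id_assoc, Scheme.Hom.map_appLE]
  have hinj : Function.Injective ι₀ := by
    letI := ι₀.hom.toAlgebra
    haveI : IsLocalization.Away α Γ(Z, W) := V.2.isLocalization_of_eq_basicOpen _ (homOfLE hWV) rfl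
    exact IsLocalization.injective Γ(Z, W) (Submonoid.powers_le.2 hnzd)
  have hαW : IsUnit (ι₀ α) := RingedSpace.isUnit_res_basicOpen _ α
  have hmem : ∀ y, θ y ∈ ι₀.hom.range := by
    intro y
    have hS : (ι₀.hom.range).comap θ.hom = ⊤ := by
      refine C.hG _ (fun x => ⟨ρ x, ?_⟩) fun g hg => ?_
      · exact (congrArg (fun φ => φ x) hθ).symm
      · obtain ⟨c, hc, hcg⟩ := C.hnum a.1 a.2 g hg
        obtain ⟨r, hr⟩ := hK c hc
        refine ⟨r, hαW.mul_left_cancel ?_⟩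
        show ι₀ α * ι₀ r = ι₀ α * θ g
        have h1 : ∀ x, θ (p.appTop x) = ι₀ (ρ x) := fun x => congrArg (fun φ => φ x) hθ
        rw [← map_mul, ← hr, ← h1 c, hcg, map_mul, h1]
    have : y ∈ (ι₀.hom.range).comap θ.hom := hS ▸ trivial
    exact this
  let ψr : Γ(T, ⊤) →+* Γ(Z, V.1) :=
    (RingEquiv.ofBijective ι₀.hom.rangeRestrict
      ⟨fun x y h => hinj (congrArg Subtype.val h), ι₀.hom.rangeRestrict_surjective⟩).symm.toRingHom.comp
      (θ.hom.codRestrict ι₀.hom.range hmem)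
  have hψr : p.appTop ≫ CommRingCat.ofHom ψr = ρ := by
    ext x
    refine hinj ?_
    have e : ∀ y, ι₀ (ψr y) = θ y := fun y => by
      have h2 := (RingEquiv.ofBijective ι₀.hom.rangeRestrict
        ⟨fun x y h => hinj (congrArg Subtype.val h), ι₀.hom.rangeRestrict_surjective⟩).apply_symm_apply
          (θ.hom.codRestrict ι₀.hom.range hmem y)
      exact congrArg Subtype.val h2
    exact (e _).trans (congrArg (fun φ => φ x) hθ)
  refine ⟨V.1, V.1.toScheme.toSpecΓ ≫ Spec.map (CommRingCat.ofHom ψr ≫ V.1.topIso.inv) ≫ T.isoSpec.inv,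
    hza, ?_⟩
  rw [← cancel_mono X.isoSpec.hom]
  simp only [Category.assoc, ← Scheme.isoSpec_hom_naturality, Iso.inv_hom_id_assoc, ← Spec.map_comp]
  rw [← Category.assoc p.appTop, hψr]
  show _ = V.1.ι ≫ q ≫ X.toSpecΓ
  rw [← Category.assoc, Scheme.toSpecΓ_naturality]
  congr 2
  simp [ρ, Scheme.Hom.appTop, Scheme.Hom.appLE, Scheme.Opens.topIso]
  exact congrArg (Scheme.Hom.app q ⊤ ≫ ·) (by
    erw [← Z.presheaf.map_comp]
    rfl)

/-- The morphisms to the base along which the centre becomes principal in the chosen functions lift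
uniquely to the source. -/
theorem Centre.exists_lift {p : T ⟶ X} {U : X.Opens} (C : Centre p U) [Mono (p ∣_ U)] (q : Z ⟶ X)
    (hE : BlowUp.IsEffCartierIdeal (C.K.comap q)) (hP : C.K.comap q = C.P.comap q) :
    ∃ ψ : Z ⟶ T, ψ ≫ p = q := by
  choose V ψ hzV hψ using fun z => C.exists_lift_local q hE hP z
  let 𝒰 := Z.openCoverOfIsOpenCover V (TopologicalSpace.IsOpenCover.mk
    (eq_top_iff.2 fun z _ => Opens.mem_iSup.2 ⟨z, hzV z⟩))
  refine ⟨𝒰.glueMorphisms ψ fun i j => ?_, ?_⟩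
  · refine C.hom_ext ?_ ?_
    · exact (Category.assoc _ _ _).trans ((congrArg (pullback.fst (𝒰.f i) (𝒰.f j) ≫ ·) (hψ i)).trans
        ((pullback.condition_assoc q).trans ((congrArg (pullback.snd (𝒰.f i) (𝒰.f j) ≫ ·) (hψ j)).symm.trans
          (Category.assoc _ _ _).symm)))
    · have e : (pullback.fst (𝒰.f i) (𝒰.f j) ≫ ψ i) ≫ p = (pullback.fst (𝒰.f i) (𝒰.f j) ≫ 𝒰.f i) ≫ q :=
        (Category.assoc _ _ _).trans ((congrArg (pullback.fst (𝒰.f i) (𝒰.f j) ≫ ·) (hψ i)).trans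
          (Category.assoc _ _ _).symm)
      rw [e, Scheme.IdealSheafData.comap_comp, ← hP]
      exact Groth.L22.Ideals.isEffCartier_comap_of_flat _ hE
  · refine Scheme.Cover.hom_ext 𝒰 _ _ fun i => ?_
    rw [Scheme.Cover.ι_glueMorphisms_assoc]
    exact hψ i

/-- The blow-up of the source is an open subscheme of the blow-up of the base. -/
theorem Centre.isOpenImmersion {p : T ⟶ X} {U : X.Opens} (C : Centre p U) [Mono (p ∣_ U)]
    {X' T' : Scheme.{u}} (b : X' ⟶ X) (c : T' ⟶ T) (hb : BlowUp.IsBlowUp b C.K)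
    (hc : BlowUp.IsBlowUp c (C.K.comap p)) (h : T' ⟶ X') (hh : h ≫ b = c ≫ p) : IsOpenImmersion h := by
  have hle : C.P ≤ C.K := C.hle
  have hcm : C.K.comap p = C.P.comap p := C.hcomap
  let Kc := colon (C.P.comap b) (LocFG.of_isEffCartier hb.1)
  have hKc : Kc * C.K.comap b = C.P.comap b := colon_mul hb.1 (Scheme.IdealSheafData.comap_mono b hle)
  let O : X'.Opens := Kc.support.compl
  have hKO : (C.K.comap b).comap O.ι = (C.P.comap b).comap O.ι := by
    rw [← hKc, Groth.L22.Ideals.comap_mul, Groth.L22.Ideals.comap_eq_top Kc O.ι (fun y => y.2),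
      Scheme.IdealSheafData.top_mul]
  have hEO : BlowUp.IsEffCartierIdeal (C.K.comap (O.ι ≫ b)) := by
    rw [Scheme.IdealSheafData.comap_comp]
    exact Groth.L22.Ideals.isEffCartier_comap_of_flat _ hb.1
  have hPO : C.K.comap (O.ι ≫ b) = C.P.comap (O.ι ≫ b) := by
    simp only [Scheme.IdealSheafData.comap_comp]; exact hKO
  obtain ⟨ψ, hψ⟩ := C.exists_lift (O.ι ≫ b) hEO hPO
  have hs₀ : BlowUp.IsEffCartierIdeal ((C.K.comap p).comap ψ) := by
    rw [← Scheme.IdealSheafData.comap_comp, hψ]; exact hEO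
  obtain ⟨s, hs, -⟩ := hc.2 _ ψ hs₀
  have hs : s ≫ c = ψ := hs
  have hEh : BlowUp.IsEffCartierIdeal ((C.K.comap b).comap h) := by
    rw [← Scheme.IdealSheafData.comap_comp, hh, Scheme.IdealSheafData.comap_comp]
    exact hc.1
  have hO : Set.range (fun y => h y) ⊆ (O : Set X') := by
    rintro _ ⟨y, rfl⟩ hy
    have e : Kc.comap h = ⊤ := by
      refine eq_of_mul_eq hEh ?_
      rw [← Groth.L22.Ideals.comap_mul, hKc, Scheme.IdealSheafData.top_mul]
      simp only [← Scheme.IdealSheafData.comap_comp, hh]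
      simp only [Scheme.IdealSheafData.comap_comp, hcm]
    have : y ∈ (Kc.comap h).support := by
      rw [Scheme.IdealSheafData.support_comap]; exact hy
    rw [e, Scheme.IdealSheafData.support_top] at this
    exact this
  let h' := IsOpenImmersion.lift O.ι h (by rw [Scheme.Opens.range_ι]; exact hO)
  have hh' : h' ≫ O.ι = h := IsOpenImmersion.lift_fac _ _ _
  have h1 : s ≫ h' = 𝟙 _ := by
    rw [← cancel_mono O.ι, Category.assoc, hh', Category.id_comp]
    refine blowUp_hom_ext hb ?_ ?_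
    · rw [Category.assoc, hh, reassoc_of% hs, hψ]; exact hEO
    · rw [Category.assoc, hh, reassoc_of% hs, hψ]
  have h2 : h' ≫ s = 𝟙 _ := by
    refine blowUp_hom_ext hc ?_ ?_
    · rw [Category.assoc, hs, ← Scheme.IdealSheafData.comap_comp, Category.assoc, hψ, reassoc_of% hh',
        hh, Scheme.IdealSheafData.comap_comp]
      exact hc.1
    · rw [Category.assoc, hs, Category.id_comp]
      refine C.hom_ext ?_ ?_
      · rw [Category.assoc, hψ, reassoc_of% hh', hh]
      · rw [Category.assoc, hψ, reassoc_of% hh', hh, Scheme.IdealSheafData.comap_comp, ← hcm]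
        exact hc.1
  haveI : IsIso h' := ⟨s, h2, h1⟩
  rw [← hh']
  infer_instance

end Groth.L13.Nagata
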