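import Groth.Agent.L13.Nagata.Pair

/-!
# Common blow-ups of birational morphisms
-/

set_option autoImplicit false
set_option linter.style.haveILetI false
set_option backward.isDefEq.respectTransparency.types false

universe u

open CategoryTheory CategoryTheory.Limits AlgebraicGeometry TopologicalSpace

noncomputable section

namespace Groth.L13.Nagata

variable {X Y Y₁ Y₂ : Scheme.{u}}

/-- The image of an open contained in the locus where `π` is an isomorphism. -/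
theorem exists_image_open (π : X ⟶ Y) (V : Y.Opens) [IsIso (π ∣_ V)] (U : X.Opens) (hU : U ≤ π ⁻¹ᵁ V)
    (hUc : IsCompact (U : Set X)) :
    ∃ W : Y.Opens, (W : Set Y) = (fun x => π x) '' (U : Set X) ∧ IsCompact (W : Set Y) ∧ π ⁻¹ᵁ W = U ∧
      IsOpenImmersion (π ∣_ W) := by
  haveI : IsOpenImmersion ((π ⁻¹ᵁ V).ι ≫ π) := by rw [← morphismRestrict_ι]; infer_instance
  let r := X.homOfLE hU ≫ (π ⁻¹ᵁ V).ι ≫ π
  haveI : IsOpenImmersion r := inferInstanceAs (IsOpenImmersion (X.homOfLE hU ≫ (π ⁻¹ᵁ V).ι ≫ π))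
  have hr : r = U.ι ≫ π := by simp [r]
  have hcoe : (r.opensRange : Set Y) = (fun x => π x) '' (U : Set X) := by
    show Set.range r = _
    rw [hr, Scheme.Hom.comp_base, TopCat.coe_comp, Set.range_comp, Scheme.Opens.range_ι]
  have hinj : Function.Injective ((π ⁻¹ᵁ V).ι ≫ π) := Scheme.Hom.injective _
  have hpre : π ⁻¹ᵁ r.opensRange = U := by
    refine le_antisymm (fun x hx => ?_) fun x hx => ?_
    · obtain ⟨u, hu, hux⟩ := hcoe.subset hx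
      have hxV : x ∈ π ⁻¹ᵁ V := show π x ∈ V from hux ▸ hU hu
      have := @hinj ⟨u, hU hu⟩ ⟨x, hxV⟩ (by rw [Scheme.Hom.comp_apply, Scheme.Hom.comp_apply]; exact hux)
      exact (show u = x from congrArg Subtype.val this) ▸ hu
    · exact hcoe.superset ⟨x, hx, rfl⟩
  refine ⟨r.opensRange, hcoe, by rw [hcoe]; exact hUc.image π.continuous, hpre, ?_⟩
  haveI : IsOpenImmersion ((π ⁻¹ᵁ r.opensRange).ι ≫ π) := by
    rw [← X.homOfLE_ι hpre.le, Category.assoc, ← hr]; infer_instance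
  exact isOpenImmersion_restrict_of_comp π r.opensRange

/-- Birational separated morphisms of finite type become open immersions after common blow-ups. -/
theorem exists_common_birational [CompactSpace X] [QuasiSeparatedSpace X]
    [CompactSpace Y₁] [QuasiSeparatedSpace Y₁] [CompactSpace Y₂] [QuasiSeparatedSpace Y₂]
    (π₁ : X ⟶ Y₁) (π₂ : X ⟶ Y₂)
    [IsSeparated π₁] [QuasiCompact π₁] [LocallyOfFiniteType π₁]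
    [IsSeparated π₂] [QuasiCompact π₂] [LocallyOfFiniteType π₂]
    (U₁ : Y₁.Opens) (U₂ : Y₂.Opens) (hU₁ : IsCompact (U₁ : Set Y₁)) (hU₂ : IsCompact (U₂ : Set Y₂))
    [IsIso (π₁ ∣_ U₁)] [IsIso (π₂ ∣_ U₂)] :
    ∃ (I : X.IdealSheafData) (J₁ : Y₁.IdealSheafData) (J₂ : Y₂.IdealSheafData)
      (Xt Yt₁ Yt₂ : Scheme.{u}) (b : Xt ⟶ X) (c₁ : Yt₁ ⟶ Y₁) (c₂ : Yt₂ ⟶ Y₂) (j₁ : Xt ⟶ Yt₁) (j₂ : Xt ⟶ Yt₂),
      BlowUp.IsBlowUp b I ∧ BlowUp.IsAdmissibleFor (π₁ ⁻¹ᵁ U₁ ⊓ π₂ ⁻¹ᵁ U₂) I ∧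
      BlowUp.IsBlowUp c₁ J₁ ∧ BlowUp.IsFiniteTypeIdeal J₁ ∧
        Disjoint (J₁.support : Set Y₁) ((fun x => π₁ x) '' ((π₁ ⁻¹ᵁ U₁ ⊓ π₂ ⁻¹ᵁ U₂ : X.Opens) : Set X)) ∧
      BlowUp.IsBlowUp c₂ J₂ ∧ BlowUp.IsFiniteTypeIdeal J₂ ∧
        Disjoint (J₂.support : Set Y₂) ((fun x => π₂ x) '' ((π₁ ⁻¹ᵁ U₁ ⊓ π₂ ⁻¹ᵁ U₂ : X.Opens) : Set X)) ∧
      IsOpenImmersion j₁ ∧ IsOpenImmersion j₂ ∧ j₁ ≫ c₁ = b ≫ π₁ ∧ j₂ ≫ c₂ = b ≫ π₂ := by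
  let U : X.Opens := π₁ ⁻¹ᵁ U₁ ⊓ π₂ ⁻¹ᵁ U₂
  have hU : IsCompact (U : Set X) := QuasiSeparatedSpace.inter_isCompact _ _ (π₁ ⁻¹ᵁ U₁).2
    (π₁.isCompact_preimage hU₁) (π₂ ⁻¹ᵁ U₂).2 (π₂.isCompact_preimage hU₂)
  obtain ⟨W₁, hW₁, hW₁c, hp₁, ho₁⟩ := exists_image_open π₁ U₁ U inf_le_left hU
  obtain ⟨W₂, hW₂, hW₂c, hp₂, ho₂⟩ := exists_image_open π₂ U₂ U inf_le_right hU
  obtain ⟨J₁, hJ₁, -, hg₁⟩ := exists_good π₁ W₁ hW₁c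
  obtain ⟨J₂, hJ₂, -, hg₂⟩ := exists_good π₂ W₂ hW₂c
  have hB₂ : BlowUp.IsAdmissibleFor (π₁ ⁻¹ᵁ W₁) (J₂.comap π₂) := by
    rw [hp₁, ← hp₂]; exact admissible_comap hJ₂ π₂
  have hB₁ : BlowUp.IsAdmissibleFor (π₂ ⁻¹ᵁ W₂) (J₁.comap π₁) := by
    rw [hp₂, ← hp₁]; exact admissible_comap hJ₁ π₁
  obtain ⟨K₁, Yt₁, Xt, c₁, b, o₁, hc₁, hK₁, hb, ho₁', e₁⟩ :=
    exists_extend_piece π₁ _ hW₁c J₁ hJ₁ hg₁ _ hB₂
  obtain ⟨K₂, Yt₂, Xt', c₂, b', o₂, hc₂, hK₂, hb', ho₂', e₂⟩ :=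
    exists_extend_piece π₂ _ hW₂c J₂ hJ₂ hg₂ _ hB₁
  rw [mul_comm] at hb'
  obtain ⟨w, hw, -⟩ := hb'.2 Xt b hb.1
  have hw : w ≫ b' = b := hw
  haveI := Groth.L13.BU.isIso_of_blowUps hb' hb w hw
  refine ⟨_, K₁, K₂, Xt, Yt₁, Yt₂, b, c₁, c₂, o₁, w ≫ o₂, hb, ?_, hc₁, hK₁.1, hW₁ ▸ hK₁.2, hc₂, hK₂.1,
    hW₂ ▸ hK₂.2, ho₁', inferInstance, e₁, by rw [Category.assoc, e₂, reassoc_of% hw]⟩
  show BlowUp.IsAdmissibleFor U _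
  exact admissible_mul (hp₁ ▸ admissible_comap hJ₁ π₁) (hp₂ ▸ admissible_comap hJ₂ π₂)

end Groth.L13.Nagata
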