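import Groth.Agent.L13.Nagata.Image
import Groth.Agent.S8857

/-!
# Extending sections of proper morphisms after admissible blow-ups
-/

set_option autoImplicit false
set_option linter.style.haveILetI false
set_option backward.isDefEq.respectTransparency.types false

universe u

open CategoryTheory CategoryTheory.Limits AlgebraicGeometry TopologicalSpace

noncomputable section

namespace Groth.L13.Nagata

variable {X S T : Scheme.{u}}

/-- Two lifts through a morphism which is an isomorphism over an open containing their image agree. -/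
theorem eq_of_isIso_restrict {Z : Scheme.{u}} (p : T ⟶ X) (V : X.Opens) [IsIso (p ∣_ V)] {r₁ r₂ : Z ⟶ T}
    (h : r₁ ≫ p = r₂ ≫ p) (hr : ∀ z, p (r₁ z) ∈ V) : r₁ = r₂ := by
  have h₂ : ∀ z, p (r₂ z) ∈ V := fun z => by
    rw [← Scheme.Hom.comp_apply, ← h, Scheme.Hom.comp_apply]; exact hr z
  let l₁ : Z ⟶ (p ⁻¹ᵁ V : T.Opens) := IsOpenImmersion.lift (p ⁻¹ᵁ V).ι r₁ (by
    rw [Scheme.Opens.range_ι]; rintro _ ⟨z, rfl⟩; exact hr z)
  let l₂ : Z ⟶ (p ⁻¹ᵁ V : T.Opens) := IsOpenImmersion.lift (p ⁻¹ᵁ V).ι r₂ (by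
    rw [Scheme.Opens.range_ι]; rintro _ ⟨z, rfl⟩; exact h₂ z)
  have e₁ : l₁ ≫ (p ⁻¹ᵁ V).ι = r₁ := IsOpenImmersion.lift_fac _ _ _
  have e₂ : l₂ ≫ (p ⁻¹ᵁ V).ι = r₂ := IsOpenImmersion.lift_fac _ _ _
  have e : l₁ = l₂ := by
    rw [← cancel_mono (p ∣_ V), ← cancel_mono V.ι]
    simp only [Category.assoc, morphismRestrict_ι, reassoc_of% e₁, reassoc_of% e₂, h]
  rw [← e₁, ← e₂, e]

/-- A section over `U` of a proper morphism over `W` extends after a `U`-admissible blow-up. -/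
theorem exists_extend_section [CompactSpace S] [QuasiSeparatedSpace S]
    (U W : S.Opens) (hUW : U ≤ W) (hU : IsCompact (U : Set S)) (hW : IsCompact (W : Set S))
    (f : X ⟶ (W : Scheme.{u})) [IsProper f] (s : (U : Scheme.{u}) ⟶ X) (hs : s ≫ f = S.homOfLE hUW) :
    ∃ (I : S.IdealSheafData) (S' : Scheme.{u}) (b : S' ⟶ S), BlowUp.IsBlowUp b I ∧ BlowUp.IsAdmissibleFor U I ∧
      ∃ s' : ((b ⁻¹ᵁ W : S'.Opens) : Scheme.{u}) ⟶ X, s' ≫ f = b ∣_ W ∧
        S'.homOfLE (show b ⁻¹ᵁ U ≤ b ⁻¹ᵁ W from fun _ hx => hUW hx) ≫ s' = (b ∣_ U) ≫ s := by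
  haveI : CompactSpace (W : Scheme.{u}) := isCompact_iff_compactSpace.1 hW
  haveI : CompactSpace (U : Scheme.{u}) := isCompact_iff_compactSpace.1 hU
  haveI : QuasiSeparatedSpace (W : Scheme.{u}) := quasiSeparatedSpace_of_quasiSeparated W.ι
  haveI : QuasiSeparatedSpace X := quasiSeparatedSpace_of_quasiSeparated f
  haveI : QuasiCompact s := quasiCompact_of_compactSpace s
  let j := S.homOfLE hUW
  let O := f ⁻¹ᵁ j.opensRange
  let m' : (U : Scheme.{u}) ⟶ (O : Scheme.{u}) := IsOpenImmersion.lift O.ι s (by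
    rw [Scheme.Opens.range_ι]
    rintro _ ⟨x, rfl⟩
    show f (s x) ∈ j.opensRange
    rw [← Scheme.Hom.comp_apply, hs]
    exact ⟨x, rfl⟩)
  have hm : m' ≫ O.ι = s := IsOpenImmersion.lift_fac _ _ _
  haveI : IsClosedImmersion m' := by
    have e : m' ≫ (f ∣_ j.opensRange) = j.isoOpensRange.hom := by
      rw [← cancel_mono j.opensRange.ι, Category.assoc, morphismRestrict_ι, reassoc_of% hm, hs,
        Scheme.Hom.isoOpensRange_hom_ι]
    haveI : IsClosedImmersion (m' ≫ (f ∣_ j.opensRange)) := by rw [e]; infer_instance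
    exact IsClosedImmersion.of_comp m' (f ∣_ j.opensRange)
  obtain ⟨ht, hr⟩ := toImage_openImmersion s O m' hm
  haveI := ht
  let p := s.imageι ≫ f
  have h1 : s.toImage ≫ p = j := by rw [Scheme.Hom.toImage_imageι_assoc, hs]
  have hr' : p ⁻¹ᵁ j.opensRange = s.toImage.opensRange := hr.symm
  haveI := isIso_restrict_of_section p j s.toImage h1 hr'.le
  obtain ⟨J, X', T', b, c, h, hb, hc, hJ, -, hh, hhb⟩ :=
    exists_isIso_blowUps p j.opensRange (isCompact_range j.continuous)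
  rw [show j.opensRange = W.ι ⁻¹ᵁ U from Scheme.opensRange_homOfLE hUW] at hJ
  obtain ⟨I, hI, -, hIW⟩ := Groth.Agent.S8857.result S U W hU hW J hJ
  obtain ⟨S', b₀, hb₀⟩ := Groth.L13.BU.exists_isBlowUp I
  obtain ⟨e, he, -⟩ := hb.2 _ (b₀ ∣_ W) (hIW S' b₀ hb₀).1
  replace he : e ≫ b = b₀ ∣_ W := he
  let r := e ≫ inv h ≫ c
  have hr₀ : r ≫ p = b₀ ∣_ W := by
    simp only [r, Category.assoc, ← hhb, IsIso.inv_hom_id_assoc, he]
  refine ⟨I, S', b₀, hb₀, hI, r ≫ s.imageι, by rw [Category.assoc]; exact hr₀, ?_⟩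
  have hle : b₀ ⁻¹ᵁ U ≤ b₀ ⁻¹ᵁ W := fun _ hx => hUW hx
  have hcomm : S'.homOfLE hle ≫ (b₀ ∣_ W) = (b₀ ∣_ U) ≫ j := by
    rw [← cancel_mono W.ι]
    simp only [j, Category.assoc, morphismRestrict_ι, Scheme.homOfLE_ι, Scheme.homOfLE_ι_assoc]
  have key : S'.homOfLE hle ≫ r = (b₀ ∣_ U) ≫ s.toImage := by
    refine eq_of_isIso_restrict p j.opensRange (by rw [Category.assoc, hr₀, hcomm, Category.assoc, h1]) fun z => ?_
    rw [← Scheme.Hom.comp_apply, Category.assoc, hr₀, hcomm, Scheme.Hom.comp_apply]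
    exact ⟨_, rfl⟩
  rw [← Category.assoc, key, Category.assoc, Scheme.Hom.toImage_imageι]

end Groth.L13.Nagata
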