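import Groth.Agent.L07.FittStrict
import Groth.Agent.L13.ModPair.Colon
import Groth.Agent.L22.Ideal

/-!
# Fitting ideals which are locally zero or invertible
-/

set_option autoImplicit false
set_option linter.style.haveILetI false
set_option backward.isDefEq.respectTransparency.types false

universe u

open CategoryTheory CategoryTheory.Limits AlgebraicGeometry TopologicalSpace Opposite

noncomputable section

namespace Groth.L13.Nagata

open Groth.L18.Frame (rs ro rs_rs ro_ro rs_smul)

variable {X : Scheme.{u}}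

/-- The annihilator of a locally finitely generated ideal sheaf kills it. -/
theorem mul_colon_bot {I : X.IdealSheafData} (hI : Groth.L13.MP.LocFG I) :
    I * Groth.L13.MP.colon ⊥ hI = ⊥ := by
  refine le_bot_iff.1 fun V => ?_
  rw [Scheme.IdealSheafData.ideal_mul, Pi.mul_apply]
  refine Ideal.mul_le.2 fun a ha b hb => ?_
  rw [mul_comm]
  exact Submodule.mem_colon.1 hb a ha

/-- If `I ⊔ A` is an effective Cartier divisor and `I A = 0` then `I` is locally zero or invertible. -/
theorem exists_bot_or_principal {I A : X.IdealSheafData} (hIA : I * A = ⊥)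
    (hE : BlowUp.IsEffCartierIdeal (I ⊔ A)) (x : X) :
    ∃ V : X.affineOpens, x ∈ V.1 ∧
      (I.ideal V = ⊥ ∨ ∃ t ∈ nonZeroDivisors Γ(X, V.1), I.ideal V = Ideal.span {t}) := by
  obtain ⟨V, hxV, e, he, hV⟩ := hE x
  have hsup : I.ideal V ⊔ A.ideal V = Ideal.span {e} := by
    rw [← hV, Scheme.IdealSheafData.ideal_sup, Pi.sup_apply]
  have hmul : ∀ y ∈ I.ideal V, ∀ z ∈ A.ideal V, y * z = 0 := fun y hy z hz => by
    have h : y * z ∈ (I * A).ideal V := by
      rw [Scheme.IdealSheafData.ideal_mul, Pi.mul_apply]; exact Ideal.mul_mem_mul hy hz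
    rwa [hIA, Scheme.IdealSheafData.ideal_bot, Pi.bot_apply, Ideal.mem_bot] at h
  obtain ⟨i, hi, a, ha, hia⟩ := Submodule.mem_sup.1 (hsup.symm ▸ Ideal.mem_span_singleton_self e)
  obtain ⟨q, hq⟩ := Ideal.mem_span_singleton'.1 (hsup ▸ Ideal.mem_sup_left hi : i ∈ Ideal.span {e})
  obtain ⟨q', hq'⟩ := Ideal.mem_span_singleton'.1 (hsup ▸ Ideal.mem_sup_right ha : a ∈ Ideal.span {e})
  subst hq hq'
  have hq1 : q + q' = 1 := (mul_cancel_right_mem_nonZeroDivisors he).1 (by linear_combination hia)
  have hqq : q * q' = 0 := he.1 _ (by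
    have h := hmul _ hi _ ha
    exact he.1 _ (by linear_combination h))
  have hspan : I.ideal V = Ideal.span {q * e} := by
    refine le_antisymm (fun y hy => ?_) ((Ideal.span_singleton_le_iff_mem _).2 hi)
    obtain ⟨z, rfl⟩ := Ideal.mem_span_singleton'.1 (hsup ▸ Ideal.mem_sup_left hy : y ∈ Ideal.span {e})
    have hz : z * q' = 0 := he.1 _ (he.1 _ (by linear_combination hmul _ hy _ ha))
    refine Ideal.mem_span_singleton'.2 ⟨z, ?_⟩
    linear_combination (z * e) * hq1 - e * hz
  have hres : ∀ a : Γ(X, V.1), I.ideal (X.affineBasicOpen a) =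
      Ideal.span {ro (X.basicOpen_le a) (q * e)} := fun a =>
    Groth.L07.FittStrict.ideal_basicOpen_span V (q * e) a I hspan
  by_cases hx : x ∈ X.basicOpen q
  · refine ⟨X.affineBasicOpen q, hx, Or.inr ⟨ro (X.basicOpen_le q) e, ?_, ?_⟩⟩
    · letI : Algebra Γ(X, V.1) Γ(X, X.basicOpen q) :=
        (X.presheaf.map (homOfLE (X.basicOpen_le q)).op).hom.toAlgebra
      haveI : IsLocalization.Away q Γ(X, X.basicOpen q) := V.2.isLocalization_basicOpen q
      exact IsLocalization.map_nonZeroDivisors_le (Submonoid.powers q) Γ(X, X.basicOpen q) ⟨e, he, rfl⟩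
    · rw [hres q]
      refine (congrArg (fun b => Ideal.span {b}) (map_mul _ _ _)).trans ?_
      exact Ideal.span_singleton_mul_left_unit (X.toRingedSpace.isUnit_res_basicOpen q) _
  · have hx' : x ∈ X.basicOpen q' := by
      rw [X.mem_basicOpen _ x hxV] at hx ⊢
      refine (IsLocalRing.isUnit_or_isUnit_of_add_one ?_).resolve_left hx
      rw [← map_add, hq1, map_one]
    refine ⟨X.affineBasicOpen q', hx', Or.inl ?_⟩
    rw [hres q']
    refine Ideal.span_singleton_eq_bot.2 ?_
    refine ((X.toRingedSpace.isUnit_res_basicOpen q').mul_right_eq_zero).1 ?_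
    show ro (X.basicOpen_le q') q' * ro (X.basicOpen_le q') (q * e) = 0
    rw [← map_mul, show q' * (q * e) = 0 by linear_combination e * hqq, map_zero]

end Groth.L13.Nagata
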