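import Groth.Agent.L19.Approx.Glue
import Mathlib.AlgebraicGeometry.Morphisms.Separated
import Mathlib.AlgebraicGeometry.Morphisms.FiniteType
import Mathlib.AlgebraicGeometry.Morphisms.Proper
import Mathlib.AlgebraicGeometry.ZariskisMainTheorem

/-!
# Gluing two separated schemes along a common open
-/

set_option autoImplicit false
set_option linter.style.haveILetI false
set_option backward.isDefEq.respectTransparency false
set_option backward.isDefEq.respectTransparency.types false

universe u

open CategoryTheory CategoryTheory.Limits AlgebraicGeometry TopologicalSpace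

noncomputable section

namespace Groth.L13.Nagata

variable {U A B W S : Scheme.{u}}

theorem isPullback_diagonal_piece (q : W ⟶ S) (a : A ⟶ W) (b : B ⟶ W) :
    IsPullback (pullback.fst a b ≫ a)
      (pullback.lift (pullback.fst a b) (pullback.snd a b) (by rw [pullback.condition_assoc]) :
        pullback a b ⟶ pullback (a ≫ q) (b ≫ q))
      (pullback.diagonal q)
      (pullback.map (a ≫ q) (b ≫ q) q q a b (𝟙 S) (Category.comp_id _) (Category.comp_id _)) := by
  refine IsPullback.of_isLimit' ⟨?_⟩ (PullbackCone.IsLimit.mk _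
    (fun s => pullback.lift (s.snd ≫ pullback.fst _ _) (s.snd ≫ pullback.snd _ _) ?_) ?_ ?_ ?_)
  · refine pullback.hom_ext ?_ ?_
    · simp
    · simp [pullback.condition]
  · have h1 := congrArg (· ≫ pullback.fst q q) s.condition
    have h2 := congrArg (· ≫ pullback.snd q q) s.condition
    simp at h1 h2
    simp only [Category.assoc]
    rw [← h1, ← h2]
  · intro s
    have h1 := congrArg (· ≫ pullback.fst q q) s.condition
    simp at h1
    simp [h1]
  · intro s
    apply pullback.hom_ext <;> simp
  · intro s m h1 h2
    refine pullback.hom_ext ?_ ?_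
    · have := congrArg (· ≫ pullback.fst (a ≫ q) (b ≫ q)) h2
      simp at this
      simpa using this
    · have := congrArg (· ≫ pullback.snd (a ≫ q) (b ≫ q)) h2
      simp at this
      simpa using this

/-- Two separated schemes glued along an open whose graph is closed give a separated scheme. -/
theorem exists_glue_separated (gA : A ⟶ S) (gB : B ⟶ S) [IsSeparated gA] [IsSeparated gB]
    [QuasiCompact gA] [QuasiCompact gB] [LocallyOfFiniteType gA] [LocallyOfFiniteType gB]
    (a : U ⟶ A) (b : U ⟶ B) [IsOpenImmersion a] [IsOpenImmersion b] (h : a ≫ gA = b ≫ gB)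
    [IsClosedImmersion (pullback.lift a b h)] :
    ∃ (W : Scheme.{u}) (q : W ⟶ S) (iA : A ⟶ W) (iB : B ⟶ W),
      IsSeparated q ∧ QuasiCompact q ∧ LocallyOfFiniteType q ∧ IsOpenImmersion iA ∧ IsOpenImmersion iB ∧
      a ≫ iA = b ≫ iB ∧ iA ≫ q = gA ∧ iB ≫ q = gB ∧ (∀ w : W, (∃ x, iA x = w) ∨ ∃ y, iB y = w) ∧
      ∀ x y, iA x = iB y → ∃ z, a z = x ∧ b z = y := by
  let q : (pushout a b : Scheme.{u}) ⟶ S := pushout.desc gA gB h
  let iA := pushout.inl a b
  let iB := pushout.inr a b
  haveI : IsOpenImmersion iA := Groth.L19.Approx.isOpenImmersion_inl a b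
  haveI : IsOpenImmersion iB := Groth.L19.Approx.isOpenImmersion_inr a b
  have hA : iA ≫ q = gA := pushout.inl_desc _ _ _
  have hB : iB ≫ q = gB := pushout.inr_desc _ _ _
  have hcov := Groth.L19.Approx.exists_inl_or_inr a b
  have hint : ∀ x y, iA x = iB y → ∃ z, a z = x ∧ b z = y := fun x y e =>
    Groth.L19.Approx.exists_of_inl_eq_inr a b e
  let 𝒰 : (pushout a b : Scheme.{u}).OpenCover :=
    Scheme.Cover.mkOfCovers Bool (fun i => cond i A B) (fun i => match i with | true => iA | false => iB)
      (fun w => (hcov w).elim (fun ⟨x, hx⟩ => ⟨true, x, hx⟩) (fun ⟨y, hy⟩ => ⟨false, y, hy⟩))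
      (fun i => match i with | true => ‹IsOpenImmersion iA› | false => ‹IsOpenImmersion iB›)
  have hsep : ∀ i, IsSeparated (𝒰.f i ≫ q) := fun i => match i with
    | true => show IsSeparated (iA ≫ q) by rw [hA]; infer_instance
    | false => show IsSeparated (iB ≫ q) by rw [hB]; infer_instance
  refine ⟨_, q, iA, iB, ⟨?_⟩, ?_, ?_, inferInstance, inferInstance, pushout.condition, hA, hB, hcov, hint⟩
  · -- separatedness
    have hab : IsPullback a b iA iB := by
      let l := pullback.lift a b (pushout.condition : a ≫ iA = b ≫ iB)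
      haveI : IsOpenImmersion (pullback.fst iA iB) := MorphismProperty.pullback_fst _ _ inferInstance
      haveI : IsOpenImmersion (l ≫ pullback.fst iA iB) := by rw [pullback.lift_fst]; infer_instance
      haveI : IsOpenImmersion l := IsOpenImmersion.of_comp l (pullback.fst iA iB)
      haveI : Surjective l := ⟨fun w => by
        obtain ⟨z, hz1, hz2⟩ := hint (pullback.fst iA iB w) (pullback.snd iA iB w) (by
          rw [← Scheme.Hom.comp_apply, ← Scheme.Hom.comp_apply, pullback.condition])
        refine ⟨z, (pullback.fst iA iB).isOpenEmbedding.injective ?_⟩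
        rw [← Scheme.Hom.comp_apply, pullback.lift_fst, hz1]⟩
      haveI : IsIso l := (isIso_iff_isOpenImmersion_and_surjective _).2 ⟨inferInstance, inferInstance⟩
      exact IsPullback.of_iso_pullback ⟨pushout.condition⟩ (asIso l) (pullback.lift_fst _ _ _) (pullback.lift_snd _ _ _)
    refine IsZariskiLocalAtTarget.of_openCover (P := @IsClosedImmersion)
      (Scheme.Pullback.openCoverOfLeftRight 𝒰 𝒰 q q) fun ij => ?_
    obtain ⟨i, j⟩ := ij
    have key := isPullback_diagonal_piece q (𝒰.f i) (𝒰.f j)
    suffices hc : IsClosedImmersion (pullback.lift (pullback.fst (𝒰.f i) (𝒰.f j))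
        (pullback.snd (𝒰.f i) (𝒰.f j)) (by rw [pullback.condition_assoc]) :
          pullback (𝒰.f i) (𝒰.f j) ⟶ pullback (𝒰.f i ≫ q) (𝒰.f j ≫ q)) by
      show IsClosedImmersion (pullback.snd (pullback.diagonal q)
        (pullback.map (𝒰.f i ≫ q) (𝒰.f j ≫ q) q q (𝒰.f i) (𝒰.f j) (𝟙 S) (Category.comp_id _) (Category.comp_id _)))
      rw [← key.isoPullback_inv_snd]
      infer_instance
    have hdiag : ∀ {C : Scheme.{u}} (c : C ⟶ pushout a b) [IsOpenImmersion c] [IsSeparated (c ≫ q)],
        IsClosedImmersion (pullback.lift (pullback.fst c c) (pullback.snd c c) (by rw [pullback.condition_assoc]) :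
          pullback c c ⟶ pullback (c ≫ q) (c ≫ q)) := by
      intro C c _ _
      have e : pullback.fst c c = pullback.snd c c := (cancel_mono c).1 pullback.condition
      haveI : IsIso (pullback.fst c c) := inferInstance
      have e' : (pullback.lift (pullback.fst c c) (pullback.snd c c) (by rw [pullback.condition_assoc]) :
          pullback c c ⟶ pullback (c ≫ q) (c ≫ q)) = pullback.fst c c ≫ pullback.diagonal (c ≫ q) := by
        refine pullback.hom_ext ?_ ?_ <;> simp [e]
      rw [e']
      infer_instance
    have hAB : IsClosedImmersion (pullback.lift (pullback.fst iA iB) (pullback.snd iA iB)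
        (by rw [pullback.condition_assoc]) : pullback iA iB ⟶ pullback (iA ≫ q) (iB ≫ q)) := by
      let m : pullback (iA ≫ q) (iB ≫ q) ⟶ pullback gA gB :=
        pullback.map _ _ _ _ (𝟙 _) (𝟙 _) (𝟙 _) (by simp [hA]) (by simp [hB])
      haveI : IsIso m := inferInstance
      haveI : IsClosedImmersion ((pullback.lift (pullback.fst iA iB) (pullback.snd iA iB)
        (by rw [pullback.condition_assoc]) : pullback iA iB ⟶ pullback (iA ≫ q) (iB ≫ q)) ≫ m) := by
        have e' : (pullback.lift (pullback.fst iA iB) (pullback.snd iA iB)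
            (by rw [pullback.condition_assoc]) : pullback iA iB ⟶ pullback (iA ≫ q) (iB ≫ q)) ≫ m =
            hab.isoPullback.inv ≫ pullback.lift a b h := by
          refine pullback.hom_ext ?_ ?_ <;> simp [m]
        rw [e']; infer_instance
      exact IsClosedImmersion.of_comp_isClosedImmersion _ m
    match i, j with
    | true, true => haveI : IsSeparated (iA ≫ q) := hsep true; exact hdiag iA
    | false, false => haveI : IsSeparated (iB ≫ q) := hsep false; exact hdiag iB
    | true, false => exact hAB
    | false, true =>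
      haveI := hAB
      have e' : (pullback.lift (pullback.fst iB iA) (pullback.snd iB iA) (by rw [pullback.condition_assoc]) :
          pullback iB iA ⟶ pullback (iB ≫ q) (iA ≫ q)) = (pullbackSymmetry iB iA).hom ≫
          (pullback.lift (pullback.fst iA iB) (pullback.snd iA iB) (by rw [pullback.condition_assoc]) :
            pullback iA iB ⟶ pullback (iA ≫ q) (iB ≫ q)) ≫ (pullbackSymmetry _ _).hom := by
        refine pullback.hom_ext ?_ ?_ <;> simp
      refine (?_ : IsClosedImmersion (pullback.lift (pullback.fst iB iA) (pullback.snd iB iA)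
        (by rw [pullback.condition_assoc]) : pullback iB iA ⟶ pullback (iB ≫ q) (iA ≫ q)))
      rw [e']
      infer_instance
  · refine ⟨fun V hVo hVc => ?_⟩
    let V' : S.Opens := ⟨V, hVo⟩
    have e : q ⁻¹' V = iA '' (gA ⁻¹' V) ∪ iB '' (gB ⁻¹' V) := by
      ext w
      constructor
      · intro hw
        rcases hcov w with ⟨x, rfl⟩ | ⟨y, rfl⟩
        · exact Or.inl ⟨x, by rw [Set.mem_preimage, ← hA, Scheme.Hom.comp_apply]; exact hw, rfl⟩
        · exact Or.inr ⟨y, by rw [Set.mem_preimage, ← hB, Scheme.Hom.comp_apply]; exact hw, rfl⟩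
      · rintro (⟨x, hx, rfl⟩ | ⟨y, hy, rfl⟩)
        · rw [Set.mem_preimage, ← Scheme.Hom.comp_apply, hA]; exact hx
        · rw [Set.mem_preimage, ← Scheme.Hom.comp_apply, hB]; exact hy
    rw [e]
    exact ((gA.isCompact_preimage (U := V') hVc).image iA.continuous).union
      ((gB.isCompact_preimage (U := V') hVc).image iB.continuous)
  · refine IsZariskiLocalAtSource.of_openCover (P := @LocallyOfFiniteType) 𝒰 fun i => ?_
    match i with
    | true => show LocallyOfFiniteType (iA ≫ q); rw [hA]; infer_instance
    | false => show LocallyOfFiniteType (iB ≫ q); rw [hB]; infer_instance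

/-- The closed image criterion: a proper monomorphism is a closed immersion. -/
theorem isClosedImmersion_of_proper_mono {X Y : Scheme.{u}} (f : X ⟶ Y) [IsProper f] [Mono f] :
    IsClosedImmersion f :=
  (IsClosedImmersion.iff_isProper_and_mono f).2 ⟨inferInstance, inferInstance⟩

end Groth.L13.Nagata
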