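import Groth.Agent.L13.Nagata.Modification
import Groth.Agent.L02.Misc.STD

/-!
# Closures of graphs
-/

set_option autoImplicit false
set_option linter.style.haveILetI false
set_option backward.isDefEq.respectTransparency.types false

universe u

open CategoryTheory CategoryTheory.Limits AlgebraicGeometry TopologicalSpace

noncomputable section

namespace Groth.L13.Nagata

variable {U P T X S : Scheme.{u}}

/-- Inside an open where it is closed, a subscheme coincides with its scheme-theoretic image. -/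
theorem toImage_openImmersion (m : U ⟶ P) [QuasiCompact m] (O : P.Opens) (m' : U ⟶ (O : Scheme.{u}))
    (hm : m' ≫ O.ι = m) [IsClosedImmersion m'] :
    ∃ _ : IsOpenImmersion m.toImage, m.toImage.opensRange = m.imageι ⁻¹ᵁ O := by
  let O' := m.imageι ⁻¹ᵁ O
  let u : U ⟶ (O' : Scheme.{u}) := IsOpenImmersion.lift O'.ι m.toImage (by
    rw [Scheme.Opens.range_ι]
    rintro _ ⟨x, rfl⟩
    show m.imageι (m.toImage x) ∈ O
    rw [← Scheme.Hom.comp_apply, Scheme.Hom.toImage_imageι, ← hm, Scheme.Hom.comp_apply]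
    exact (m' x).2)
  have hu : u ≫ O'.ι = m.toImage := IsOpenImmersion.lift_fac _ _ _
  have h1 : u ≫ (m.imageι ∣_ O) = m' := by
    rw [← cancel_mono O.ι, Category.assoc, morphismRestrict_ι, reassoc_of% hu, Scheme.Hom.toImage_imageι, hm]
  haveI : IsClosedImmersion (u ≫ (m.imageι ∣_ O)) := by rw [h1]; infer_instance
  haveI : IsClosedImmersion u := IsClosedImmersion.of_comp u (m.imageι ∣_ O)
  haveI : IsSchemeTheoreticallyDominant m.toImage := Groth.L02.STD.toImage_dominant m
  haveI : QuasiCompact m.toImage := inferInstance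
  have hpb : IsPullback u (𝟙 U) O'.ι m.toImage := by
    refine IsPullback.of_isLimit' ⟨by rw [hu, Category.id_comp]⟩
      (PullbackCone.IsLimit.mk _ (fun s => s.snd) (fun s => ?_) (fun s => Category.comp_id _) fun s t h1 h2 => ?_)
    · rw [← cancel_mono O'.ι, Category.assoc, hu]
      exact s.condition.symm
    · exact (Category.comp_id t).symm.trans h2
  haveI : IsSchemeTheoreticallyDominant u := IsSchemeTheoreticallyDominant.of_isPullback hpb.flip
  haveI : IsIso u := Groth.L02.STD.isIso_of_closedImmersion_of_dominant u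
  refine ⟨by rw [← hu]; infer_instance, ?_⟩
  haveI : IsOpenImmersion m.toImage := by rw [← hu]; infer_instance
  refine Opens.ext ?_
  show Set.range m.toImage = (O' : Set m.image)
  rw [← hu, Scheme.Hom.comp_base, TopCat.coe_comp, Set.range_comp, u.surjective.range_eq, Set.image_univ,
    Scheme.Opens.range_ι]

/-- A morphism which has, over an open, an open section with full preimage is an isomorphism there. -/
theorem isIso_restrict_of_section (p : T ⟶ X) (j : U ⟶ X) [IsOpenImmersion j] (t : U ⟶ T) [IsOpenImmersion t]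
    (ht : t ≫ p = j) (h : p ⁻¹ᵁ j.opensRange ≤ t.opensRange) : IsIso (p ∣_ j.opensRange) := by
  let u : U ⟶ (p ⁻¹ᵁ j.opensRange : T.Opens) := IsOpenImmersion.lift (p ⁻¹ᵁ j.opensRange).ι t (by
    rw [Scheme.Opens.range_ι]
    rintro _ ⟨x, rfl⟩
    exact ⟨x, (congrArg (fun φ : U ⟶ X => φ x) ht).symm⟩)
  have hu : u ≫ (p ⁻¹ᵁ j.opensRange).ι = t := IsOpenImmersion.lift_fac _ _ _
  haveI : IsOpenImmersion (u ≫ (p ⁻¹ᵁ j.opensRange).ι) := by rw [hu]; infer_instance
  haveI : IsOpenImmersion u := IsOpenImmersion.of_comp u (p ⁻¹ᵁ j.opensRange).ι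
  haveI : Surjective u := ⟨fun w => by
    obtain ⟨x, hx⟩ := h w.2
    refine ⟨x, (p ⁻¹ᵁ j.opensRange).ι.isOpenEmbedding.injective ?_⟩
    rw [← Scheme.Hom.comp_apply, hu]
    exact hx⟩
  haveI : IsIso u := (isIso_iff_isOpenImmersion_and_surjective _).2 ⟨inferInstance, inferInstance⟩
  have e : p ∣_ j.opensRange = inv u ≫ j.isoOpensRange.hom := by
    rw [IsIso.eq_inv_comp, ← cancel_mono j.opensRange.ι, Category.assoc, morphismRestrict_ι, reassoc_of% hu, ht,
      Scheme.Hom.isoOpensRange_hom_ι]
  rw [e]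
  infer_instance

/-- The closure of the graph of `φ : U → Y` inside `X ×_S Y`, for an open `U` of `X`. -/
theorem exists_graphClosure {Y : Scheme.{u}} [CompactSpace U]
    (gX : X ⟶ S) (gY : Y ⟶ S) [IsSeparated gY] [QuasiSeparatedSpace X]
    (j : U ⟶ X) [IsOpenImmersion j] (φ : U ⟶ Y) (h : j ≫ gX = φ ≫ gY) :
    ∃ (T : Scheme.{u}) (i : T ⟶ pullback gX gY) (t : U ⟶ T),
      IsClosedImmersion i ∧ IsOpenImmersion t ∧ IsSchemeTheoreticallyDominant t ∧ QuasiCompact t ∧
      t ≫ i ≫ pullback.fst gX gY = j ∧ t ≫ i ≫ pullback.snd gX gY = φ ∧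
      ((i ≫ pullback.fst gX gY) ⁻¹ᵁ j.opensRange : Set T) = Set.range t ∧
      IsIso ((i ≫ pullback.fst gX gY) ∣_ j.opensRange) := by
  let m : U ⟶ pullback gX gY := pullback.lift j φ h
  haveI : IsSeparated (pullback.fst gX gY) := MorphismProperty.pullback_fst _ _ inferInstance
  haveI : QuasiSeparatedSpace (pullback gX gY : Scheme.{u}) :=
    quasiSeparatedSpace_of_quasiSeparated (pullback.fst gX gY)
  haveI : QuasiCompact m := quasiCompact_of_compactSpace m
  let O := pullback.fst gX gY ⁻¹ᵁ j.opensRange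
  let m' : U ⟶ (O : Scheme.{u}) := IsOpenImmersion.lift O.ι m (by
    rw [Scheme.Opens.range_ι]
    rintro _ ⟨x, rfl⟩
    exact ⟨x, (congrArg (fun φ : U ⟶ X => φ x) (pullback.lift_fst j φ h)).symm⟩)
  have hm : m' ≫ O.ι = m := IsOpenImmersion.lift_fac _ _ _
  haveI : IsClosedImmersion m' := by
    have e : m' ≫ (pullback.fst gX gY ∣_ j.opensRange) = j.isoOpensRange.hom := by
      rw [← cancel_mono j.opensRange.ι, Category.assoc, morphismRestrict_ι, reassoc_of% hm,
        Scheme.Hom.isoOpensRange_hom_ι]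
      exact pullback.lift_fst _ _ _
    haveI : IsClosedImmersion (m' ≫ (pullback.fst gX gY ∣_ j.opensRange)) := by rw [e]; infer_instance
    exact IsClosedImmersion.of_comp m' (pullback.fst gX gY ∣_ j.opensRange)
  obtain ⟨ht, hr⟩ := toImage_openImmersion m O m' hm
  haveI := ht
  have h1 : m.toImage ≫ m.imageι ≫ pullback.fst gX gY = j := by
    rw [Scheme.Hom.toImage_imageι_assoc]; exact pullback.lift_fst _ _ _
  have hr' : (m.imageι ≫ pullback.fst gX gY) ⁻¹ᵁ j.opensRange = m.toImage.opensRange := hr.symm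
  exact ⟨m.image, m.imageι, m.toImage, inferInstance, inferInstance, Groth.L02.STD.toImage_dominant m,
    inferInstance, h1, by rw [Scheme.Hom.toImage_imageι_assoc]; exact pullback.lift_snd _ _ _,
    congrArg (fun V : m.image.Opens => (V : Set m.image)) hr',
    isIso_restrict_of_section _ j m.toImage h1 hr'.le⟩

end Groth.L13.Nagata
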