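import Groth.Agent.L13.Nagata.Chart
import Groth.Agent.L17.Approx.Extend
import Groth.Agent.S8857

/-!
# Birational separated morphisms become open immersions after an admissible blow-up
-/

set_option autoImplicit false
set_option linter.style.haveILetI false
set_option backward.isDefEq.respectTransparency.types false

universe u

open CategoryTheory CategoryTheory.Limits AlgebraicGeometry TopologicalSpace
open Groth.L13.MP

noncomputable section

namespace Groth.L13.Nagata

variable {X T Z : Scheme.{u}}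

/-- Blowing up in `J` makes `p` an open immersion. -/
def Good (p : T ⟶ X) (J : X.IdealSheafData) : Prop :=
  ∀ ⦃X' T' : Scheme.{u}⦄ (b : X' ⟶ X) (c : T' ⟶ T), BlowUp.IsBlowUp b J → BlowUp.IsBlowUp c (J.comap p) →
    ∀ h : T' ⟶ X', h ≫ b = c ≫ p → IsOpenImmersion h

/-- A further factor in the centre does no harm. -/
theorem Good.mul {p : T ⟶ X} {J : X.IdealSheafData} (hJ : Good p J) (R : X.IdealSheafData) :
    Good p (J * R) := by
  intro X' T' b c hb hc h hh
  obtain ⟨X1, b1, hb1⟩ := Groth.L13.BU.exists_isBlowUp J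
  obtain ⟨T1, c1, hc1⟩ := Groth.L13.BU.exists_isBlowUp (J.comap p)
  obtain ⟨h1, hh1, -⟩ := hb1.2 T1 (c1 ≫ p) (by rw [Scheme.IdealSheafData.comap_comp]; exact hc1.1)
  have hh1 : h1 ≫ b1 = c1 ≫ p := hh1
  haveI := hJ b1 c1 hb1 hc1 h1 hh1
  obtain ⟨X2, b2, hb2⟩ := Groth.L13.BU.exists_isBlowUp (R.comap b1)
  have hb12 := isBlowUp_comp_mul hb1 hb2
  let k := pullback.fst h1 b2
  have hk : BlowUp.IsBlowUp k ((R.comap b1).comap h1) := Groth.L13.BU.isBlowUp_pullback h1 hb2
  rw [← Scheme.IdealSheafData.comap_comp, hh1, Scheme.IdealSheafData.comap_comp] at hk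
  have hk12 : BlowUp.IsBlowUp (k ≫ c1) ((J * R).comap p) := by
    rw [Groth.L22.Ideals.comap_mul]; exact isBlowUp_comp_mul hc1 hk
  obtain ⟨eT, heT, -⟩ := hk12.2 T' c hc.1
  obtain ⟨eX, heX, -⟩ := hb.2 X2 (b2 ≫ b1) hb12.1
  have heT : eT ≫ k ≫ c1 = c := heT
  have heX : eX ≫ b = b2 ≫ b1 := heX
  haveI := Groth.L13.BU.isIso_of_blowUps hk12 hc eT heT
  haveI := Groth.L13.BU.isIso_of_blowUps hb hb12 eX heX
  haveI : IsOpenImmersion (pullback.snd h1 b2) := MorphismProperty.pullback_snd _ _ inferInstance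
  have e : h = eT ≫ pullback.snd h1 b2 ≫ eX := by
    refine blowUp_hom_ext hb ?_ ?_
    · rw [hh, Scheme.IdealSheafData.comap_comp]; exact hc.1
    · simp only [Category.assoc]
      rw [hh, heX, ← pullback.condition_assoc, hh1, ← heT]
      simp [k]
  rw [e]
  infer_instance

theorem Good.mul' {p : T ⟶ X} {J : X.IdealSheafData} (hJ : Good p J) (R : X.IdealSheafData) :
    Good p (R * J) := by
  rw [mul_comm]; exact hJ.mul R

/-- `f ∣_ V` is an open immersion iff the composite with `V` is. -/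
theorem isOpenImmersion_restrict_of_comp (f : T ⟶ X) (V : X.Opens)
    [IsOpenImmersion ((f ⁻¹ᵁ V).ι ≫ f)] : IsOpenImmersion (f ∣_ V) := by
  haveI : IsOpenImmersion ((f ∣_ V) ≫ V.ι) := by rwa [morphismRestrict_ι]
  exact IsOpenImmersion.of_comp (f ∣_ V) V.ι

theorem mono_restrict (p : T ⟶ X) (U : X.Opens) [IsOpenImmersion (p ∣_ U)] : Mono (p ∣_ U) := inferInstance

/-- The local piece: an affine open of the source over an affine open of the base. -/
theorem exists_good_piece [CompactSpace X] [QuasiSeparatedSpace X] (p : T ⟶ X) [LocallyOfFiniteType p]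
    (U : X.Opens) (hU : IsCompact (U : Set X)) [IsOpenImmersion (p ∣_ U)]
    (V : T.affineOpens) (W : X.affineOpens) (hVW : V.1 ≤ p ⁻¹ᵁ W.1) :
    ∃ J : X.IdealSheafData, BlowUp.IsAdmissibleFor U J ∧
      Good (p.resLE W.1 V.1 hVW) (J.comap W.1.ι) := by
  haveI : IsAffine V.1.toScheme := V.2
  haveI : IsAffine W.1.toScheme := W.2
  haveI := Groth.L17.Approx.quasiCompact_ι W.1 W.2.isCompact
  let q := p.resLE W.1 V.1 hVW
  have hq : q ≫ W.1.ι = V.1.ι ≫ p := Scheme.Hom.resLE_comp_ι _ _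
  haveI : LocallyOfFiniteType q := by
    haveI : LocallyOfFiniteType (q ≫ W.1.ι) := by rw [hq]; infer_instance
    exact locallyOfFiniteType_of_comp q W.1.ι
  let U' : W.1.toScheme.Opens := W.1.ι ⁻¹ᵁ U
  have hU' : IsCompact (U' : Set W.1.toScheme) := W.1.ι.isCompact_preimage hU
  haveI : IsOpenImmersion (q ∣_ U') := by
    have : IsOpenImmersion ((q ⁻¹ᵁ U').ι ≫ q) := by
      haveI : IsOpenImmersion (((q ⁻¹ᵁ U').ι ≫ q) ≫ W.1.ι) := by
        have hle : ∀ z, p (((q ⁻¹ᵁ U').ι ≫ V.1.ι) z) ∈ U := fun z => by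
          have h : W.1.ι (q z.1) ∈ U := z.2
          rw [← Scheme.Hom.comp_apply, hq] at h
          exact h
        let l := IsOpenImmersion.lift (p ⁻¹ᵁ U).ι ((q ⁻¹ᵁ U').ι ≫ V.1.ι)
          (by rw [Scheme.Opens.range_ι]; rintro _ ⟨z, rfl⟩; exact hle z)
        have hl : l ≫ (p ⁻¹ᵁ U).ι = (q ⁻¹ᵁ U').ι ≫ V.1.ι := IsOpenImmersion.lift_fac _ _ _
        haveI : IsOpenImmersion (l ≫ (p ⁻¹ᵁ U).ι) := by rw [hl]; infer_instance
        haveI : IsOpenImmersion l := IsOpenImmersion.of_comp l (p ⁻¹ᵁ U).ι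
        have e : ((q ⁻¹ᵁ U').ι ≫ q) ≫ W.1.ι = l ≫ (p ∣_ U) ≫ U.ι := by
          rw [morphismRestrict_ι, reassoc_of% hl, Category.assoc, hq]
        rw [e]; infer_instance
      exact IsOpenImmersion.of_comp _ W.1.ι
    exact isOpenImmersion_restrict_of_comp q U'
  obtain ⟨C⟩ := exists_centre q U' hU'
  obtain ⟨J, hJ, hJK, -⟩ := Groth.Agent.S8857.result X U W.1 hU W.2.isCompact C.K C.hadm
  refine ⟨J, hJ, ?_⟩
  rw [hJK]
  exact fun X' T' b c hb hc h hh => C.isOpenImmersion b c hb hc h hh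

/-- **Birational modifications are open after blowing up.**  If the separated morphism of finite type
`p` is an open immersion over the quasi-compact open `U`, some blow-up in a centre with support the
complement of `U` makes it an open immersion. -/
theorem exists_good [CompactSpace X] [QuasiSeparatedSpace X] (p : T ⟶ X) [IsSeparated p] [QuasiCompact p]
    [LocallyOfFiniteType p] (U : X.Opens) (hU : IsCompact (U : Set X)) [IsOpenImmersion (p ∣_ U)] :
    ∃ J : X.IdealSheafData, BlowUp.IsAdmissibleFor U J ∧ (J.support : Set X) = (U : Set X)ᶜ ∧ Good p J := by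
  classical
  haveI : CompactSpace T := QuasiCompact.compactSpace_of_compactSpace p
  choose W V hVW hxV _ _ using fun x : T =>
    Groth.L22.Ideals.exists_affine_pair p x (W := ⊤) trivial (W' := ⊤) trivial
  obtain ⟨s, hs⟩ := isCompact_univ.elim_finite_subcover (fun x : T => ((V x).1 : Set T))
    (fun x => (V x).1.2) fun x _ => Set.mem_iUnion.2 ⟨x, hxV x⟩
  choose J hJ hgood using fun x : T => exists_good_piece p U hU (V x) (W x) (hVW x)
  obtain ⟨L, hL, hLs⟩ := exists_compl_ideal U hU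
  have hLadm : BlowUp.IsAdmissibleFor U L := ⟨hL, by rw [hLs]; exact disjoint_compl_left⟩
  let R := ∏ x ∈ s, J x
  have hR : BlowUp.IsAdmissibleFor U R := admissible_prod s J fun x _ => hJ x
  refine ⟨L * R, admissible_mul hLadm hR, ?_, ?_⟩
  · rw [Scheme.IdealSheafData.support_mul, Closeds.coe_sup, hLs, Set.union_eq_left]
    exact fun x hx hxU => Set.disjoint_left.1 hR.2 hx hxU
  intro X' T' b c hb hc h hh
  -- injectivity
  have hinj_loc : ∀ x ∈ s, IsOpenImmersion ((c ⁻¹ᵁ (V x).1).ι ≫ h) := by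
    intro x hx
    let q := p.resLE (W x).1 (V x).1 (hVW x)
    have hq : q ≫ (W x).1.ι = (V x).1.ι ≫ p := Scheme.Hom.resLE_comp_ι _ _
    have hGd : Good q ((L * R).comap (W x).1.ι) := by
      have e : L * R = J x * (L * ∏ y ∈ s.erase x, J y) := by
        show L * (∏ y ∈ s, J y) = _
        rw [← Finset.mul_prod_erase s J hx, mul_left_comm]
      rw [e, Groth.L22.Ideals.comap_mul]
      exact Good.mul (hgood x) _
    have hb' := isBlowUp_restrict hb (W x).1
    have hc' : BlowUp.IsBlowUp (c ∣_ (V x).1) (((L * R).comap (W x).1.ι).comap q) := by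
      rw [← Scheme.IdealSheafData.comap_comp, hq, Scheme.IdealSheafData.comap_comp]
      exact isBlowUp_restrict hc (V x).1
    have hrange : Set.range ((c ⁻¹ᵁ (V x).1).ι ≫ h) ⊆ Set.range (b ⁻¹ᵁ (W x).1).ι := by
      rintro _ ⟨z, rfl⟩
      rw [Scheme.Opens.range_ι]
      show b (((c ⁻¹ᵁ (V x).1).ι ≫ h) z) ∈ (W x).1
      rw [← Scheme.Hom.comp_apply, Category.assoc, hh, Scheme.Hom.comp_apply, Scheme.Hom.comp_apply]
      exact hVW x z.2
    let h' := IsOpenImmersion.lift (b ⁻¹ᵁ (W x).1).ι ((c ⁻¹ᵁ (V x).1).ι ≫ h) hrange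
    have hh' : h' ≫ (b ⁻¹ᵁ (W x).1).ι = (c ⁻¹ᵁ (V x).1).ι ≫ h := IsOpenImmersion.lift_fac _ _ _
    haveI : IsOpenImmersion h' := hGd (b ∣_ (W x).1) (c ∣_ (V x).1) hb' hc' h' (by
      rw [← cancel_mono (W x).1.ι, Category.assoc, morphismRestrict_ι, reassoc_of% hh', hh,
        Category.assoc, hq, morphismRestrict_ι_assoc])
    rw [← hh']
    infer_instance
  have hloc : ∀ z : T', ∃ x ∈ s, z ∈ c ⁻¹ᵁ (V x).1 := fun z => by
    obtain ⟨x, hx, hz⟩ := Set.mem_iUnion₂.1 (hs (Set.mem_univ (c z)))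
    exact ⟨x, hx, hz⟩
  haveI : IsSeparated c := by
    haveI := Groth.L13.BU.isProper_blowUp hc (isFiniteType_comap (admissible_mul hLadm hR).1 p)
    infer_instance
  have hinj : Function.Injective h := by
    intro z₁ z₂ he
    obtain ⟨x₁, hx₁, hz₁⟩ := hloc z₁
    obtain ⟨x₂, hx₂, hz₂⟩ := hloc z₂
    haveI := hinj_loc x₁ hx₁
    haveI := hinj_loc x₂ hx₂
    let i₁ := (c ⁻¹ᵁ (V x₁).1).ι ≫ h
    let i₂ := (c ⁻¹ᵁ (V x₂).1).ι ≫ h
    let f := pullback.fst i₁ i₂ ≫ (c ⁻¹ᵁ (V x₁).1).ι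
    let g := pullback.snd i₁ i₂ ≫ (c ⁻¹ᵁ (V x₂).1).ι
    haveI : IsOpenImmersion (pullback.fst i₁ i₂) := MorphismProperty.pullback_fst _ _ inferInstance
    have hfg : f ≫ h = g ≫ h := by simp only [f, g, Category.assoc]; exact pullback.condition
    have hfg' : f ≫ c ≫ p = g ≫ c ≫ p := by rw [← hh, reassoc_of% hfg]
    have hE : BlowUp.IsEffCartierIdeal ((((L * R).comap p).comap c).comap f) :=
      Groth.L22.Ideals.isEffCartier_comap_of_flat f hc.1
    haveI := isEffCartier_schDominant_compl hE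
    have hd : f = g := by
      refine hom_ext_of_schDominant
        (Scheme.Opens.ι (X := pullback i₁ i₂) ((((L * R).comap p).comap c).comap f).support.compl) (c ≫ p) ?_ hfg'
      let d := Scheme.Opens.ι (X := pullback i₁ i₂) ((((L * R).comap p).comap c).comap f).support.compl
      have hmem : ∀ z, ((d ≫ f ≫ c) ≫ p) z ∈ U := fun z => by
        by_contra hzU
        refine z.2 ?_
        show z.1 ∈ ((((L * R).comap p).comap c).comap f).support
        refine (SetLike.ext_iff.1 (Scheme.IdealSheafData.support_comap _ f) z.1).2 ?_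
        refine (SetLike.ext_iff.1 (Scheme.IdealSheafData.support_comap _ c) _).2 ?_
        refine (SetLike.ext_iff.1 (Scheme.IdealSheafData.support_comap _ p) _).2 ?_
        refine Scheme.IdealSheafData.support_antitone (mul_le_left L R) ?_
        rw [← SetLike.mem_coe, hLs]
        exact hzU
      have e1 : d ≫ f ≫ c = d ≫ g ≫ c := eq_of_range_subset p U (by simp only [Category.assoc, hfg']) hmem
      refine blowUp_hom_ext hc ?_ (by simpa using e1)
      have h3 := Groth.L22.Ideals.isEffCartier_comap_of_flat d hE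
      have e : ((L * R).comap p).comap ((d ≫ f) ≫ c) = ((((L * R).comap p).comap c).comap f).comap d :=
        (Scheme.IdealSheafData.comap_comp _ _ _).trans (Scheme.IdealSheafData.comap_comp _ _ _)
      rw [← e] at h3
      exact h3
    obtain ⟨w, hw₁, hw₂⟩ := Scheme.Pullback.exists_preimage_pullback
      (⟨z₁, hz₁⟩ : (c ⁻¹ᵁ (V x₁).1 : T'.Opens)) (⟨z₂, hz₂⟩ : (c ⁻¹ᵁ (V x₂).1 : T'.Opens))
      (f := i₁) (g := i₂) (by simpa [i₁, i₂] using he)
    have := congrArg (fun φ : pullback i₁ i₂ ⟶ T' => φ w) hd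
    simp only [f, g, Scheme.Hom.comp_apply, hw₁, hw₂] at this
    exact this
  refine IsOpenImmersion.of_forall_source_exists h hinj fun z => ?_
  obtain ⟨x, hx, hz⟩ := hloc z
  exact ⟨_, (c ⁻¹ᵁ (V x).1).ι, inferInstance, by rw [Scheme.Opens.opensRange_ι]; exact hz, hinj_loc x hx⟩

end Groth.L13.Nagata
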