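import Groth.Agent.L13.Nagata.LocFreeModel
import Groth.Agent.L13.Nagata.Affine

/-!
# Compactifications carrying extensions of locally free modules
-/

set_option autoImplicit false
set_option linter.style.haveILetI false
set_option backward.isDefEq.respectTransparency.types false

universe v u

open CategoryTheory CategoryTheory.Limits AlgebraicGeometry TopologicalSpace

noncomputable section

namespace Groth.L13.Nagata

variable {X S : Scheme.{u}}

/-- A compactification can be modified to be schematically dense and to carry extensions of given locally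
free modules, projectively over the old one. -/
theorem exists_locFree_compactification [IsNoetherian S] {Y : Scheme.{u}} (j₀ : X ⟶ Y) [IsOpenImmersion j₀]
    [QuasiCompact j₀] (p : Y ⟶ S) [IsProper p] {ι : Type v} [Finite ι] (E : ι → X.Modules)
    (hE : ∀ i, FlatMod.IsFinLocFree (E i)) :
    ∃ (X' : Scheme.{u}) (j : X ⟶ X') (g : X' ⟶ S), IsOpenImmersion j ∧ QuasiCompact j ∧
      IsSchemeTheoreticallyDominant j ∧ IsProper g ∧ (RelProj.IsProjective p → RelProj.IsProjective g) ∧
      j ≫ g = j₀ ≫ p ∧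
      ∀ i, ∃ E' : X'.Modules, FlatMod.IsFinLocFree E' ∧
        Nonempty ((Scheme.Modules.pullback j).obj E' ≅ E i) := by
  haveI : IsNoetherian Y :=
    { toIsLocallyNoetherian := LocallyOfFiniteType.isLocallyNoetherian p
      toCompactSpace := QuasiCompact.compactSpace_of_compactSpace p }
  obtain ⟨ho, -⟩ := toImage_openImmersion j₀ j₀.opensRange j₀.isoOpensRange.hom j₀.isoOpensRange_hom_ι
  haveI := ho
  let q : j₀.image ⟶ S := j₀.imageι ≫ p
  haveI : IsProper q := inferInstanceAs (IsProper (j₀.imageι ≫ p))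
  haveI : IsNoetherian j₀.image :=
    { toIsLocallyNoetherian := LocallyOfFiniteType.isLocallyNoetherian q
      toCompactSpace := QuasiCompact.compactSpace_of_compactSpace q }
  let t := j₀.toImage
  let U := t.opensRange
  haveI : IsSchemeTheoreticallyDominant t := Groth.L02.STD.toImage_dominant j₀
  haveI : IsSchemeTheoreticallyDominant U.ι := ⟨by
    rw [← Scheme.Hom.ker_comp_of_isIso t.isoOpensRange.hom U.ι, Scheme.Hom.isoOpensRange_hom_ι]
    exact IsSchemeTheoreticallyDominant.ker_eq_bot t⟩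
  let ν := Finite.equivFin ι
  obtain ⟨X', π, hπ, hπp, hπi, hπd, hext⟩ := exists_locFree_model U (Nat.card ι)
    (fun k => (Scheme.Modules.pullback t.isoOpensRange.inv).obj (E (ν.symm k)))
    (fun k => Groth.L29.LocFree.pullback _ (hE _))
  haveI := hπ
  haveI := hπi
  haveI := hπd
  let a : X ⟶ ((π ⁻¹ᵁ U : X'.Opens) : Scheme.{u}) := t.isoOpensRange.hom ≫ inv (π ∣_ U)
  let j := a ≫ (π ⁻¹ᵁ U).ι
  have hjπ : j ≫ π = t := by
    simp only [j, a, Category.assoc, ← morphismRestrict_ι, IsIso.inv_hom_id_assoc, Scheme.Hom.isoOpensRange_hom_ι, U]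
  haveI : IsNoetherian X' :=
    { toIsLocallyNoetherian := LocallyOfFiniteType.isLocallyNoetherian π
      toCompactSpace := QuasiCompact.compactSpace_of_compactSpace π }
  haveI : IsOpenImmersion j := inferInstanceAs (IsOpenImmersion (a ≫ (π ⁻¹ᵁ U).ι))
  refine ⟨X', j, π ≫ q, inferInstance, inferInstance, ⟨?_⟩, inferInstance, fun hp => ?_, ?_, fun i => ?_⟩
  · rw [Scheme.Hom.ker_comp_of_isIso a]
    exact IsSchemeTheoreticallyDominant.ker_eq_bot (π ⁻¹ᵁ U).ι
  · exact isProjective_comp π q hπp
      (Groth.L18.VanishI.isProjective_comp_closedImmersion j₀.imageι p hp)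
  · rw [reassoc_of% hjπ]
    show j₀.toImage ≫ j₀.imageι ≫ p = j₀ ≫ p
    rw [Scheme.Hom.toImage_imageι_assoc]
  · obtain ⟨E', hE', ⟨e⟩⟩ := hext (ν i)
    have ha : (a ≫ (π ∣_ U)) ≫ t.isoOpensRange.inv = 𝟙 X := by
      simp only [a, Category.assoc, IsIso.inv_hom_id_assoc, Iso.hom_inv_id]
    refine ⟨E', hE', ⟨?_⟩⟩
    exact ((Scheme.Modules.pullbackComp a (π ⁻¹ᵁ U).ι).app E').symm ≪≫
      (Scheme.Modules.pullback a).mapIso e ≪≫
      (Scheme.Modules.pullbackComp a (π ∣_ U)).app _ ≪≫
      (Scheme.Modules.pullbackComp (a ≫ (π ∣_ U)) t.isoOpensRange.inv).app _ ≪≫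
      (Scheme.Modules.pullbackCongr ha).app _ ≪≫
      (Scheme.Modules.pullbackId X).app _ ≪≫ eqToIso (congrArg E (ν.symm_apply_apply i))

end Groth.L13.Nagata
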