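import Groth.Agent.L13.Nagata.FittDichotomy
import Groth.Agent.L13.Nagata.Image
import Groth.Agent.L19.LocFreeDescent
import Groth.Agent.L19.FPExtend.Main
import Groth.Agent.L07.BlowLib.Dense
import Groth.Agent.L23.SchKer
import Groth.Agent.L15.Ref.FreeLocus
import Groth.Agent.L13.GGH1

/-!
# Extending locally free modules after blowing up
-/

set_option autoImplicit false
set_option linter.style.haveILetI false
set_option backward.isDefEq.respectTransparency.types false

universe u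

open CategoryTheory CategoryTheory.Limits AlgebraicGeometry TopologicalSpace Opposite

noncomputable section

namespace Groth.L13.Nagata

open Groth.L18.Frame (rs ro rs_rs ro_ro rs_smul)

variable {X : Scheme.{u}}

/-- Modulo torsion, a module whose first non-zero Fitting ideal is invertible is projective. -/
theorem quotient_torsion_fitt {R : Type u} [CommRing R] {M : Type u} [AddCommGroup M] [Module R M]
    [Module.Finite R M] {r : ℕ} {t : R} (ht : t ∈ nonZeroDivisors R) (h0 : ∀ j < r, Fitt.ideal R M j = ⊥)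
    (hr : Fitt.ideal R M r = Ideal.span {t}) :
    let T := LinearMap.ker (t • (LinearMap.id : M →ₗ[R] M))
    (∀ j < r, Fitt.ideal R (M ⧸ T) j = ⊥) ∧ Fitt.ideal R (M ⧸ T) r = ⊤ ∧ Module.Projective R (M ⧸ T) := by
  intro T
  have hT : ∀ m, m ∈ T ↔ t • m = 0 := fun m => by simp [T]
  have h1 : Fitt.ideal R (M ⧸ T) r = ⊤ :=
    Groth.L13.Fitting.ideal_quotient_eq_top' ht hr T fun m hm => (hT m).2 hm
  have h2 : ∀ j < r, Fitt.ideal R (M ⧸ T) j = ⊥ := fun j hj =>
    Groth.L13.Fitting.ideal_quotient_eq_bot ht (h0 j hj) T fun m hm => ⟨1, by rw [pow_one]; exact (hT m).1 hm⟩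
  exact ⟨h2, h1, Groth.L13.Fitting.projective_of_conditions h2 h1⟩

/-- A free chart on an open of an open subscheme is a free chart. -/
theorem exists_free_image (M : X.Modules) (U : X.Opens) (O : U.toScheme.Opens) {n : ℕ}
    (i : (M.restrict U.ι).restrict O.ι ≅ FlatMod.freeMod (O : Scheme.{u}) n) :
    Nonempty (M.restrict (U.ι ''ᵁ O).ι ≅ FlatMod.freeMod ((U.ι ''ᵁ O : X.Opens) : Scheme.{u}) n) := by
  obtain ⟨i'⟩ := Groth.L19.PullChart.exists_free_of_chart M (O.ι ≫ U.ι)
    ((Scheme.Modules.restrictFunctorComp O.ι U.ι).app M ≪≫ i)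
  have e : (O.ι ≫ U.ι).opensRange = U.ι ''ᵁ O := by
    rw [Scheme.Hom.opensRange_comp, Scheme.Opens.opensRange_ι]
  generalize (O.ι ≫ U.ι).opensRange = O' at e i'
  subst e
  exact ⟨i'⟩

/-- A module with a uniformly bounded number of generators on affine opens of a finite cover. -/
theorem exists_fitt_eq_top [CompactSpace X] {F : X.Modules} (hF : Coh.IsCoh F) :
    ∃ N : ℕ, ∀ k, N ≤ k → Fitt.sheafIdeal F k = ⊤ := by
  haveI := hF.1
  have hgen : ∀ V : X.affineOpens, ∃ n : ℕ, ∀ k, n ≤ k → (Fitt.sheafIdeal F k).ideal V = ⊤ := fun V => by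
    haveI := Groth.L20.ModStalk.finite_sections F hF V.2
    obtain ⟨n, x, hx⟩ := Groth.L13.Fitting.exists_gens (R := Γ(X, V.1)) (M := Γ(F, V.1))
    exact ⟨n, fun k hk => by
      rw [Groth.L15.FittSheaf.sheafIdeal_ideal F hF.2, Groth.L13.Fitting.ideal_eq_tup x hx,
        Groth.L13.Fitting.tup_eq_top x hk]⟩
  choose n hn using hgen
  obtain ⟨s, hs⟩ := isCompact_univ.elim_finite_subcover (fun V : X.affineOpens => (V.1 : Set X))
    (fun V => V.1.2) (fun x _ => by
      obtain ⟨V, hV, hx, -⟩ := Opens.isBasis_iff_nbhd.mp X.isBasis_affineOpens (Opens.mem_top x)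
      exact Set.mem_iUnion.2 ⟨⟨V, hV⟩, hx⟩)
  refine ⟨s.sup n, fun k hk => ?_⟩
  refine Scheme.IdealSheafData.ext_of_iSup_eq_top (fun V : s => V.1) (eq_top_iff.2 fun x _ => ?_) fun V => ?_
  · obtain ⟨V, hV, hx⟩ := Set.mem_iUnion₂.1 (hs (Set.mem_univ x))
    exact Opens.mem_iSup.2 ⟨⟨V, hV⟩, hx⟩
  · rw [hn V.1 k ((Finset.le_sup V.2).trans hk), Scheme.IdealSheafData.ideal_top, Pi.top_apply]

/-- The torsion-free quotient relative to an open of a module with locally trivial Fitting ideals. -/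
theorem isFinLocFree_image_unit [IsLocallyNoetherian X] (U : X.Opens) [QuasiCompact U.ι]
    (hd : CInt.IsSchematicallyDense U) {M : X.Modules} (hM : Coh.IsCoh M)
    (hfree : ∀ y ∈ U, ∃ (O : X.Opens) (n : ℕ), y ∈ O ∧ Nonempty (M.restrict O.ι ≅ FlatMod.freeMod (O : Scheme.{u}) n))
    (hbound : ∀ x : X, ∃ k, x ∉ (Fitt.sheafIdeal M k).support)
    (hloc : ∀ (k : ℕ) (x : X), ∃ V : X.affineOpens, x ∈ V.1 ∧ ((Fitt.sheafIdeal M k).ideal V = ⊥ ∨
      ∃ t ∈ nonZeroDivisors Γ(X, V.1), (Fitt.sheafIdeal M k).ideal V = Ideal.span {t})) :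
    FlatMod.IsFinLocFree (Abelian.image ((Scheme.Modules.restrictAdjunction U.ι).unit.app M)) := by
  classical
  haveI := hM.1
  haveI : Coh.IsQCoh (M.restrict U.ι) := Scheme.Modules.isQuasicoherent_restrictFunctor U.ι M
  let η : M ⟶ (Scheme.Modules.pushforward U.ι).obj (M.restrict U.ι) :=
    (Scheme.Modules.restrictAdjunction U.ι).unit.app M
  haveI : Coh.IsQCoh ((Scheme.Modules.pushforward U.ι).obj (M.restrict U.ι)) :=
    Groth.L16.QcqsPush.isQCoh_push (M.restrict U.ι) U.ι
  let G := Abelian.image η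
  haveI hGq : Coh.IsQCoh G := Groth.L13.GGH1.isQCoh_image η
  let π : M ⟶ G := Abelian.factorThruImage η
  have hG : Coh.IsCoh G := ⟨hGq, Groth.L14.Quot.isFT_of_epi π hM.2⟩
  intro x
  -- the first index whose Fitting ideal does not vanish near `x`
  let P : ℕ → Prop := fun k => ∃ V : X.affineOpens, x ∈ V.1 ∧ (Fitt.sheafIdeal M k).ideal V = ⊥
  have hex : ∃ k, ¬ P k := by
    obtain ⟨k, hk⟩ := hbound x
    refine ⟨k, fun ⟨V, hxV, hV⟩ => hk ?_⟩
    rw [Scheme.IdealSheafData.mem_support_iff_of_mem hxV, hV, Scheme.mem_zeroLocus_iff]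
    intro f hf
    rw [SetLike.mem_coe, Ideal.mem_bot] at hf
    subst hf
    rw [Scheme.basicOpen_zero]
    exact fun h => h
  let r := Nat.find hex
  have hlow : ∀ j < r, P j := fun j hj => not_not.1 (Nat.find_min hex hj)
  obtain ⟨Vr, hxVr, hVr⟩ := hloc r x
  obtain ⟨t₀, ht₀, hVr⟩ := hVr.resolve_left fun h => Nat.find_spec hex ⟨Vr, hxVr, h⟩
  obtain ⟨O, hxO, hOle⟩ : ∃ O : X.Opens, x ∈ O ∧ ∀ j < r, ∃ V : X.affineOpens, O ≤ V.1 ∧
      (Fitt.sheafIdeal M j).ideal V = ⊥ := by
    have : ∀ m, m ≤ r → ∃ O : X.Opens, x ∈ O ∧ ∀ j < m, ∃ V : X.affineOpens, O ≤ V.1 ∧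
        (Fitt.sheafIdeal M j).ideal V = ⊥ := by
      intro m hm
      induction m with
      | zero => exact ⟨⊤, trivial, fun j hj => absurd hj (Nat.not_lt_zero _)⟩
      | succ m ih =>
        obtain ⟨O, hxO, hO⟩ := ih (Nat.le_of_succ_le hm)
        obtain ⟨V, hxV, hV⟩ := hlow m hm
        refine ⟨O ⊓ V.1, ⟨hxO, hxV⟩, fun j hj => ?_⟩
        rcases Nat.lt_succ_iff_lt_or_eq.1 hj with h | rfl
        · obtain ⟨V', h1, h2⟩ := hO j h
          exact ⟨V', inf_le_left.trans h1, h2⟩
        · exact ⟨V, inf_le_right, hV⟩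
    exact this r le_rfl
  obtain ⟨a, haO, hxa⟩ := Vr.2.exists_basicOpen_le (V := O) ⟨x, hxO⟩ hxVr
  let W : X.affineOpens := X.affineBasicOpen a
  let t : Γ(X, W.1) := ro (X.basicOpen_le a) t₀
  have ht : t ∈ nonZeroDivisors Γ(X, W.1) := by
    letI : Algebra Γ(X, Vr.1) Γ(X, X.basicOpen a) :=
      (X.presheaf.map (homOfLE (X.basicOpen_le a)).op).hom.toAlgebra
    haveI : IsLocalization.Away a Γ(X, X.basicOpen a) := Vr.2.isLocalization_basicOpen a
    exact IsLocalization.map_nonZeroDivisors_le (Submonoid.powers a) Γ(X, X.basicOpen a) ⟨t₀, ht₀, rfl⟩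
  have htr : (Fitt.sheafIdeal M r).ideal W = Ideal.span {t} :=
    Groth.L07.FittStrict.ideal_basicOpen_span Vr t₀ a _ hVr
  have h0 : ∀ j < r, (Fitt.sheafIdeal M j).ideal W = ⊥ := fun j hj => by
    obtain ⟨V, hOV, hV⟩ := hOle j hj
    rw [← (Fitt.sheafIdeal M j).map_ideal (U := W) (V := V) (haO.trans hOV), hV, Ideal.map_bot]
  -- the equation is a unit on the open
  have hunit : ∀ y ∈ W.1, y ∈ U → y ∈ X.basicOpen t := by
    intro y hyW hyU
    obtain ⟨O', n, hyO, ⟨i⟩⟩ := hfree y hyU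
    obtain ⟨c, hcO, hyc⟩ := W.2.exists_basicOpen_le (V := O') ⟨y, hyO⟩ hyW
    let W₂ : X.affineOpens := X.affineBasicOpen c
    haveI : Epi i.inv := inferInstance
    obtain ⟨φ, hφ, hinj⟩ := Groth.L15.FittSheaf.exists_sections_of_free_hom M i.inv W₂.2 hcO
    let e : (ULift.{u} (Fin n) →₀ Γ(X, W₂.1)) ≃ₗ[Γ(X, W₂.1)] Γ(M, W₂.1) :=
      LinearEquiv.ofBijective φ ⟨hinj inferInstance, hφ⟩
    have hW₂ := Groth.L13.Fitting.ideal_of_basis ((Module.Basis.ofRepr e.symm).reindex Equiv.ulift) r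
    rw [← Groth.L15.FittSheaf.sheafIdeal_ideal M hM.2 r W₂,
      Groth.L07.FittStrict.ideal_basicOpen_span W t c _ htr] at hW₂
    split_ifs at hW₂ with hn
    · have hu : IsUnit (ro (X.basicOpen_le c) t) := Ideal.span_singleton_eq_top.1 hW₂
      have h := X.basicOpen_res t (homOfLE (X.basicOpen_le c)).op
      rw [show X.presheaf.map (homOfLE (X.basicOpen_le c)).op t = ro (X.basicOpen_le c) t from rfl,
        Scheme.basicOpen_of_isUnit X hu] at h
      exact (h.le hyc).2
    · exfalso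
      letI : Algebra Γ(X, W.1) Γ(X, X.basicOpen c) :=
        (X.presheaf.map (homOfLE (X.basicOpen_le c)).op).hom.toAlgebra
      haveI : IsLocalization.Away c Γ(X, X.basicOpen c) := W.2.isLocalization_basicOpen c
      have hz : ro (X.basicOpen_le c) t = 0 := Ideal.span_singleton_eq_bot.1 hW₂
      have hnz := IsLocalization.map_nonZeroDivisors_le (Submonoid.powers c) Γ(X, X.basicOpen c) ⟨t, ht, rfl⟩
      have h10 : (1 : Γ(X, X.basicOpen c)) = 0 := hnz.1 1 (by
        rw [mul_one]; exact hz)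
      have := congrArg (X.presheaf.germ (X.basicOpen c) y hyc).hom h10
      rw [map_one, map_zero] at this
      exact one_ne_zero this
  -- the sections of the quotient
  haveI := Groth.L20.ModStalk.finite_sections M hM W.2
  have hf0 : ∀ j < r, Fitt.ideal Γ(X, W.1) Γ(M, W.1) j = ⊥ := fun j hj => by
    rw [← Groth.L15.FittSheaf.sheafIdeal_ideal M hM.2]; exact h0 j hj
  have hfr : Fitt.ideal Γ(X, W.1) Γ(M, W.1) r = Ideal.span {t} := by
    rw [← Groth.L15.FittSheaf.sheafIdeal_ideal M hM.2]; exact htr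
  obtain ⟨hq0, hqr, hproj⟩ := quotient_torsion_fitt ht hf0 hfr
  let l : Γ(M, W.1) →ₗ[Γ(X, W.1)] Γ(G, W.1) :=
    { toFun := π.app W.1
      map_add' := fun a c => map_add _ a c
      map_smul' := fun a m => Scheme.Modules.Hom.app_smul π a m }
  have hsurj : Function.Surjective l := Groth.L16.AffineBC.surjective_app_of_epi π W.2
  have hle : U.ι ''ᵁ U.ι ⁻¹ᵁ W.1 ≤ W.1 := U.ι.image_preimage_le W.1
  have hker : ∀ m, l m = 0 ↔ rs M hle m = 0 := fun m => by
    have e1 : η.app W.1 m = (Abelian.image.ι η).app W.1 (π.app W.1 m) :=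
      (congrArg (fun φ : M ⟶ _ => φ.app W.1 m) (Abelian.image.fac η)).symm
    have e2 : η.app W.1 m = rs M hle m :=
      congrArg (fun φ => φ m) (Scheme.Modules.restrictAdjunction_unit_app_app U.ι M W.1)
    constructor
    · intro h
      exact (e2.symm.trans e1).trans ((congrArg _ (show π.app W.1 m = 0 from h)).trans (map_zero _))
    · intro h
      refine Groth.L20.Strat.app_injective_of_mono (Abelian.image.ι η) W.1 ?_
      exact e1.symm.trans ((e2.trans h).trans (map_zero _).symm)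
  have hkereq : LinearMap.ker l = LinearMap.ker (t • (LinearMap.id : Γ(M, W.1) →ₗ[Γ(X, W.1)] Γ(M, W.1))) := by
    ext m
    simp only [LinearMap.mem_ker, LinearMap.smul_apply, LinearMap.id_apply]
    rw [hker]
    have hleU : U.ι ''ᵁ U.ι ⁻¹ᵁ W.1 ≤ U := by
      rw [Scheme.Hom.image_preimage_eq_opensRange_inf, Scheme.Opens.opensRange_ι]; exact inf_le_left
    constructor
    · intro hm
      have hmk : Submodule.Quotient.mk (p := LinearMap.ker (t • (LinearMap.id : Γ(M, W.1) →ₗ[Γ(X, W.1)] Γ(M, W.1)))) m = 0 := by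
        haveI := hproj
        obtain ⟨s, hs⟩ := Module.projective_def.1 hproj
        have hsm : s (Submodule.Quotient.mk m) = 0 := Finsupp.ext fun q => by
          set d := s (Submodule.Quotient.mk m) q
          show d = 0
          refine hd W.1 (Eq.trans ?_ (map_zero _).symm)
          refine TopCat.Presheaf.section_ext X.sheaf (W.1 ⊓ U) _ 0 fun y hy => ?_
          obtain ⟨c, hcU, hyc⟩ := W.2.exists_basicOpen_le (V := W.1 ⊓ U) ⟨y, hy⟩ hy.1
          have hcle : X.basicOpen c ≤ U.ι ''ᵁ U.ι ⁻¹ᵁ W.1 := by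
            rw [Scheme.Hom.image_preimage_eq_opensRange_inf, Scheme.Opens.opensRange_ι]
            exact fun z hz => ⟨(hcU hz).2, (hcU hz).1⟩
          have h0' : rs M (X.basicOpen_le c) m = 0 :=
            (rs_rs M hle hcle m).symm.trans ((congrArg (rs M hcle) hm).trans (map_zero _))
          obtain ⟨N, hN⟩ := Groth.L16.QCohSect.exists_pow_smul_eq_zero (M := M) W.2 c m h0'
          have hd0 : c ^ N * d = 0 := by
            have := congrArg (fun z => s (Submodule.Quotient.mk z) q) hN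
            simpa [d] using this
          have hcd : ro (X.basicOpen_le c) d = 0 := by
            have := congrArg (X.presheaf.map (homOfLE (X.basicOpen_le c)).op).hom hd0
            rw [map_mul, map_pow, map_zero] at this
            exact (IsUnit.pow N (X.toRingedSpace.isUnit_res_basicOpen c)).mul_right_eq_zero.1 this
          refine Eq.trans ?_ (map_zero _).symm
          refine (TopCat.Presheaf.germ_res_apply _ _ y hy d).trans ?_
          refine (TopCat.Presheaf.germ_res_apply X.presheaf (homOfLE (X.basicOpen_le c)) y hyc d).symm.trans ?_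
          exact (congrArg _ hcd).trans (map_zero _)
        have := hs (Submodule.Quotient.mk m)
        rw [hsm, map_zero] at this
        exact this.symm
      simpa [Submodule.Quotient.mk_eq_zero] using hmk
    · intro hm
      have h1 : ro hle t • rs M hle m = 0 :=
        (rs_smul M hle t m).symm.trans ((congrArg (rs M hle) hm).trans (map_zero _))
      have hu : IsUnit (ro hle t) := by
        have hb : U.ι ''ᵁ U.ι ⁻¹ᵁ W.1 ≤ X.basicOpen t := fun y hy => hunit y (hle hy) (hleU hy)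
        rw [← ro_ro (X.basicOpen_le t) hb]
        exact (X.toRingedSpace.isUnit_res_basicOpen t).map (X.presheaf.map (homOfLE hb).op).hom
      exact (hu.smul_eq_zero).1 h1
  let e : (Γ(M, W.1) ⧸ LinearMap.ker (t • (LinearMap.id : Γ(M, W.1) →ₗ[Γ(X, W.1)] Γ(M, W.1)))) ≃ₗ[Γ(X, W.1)]
      Γ(G, W.1) := (Submodule.quotEquivOfEq _ _ hkereq.symm).trans (l.quotKerEquivOfSurjective hsurj)
  have hG0 : ∀ j < r, (Fitt.sheafIdeal G j).ideal W = ⊥ := fun j hj => by
    rw [Groth.L15.FittSheaf.sheafIdeal_ideal G hG.2, ← Groth.L13.Fitting.ideal_congr e j]; exact hq0 j hj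
  have hGr : (Fitt.sheafIdeal G r).ideal W = ⊤ := by
    rw [Groth.L15.FittSheaf.sheafIdeal_ideal G hG.2, ← Groth.L13.Fitting.ideal_congr e r]; exact hqr
  -- conclude on `W`
  haveI : IsAffine (W.1 : Scheme.{u}) := W.2
  have hGW : FlatMod.IsFinLocFreeOfRank r (G.restrict W.1.ι) := by
    refine (Groth.L02.Quot.isFinLocFreeOfRank_iff_fitt _ (Groth.L07.FittStrict.isCoh_restrict G hG W.1) r).2 ⟨fun j hj => ?_, fun z => ?_⟩
    · rw [Groth.L07.FittStrict.sheafIdeal_restrict G hG W.1 j]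
      refine Scheme.IdealSheafData.ext_of_isAffine ?_
      have hW : (⟨W.1.ι ''ᵁ (⊤ : W.1.toScheme.Opens), (isAffineOpen_top _).image_of_isOpenImmersion W.1.ι⟩ : X.affineOpens) = W :=
        Subtype.ext W.1.ι_image_top
      rw [Scheme.IdealSheafData.ideal_comap_of_isOpenImmersion, Scheme.IdealSheafData.ideal_bot, Pi.bot_apply]
      have hb : (Fitt.sheafIdeal G j).ideal
          ⟨W.1.ι ''ᵁ (⊤ : W.1.toScheme.Opens), (isAffineOpen_top _).image_of_isOpenImmersion W.1.ι⟩ = ⊥ := by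
        rw [hW]; exact hG0 j hj
      rw [hb]
      exact Ideal.comap_bot_of_injective _ (ConcreteCategory.bijective_of_isIso _).1
    · rw [Groth.L07.FittStrict.sheafIdeal_restrict G hG W.1 r]
      show z ∉ (((Fitt.sheafIdeal G r).comap W.1.ι).support : Set W.1.toScheme)
      rw [Scheme.IdealSheafData.support_comap, Closeds.coe_preimage]
      intro hz
      have hz : z.1 ∈ (Fitt.sheafIdeal G r).support := hz
      rw [Scheme.IdealSheafData.mem_support_iff_of_mem z.2, hGr, Scheme.mem_zeroLocus_iff] at hz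
      exact hz 1 Submodule.mem_top (by rw [Scheme.basicOpen_of_isUnit _ isUnit_one]; exact z.2)
  obtain ⟨O₁, hxO₁, ⟨i⟩⟩ := hGW ⟨x, hxa⟩
  exact ⟨W.1.ι ''ᵁ O₁, r, ⟨⟨x, hxa⟩, hxO₁, rfl⟩, exists_free_image G W.1 O₁ i⟩

end Groth.L13.Nagata
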