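import Groth.Agent.L13.Nagata.LocFreeExtend
import Groth.Agent.L13.Nagata.Chow
import Groth.Agent.L13.Nagata.CommonMany
import Groth.Agent.L16.NegPow.Gen

/-!
# Models carrying extensions of locally free modules
-/

set_option autoImplicit false
set_option linter.style.haveILetI false
set_option backward.isDefEq.respectTransparency.types false

universe u

open CategoryTheory CategoryTheory.Limits AlgebraicGeometry TopologicalSpace Opposite

noncomputable section

namespace Groth.L13.Nagata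

variable {X : Scheme.{u}}

/-- On a Noetherian scheme a module locally free over a schematically dense open becomes, after an
admissible blow-up, locally free. -/
theorem exists_locFree_blowUp [IsNoetherian X] (U : X.Opens) [IsSchemeTheoreticallyDominant U.ι]
    {F : X.Modules} (hF : Coh.IsCoh F) (hU : FlatMod.IsFinLocFree (F.restrict U.ι)) :
    ∃ (J : X.IdealSheafData) (X' : Scheme.{u}) (b : X' ⟶ X), BlowUp.IsBlowUp b J ∧ BlowUp.IsAdmissibleFor U J ∧
      ∃ G : X'.Modules, FlatMod.IsFinLocFree G ∧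
        Nonempty (G.restrict (b ⁻¹ᵁ U).ι ≅ ((Scheme.Modules.pullback b).obj F).restrict (b ⁻¹ᵁ U).ι) := by
  classical
  haveI := hF.1
  obtain ⟨N, hN⟩ := exists_fitt_eq_top hF
  have hft : ∀ I : X.IdealSheafData, BlowUp.IsFiniteTypeIdeal I := fun I V => by
    haveI := IsLocallyNoetherian.component_noetherian V
    exact IsNoetherian.noetherian _
  have hfg : ∀ k, Groth.L13.MP.LocFG (Fitt.sheafIdeal F k) := fun k => Groth.L13.MP.LocFG.of_fg (hft _)
  let A : ℕ → X.IdealSheafData := fun k => Groth.L13.MP.colon ⊥ (hfg k)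
  let M : ℕ → X.IdealSheafData := fun k => Fitt.sheafIdeal F k ⊔ A k
  have hfree : ∀ y ∈ U, ∃ (O : X.Opens) (n : ℕ), y ∈ O ∧ Nonempty (F.restrict O.ι ≅ FlatMod.freeMod (O : Scheme.{u}) n) := by
    intro y hy
    obtain ⟨O, n, hO, ⟨i⟩⟩ := hU ⟨y, hy⟩
    exact ⟨U.ι ''ᵁ O, n, ⟨⟨y, hy⟩, hO, rfl⟩, exists_free_image F U O i⟩
  have hadm : ∀ k, BlowUp.IsAdmissibleFor U (M k) := fun k => by
    refine ⟨hft _, Set.disjoint_left.2 fun y hy hyU => ?_⟩
    obtain ⟨O, n, hyO, ⟨i⟩⟩ := hfree y hyU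
    obtain ⟨_, ⟨W, hW, rfl⟩, hyW, hWO⟩ := X.isBasis_affineOpens.exists_subset_of_mem_open hyO O.2
    haveI : Epi i.inv := inferInstance
    obtain ⟨φ, hφ, hinj⟩ := Groth.L15.FittSheaf.exists_sections_of_free_hom F i.inv hW hWO
    let e : (ULift.{u} (Fin n) →₀ Γ(X, W)) ≃ₗ[Γ(X, W)] Γ(F, W) :=
      LinearEquiv.ofBijective φ ⟨hinj inferInstance, hφ⟩
    have hI := Groth.L13.Fitting.ideal_of_basis ((Module.Basis.ofRepr e.symm).reindex Equiv.ulift) k
    rw [← Groth.L15.FittSheaf.sheafIdeal_ideal F hF.2 k ⟨W, hW⟩] at hI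
    have htop : (M k).ideal ⟨W, hW⟩ = ⊤ := by
      show (Fitt.sheafIdeal F k ⊔ A k).ideal ⟨W, hW⟩ = ⊤
      rw [Scheme.IdealSheafData.ideal_sup, Pi.sup_apply]
      split_ifs at hI
      · rw [hI, top_sup_eq]
      · refine eq_top_iff.2 (le_trans (fun a _ => ?_) le_sup_right)
        refine Submodule.mem_colon.2 fun d hd => ?_
        rw [SetLike.mem_coe, hI, Ideal.mem_bot] at hd
        subst hd
        simp
    rw [SetLike.mem_coe, Scheme.IdealSheafData.mem_support_iff_of_mem (U := ⟨W, hW⟩) hyW, htop,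
      Scheme.mem_zeroLocus_iff] at hy
    exact hy 1 Submodule.mem_top (by rw [Scheme.basicOpen_of_isUnit _ isUnit_one]; exact hyW)
  let K := ∏ k ∈ Finset.range N, M k
  have hK : BlowUp.IsAdmissibleFor U K := admissible_prod _ M fun k _ => hadm k
  obtain ⟨X', b, hb⟩ := Groth.L13.BU.exists_isBlowUp K
  haveI := Groth.L13.BU.isProper_blowUp hb hK.1
  haveI : IsNoetherian X' :=
    { toIsLocallyNoetherian := LocallyOfFiniteType.isLocallyNoetherian b
      toCompactSpace := QuasiCompact.compactSpace_of_compactSpace b }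
  haveI : QuasiCompact U.ι := Groth.L17.Approx.quasiCompact_ι U (NoetherianSpace.isCompact _)
  haveI := Groth.L07.BlowLib.schDominant_preimage hb U
  haveI : QuasiCompact (b ⁻¹ᵁ U).ι := Groth.L17.Approx.quasiCompact_ι _ (NoetherianSpace.isCompact _)
  haveI := Groth.L16.AffineBC.isQCoh_pullback b F
  let F' := (Scheme.Modules.pullback b).obj F
  have hF' : Coh.IsCoh F' := ⟨inferInstance, Groth.L20.ResDescent.isFT_pullback _ _ hF.2⟩
  have hfitt : ∀ k, Fitt.sheafIdeal F' k = (Fitt.sheafIdeal F k).comap b := fun k =>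
    Groth.L02.Quot.sheafIdeal_pullback b F hF hF' k
  have hloc : ∀ (k : ℕ) (x : X'), ∃ V : X'.affineOpens, x ∈ V.1 ∧ ((Fitt.sheafIdeal F' k).ideal V = ⊥ ∨
      ∃ t ∈ nonZeroDivisors Γ(X', V.1), (Fitt.sheafIdeal F' k).ideal V = Ideal.span {t}) := by
    intro k x
    rw [hfitt]
    by_cases hk : k < N
    · have hmem : k ∈ Finset.range N := Finset.mem_range.2 hk
      have hE : BlowUp.IsEffCartierIdeal ((M k).comap b) := by
        refine isEffCartier_comap_left (J := ∏ j ∈ (Finset.range N).erase k, M j) ?_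
        rw [Finset.mul_prod_erase _ M hmem]
        exact hb.1
      refine exists_bot_or_principal (A := (A k).comap b) ?_ ?_ x
      · rw [← Groth.L22.Ideals.comap_mul, mul_colon_bot, Scheme.IdealSheafData.comap_bot]
      · rw [← Scheme.IdealSheafData.comap_sup]; exact hE
    · obtain ⟨_, ⟨V, hV, rfl⟩, hxV, -⟩ :=
        X'.isBasis_affineOpens.exists_subset_of_mem_open (Set.mem_univ x) isOpen_univ
      refine ⟨⟨V, hV⟩, hxV, Or.inr ⟨1, one_mem _, ?_⟩⟩
      rw [hN k (not_lt.1 hk), Scheme.IdealSheafData.comap_top, Scheme.IdealSheafData.ideal_top, Pi.top_apply,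
        Ideal.span_singleton_one]
  have hbound : ∀ x : X', ∃ k, x ∉ (Fitt.sheafIdeal F' k).support := fun x => ⟨N, by
    rw [hfitt, hN N le_rfl, Scheme.IdealSheafData.comap_top, Scheme.IdealSheafData.support_top]
    exact fun h => h⟩
  have hfree' : ∀ y ∈ b ⁻¹ᵁ U, ∃ (O : X'.Opens) (n : ℕ), y ∈ O ∧
      Nonempty (F'.restrict O.ι ≅ FlatMod.freeMod (O : Scheme.{u}) n) := by
    intro y hy
    obtain ⟨O, n, hO, ⟨i⟩⟩ := hfree (b y) hy
    exact ⟨b ⁻¹ᵁ O, n, hO, Groth.L29.LocFree.restrict_pullback b i⟩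
  have hd : CInt.IsSchematicallyDense (b ⁻¹ᵁ U) :=
    Groth.L23.SchKer.isSchematicallyDense_of_ker_eq_bot _ (IsSchemeTheoreticallyDominant.ker_eq_bot _)
  refine ⟨K, X', b, hb, hK, _, isFinLocFree_image_unit (b ⁻¹ᵁ U) hd hF' hfree' hbound hloc, ⟨?_⟩⟩
  let adj := Scheme.Modules.restrictAdjunction (b ⁻¹ᵁ U).ι
  let R := Scheme.Modules.restrictFunctor (b ⁻¹ᵁ U).ι
  haveI : IsIso (adj.counit.app (R.obj F')) := inferInstance
  haveI : IsIso (R.map (adj.unit.app F') ≫ adj.counit.app (R.obj F')) := by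
    rw [adj.left_triangle_components F']; exact IsIso.id _
  haveI : IsIso (R.map (adj.unit.app F')) :=
    IsIso.of_isIso_comp_right (R.map (adj.unit.app F')) (adj.counit.app (R.obj F'))
  haveI : IsIso (R.map (Abelian.factorThruImage (adj.unit.app F')) ≫ R.map (Abelian.image.ι (adj.unit.app F'))) := by
    rw [← R.map_comp, Abelian.image.fac]; infer_instance
  haveI : Mono (R.map (Abelian.factorThruImage (adj.unit.app F'))) :=
    mono_of_mono _ (R.map (Abelian.image.ι (adj.unit.app F')))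
  haveI : IsIso (R.map (Abelian.factorThruImage (adj.unit.app F'))) := isIso_of_mono_of_epi _
  exact (asIso (R.map (Abelian.factorThruImage (adj.unit.app F')))).symm

/-- **Models carrying locally free extensions.** -/
theorem exists_locFree_model [IsNoetherian X] (U : X.Opens) [IsSchemeTheoreticallyDominant U.ι] :
    ∀ (n : ℕ) (E : Fin n → (U : Scheme.{u}).Modules), (∀ i, FlatMod.IsFinLocFree (E i)) →
    ∃ (X' : Scheme.{u}) (π : X' ⟶ X), IsProper π ∧ RelProj.IsProjective π ∧ IsIso (π ∣_ U) ∧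
      IsSchemeTheoreticallyDominant (π ⁻¹ᵁ U).ι ∧
      ∀ i, ∃ E' : X'.Modules, FlatMod.IsFinLocFree E' ∧
        Nonempty ((Scheme.Modules.pullback (π ⁻¹ᵁ U).ι).obj E' ≅ (Scheme.Modules.pullback (π ∣_ U)).obj (E i)) := by
  intro n
  induction n with
  | zero =>
    intro E _
    haveI : IsIso ((𝟙 X : X ⟶ X) ∣_ U) :=
      isIso_restrict_of_admissible isBlowUp_id_top (admissible_top U).2
    exact ⟨X, 𝟙 X, inferInstance,
      Groth.L06.BlowProj.isProjective_of_isBlowUp ⊤ isFiniteType_top _ isBlowUp_id_top, inferInstance,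
      ‹IsSchemeTheoreticallyDominant U.ι›, fun i => i.elim0⟩
  | succ n ih =>
    intro E hE
    obtain ⟨X', π, hπ, hπp, hπi, hπd, hext⟩ := ih (fun i => E i.succ) (fun i => hE i.succ)
    haveI : IsNoetherian X' :=
      { toIsLocallyNoetherian := LocallyOfFiniteType.isLocallyNoetherian π
        toCompactSpace := QuasiCompact.compactSpace_of_compactSpace π }
    let U' := π ⁻¹ᵁ U
    haveI : IsSchemeTheoreticallyDominant U'.ι := hπd
    have hU' : IsCompact (U' : Set X') := NoetherianSpace.isCompact _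
    haveI : QuasiCompact U'.ι := Groth.L17.Approx.quasiCompact_ι U' hU'
    haveI : CompactSpace (U' : Scheme.{u}) := isCompact_iff_compactSpace.1 hU'
    haveI : IsNoetherian (U' : Scheme.{u}) :=
      { toIsLocallyNoetherian := LocallyOfFiniteType.isLocallyNoetherian U'.ι }
    let E₀ := (Scheme.Modules.pullback (π ∣_ U)).obj (E 0)
    have hE₀ : FlatMod.IsFinLocFree E₀ := Groth.L29.LocFree.pullback _ (hE 0)
    have hE₀c : Coh.IsCoh E₀ := Groth.L16.NegPow.isCoh_of_isFinLocFree hE₀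
    haveI := hE₀c.1
    haveI : Coh.IsQCoh ((Scheme.Modules.pushforward U'.ι).obj E₀) := Groth.L16.QcqsPush.isQCoh_push E₀ U'.ι
    let c : ((Scheme.Modules.pushforward U'.ι).obj E₀).restrict U'.ι ≅ E₀ :=
      (asIso (Scheme.Modules.restrictAdjunction U'.ι).counit).app E₀
    obtain ⟨F, -, e, hFP, -⟩ := Groth.L19.FPExtend.exists_fp_extension ((Scheme.Modules.pushforward U'.ι).obj E₀)
      U' hU' E₀ (Groth.L15.Ref.isFP_of_isCoh hE₀c) c.inv
    haveI := Groth.L05.Prufer.isQCoh_of_isFP hFP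
    have hF : Coh.IsCoh F := ⟨inferInstance, Groth.L19.LimMod.isFT_of_isFP hFP⟩
    obtain ⟨J, X'', b, hb, hJ, G, hG, ⟨eG⟩⟩ :=
      exists_locFree_blowUp U' hF (Groth.L29.LocFree.of_iso e.symm hE₀)
    haveI := Groth.L13.BU.isProper_blowUp hb hJ.1
    haveI := isIso_restrict_of_admissible hb hJ.2
    haveI := hπi
    haveI : IsIso (b ∣_ π ⁻¹ᵁ U) := isIso_restrict_of_admissible hb hJ.2
    haveI : IsIso ((b ≫ π) ∣_ U) := by
      rw [morphismRestrict_comp]
      exact IsIso.comp_isIso' (isIso_restrict_of_admissible hb hJ.2) hπi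
    refine ⟨X'', b ≫ π, inferInstance,
      isProjective_comp b π (Groth.L06.BlowProj.isProjective_of_isBlowUp J hJ.1 b hb) hπp, inferInstance,
      Groth.L07.BlowLib.schDominant_preimage hb U', ?_⟩
    refine Fin.cases ?_ ?_
    · refine ⟨G, hG, ⟨?_⟩⟩
      exact ((Scheme.Modules.restrictFunctorIsoPullback _).app G).symm ≪≫ eG ≪≫
        (Scheme.Modules.restrictFunctorIsoPullback _).app _ ≪≫
        (Scheme.Modules.pullbackComp _ b).app F ≪≫
        (Scheme.Modules.pullbackCongr (morphismRestrict_ι b U').symm).app F ≪≫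
        ((Scheme.Modules.pullbackComp (b ∣_ U') U'.ι).app F).symm ≪≫
        (Scheme.Modules.pullback (b ∣_ U')).mapIso
          (((Scheme.Modules.restrictFunctorIsoPullback U'.ι).app F).symm ≪≫ e) ≪≫
        (Scheme.Modules.pullbackComp (b ∣_ U') (π ∣_ U)).app (E 0) ≪≫
        (Scheme.Modules.pullbackCongr (morphismRestrict_comp b π U).symm).app (E 0)
    · intro i
      obtain ⟨E', hE', ⟨eE⟩⟩ := hext i
      refine ⟨(Scheme.Modules.pullback b).obj E', Groth.L29.LocFree.pullback b hE', ⟨?_⟩⟩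
      exact (Scheme.Modules.pullbackComp _ b).app E' ≪≫
        (Scheme.Modules.pullbackCongr (morphismRestrict_ι b U').symm).app E' ≪≫
        ((Scheme.Modules.pullbackComp (b ∣_ U') U'.ι).app E').symm ≪≫
        (Scheme.Modules.pullback (b ∣_ U')).mapIso eE ≪≫
        (Scheme.Modules.pullbackComp (b ∣_ U') (π ∣_ U)).app (E i.succ) ≪≫
        (Scheme.Modules.pullbackCongr (morphismRestrict_comp b π U).symm).app (E i.succ)

end Groth.L13.Nagata
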