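import Groth.Agent.L13.Nagata.Base
import Groth.Agent.L20.StrictSep
import Groth.Agent.L17.ThickBasic
import Mathlib.AlgebraicGeometry.Morphisms.FiniteType

/-!
# An affine morphism which is an open immersion over `U` becomes one after an admissible blow-up
-/

set_option autoImplicit false
set_option linter.style.haveILetI false
set_option backward.isDefEq.respectTransparency.types false

universe u

open CategoryTheory CategoryTheory.Limits AlgebraicGeometry TopologicalSpace Opposite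
open Groth.L13.MP

noncomputable section

namespace Groth.L13.Nagata

variable {X T Z : Scheme.{u}}

/-- Over an open where `p` is a monomorphism, maps to the source are determined by their composite. -/
theorem eq_of_range_subset (p : T ⟶ X) (U : X.Opens) [Mono (p ∣_ U)] {f g : Z ⟶ T} (h : f ≫ p = g ≫ p)
    (hU : ∀ z, (f ≫ p) z ∈ U) : f = g := by
  have hU' : ∀ z, (g ≫ p) z ∈ U := fun z => h ▸ hU z
  let f' := IsOpenImmersion.lift (p ⁻¹ᵁ U).ι f (by rw [Scheme.Opens.range_ι]; rintro _ ⟨z, rfl⟩; exact hU z)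
  let g' := IsOpenImmersion.lift (p ⁻¹ᵁ U).ι g (by rw [Scheme.Opens.range_ι]; rintro _ ⟨z, rfl⟩; exact hU' z)
  have hf' : f' ≫ (p ⁻¹ᵁ U).ι = f := IsOpenImmersion.lift_fac _ _ _
  have hg' : g' ≫ (p ⁻¹ᵁ U).ι = g := IsOpenImmersion.lift_fac _ _ _
  have : f' = g' := by
    rw [← cancel_mono (p ∣_ U), ← cancel_mono U.ι]
    simp only [Category.assoc, morphismRestrict_ι]
    rw [reassoc_of% hf', reassoc_of% hg', h]
  rw [← hf', ← hg', this]

/-- A finite family of functions whose basic opens fill a quasi-compact open of an affine scheme. -/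
theorem exists_basicOpens [IsAffine X] (U : X.Opens) (hU : IsCompact (U : Set X)) :
    ∃ t : Finset Γ(X, ⊤), (U : Set X) = ⋃ a ∈ t, (X.basicOpen a : Set X) := by
  classical
  have h : ∀ x : U, ∃ a : Γ(X, ⊤), x.1 ∈ X.basicOpen a ∧ (X.basicOpen a : Set X) ⊆ U := fun x => by
    obtain ⟨_, ⟨_, ⟨a, rfl⟩, rfl⟩, hx, hle⟩ :=
      (isBasis_basicOpen X).exists_subset_of_mem_open x.2 U.2
    exact ⟨a, hx, hle⟩
  choose a hxa ha using h
  obtain ⟨s, hs⟩ := hU.elim_finite_subcover (fun x : U => (X.basicOpen (a x) : Set X))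
    (fun x => (X.basicOpen _).2) fun x hx => Set.mem_iUnion.2 ⟨⟨x, hx⟩, hxa ⟨x, hx⟩⟩
  refine ⟨s.image a, Set.Subset.antisymm ?_ ?_⟩
  · intro x hx
    obtain ⟨i, hi, hxi⟩ := Set.mem_iUnion₂.1 (hs hx)
    exact Set.mem_iUnion₂.2 ⟨a i, Finset.mem_image_of_mem a hi, hxi⟩
  · intro x hx
    obtain ⟨b, hb, hxb⟩ := Set.mem_iUnion₂.1 hx
    obtain ⟨i, -, rfl⟩ := Finset.mem_image.1 hb
    exact ha i hxb

/-- A function on the source is, up to a power of `a`, a function on the base, when `p` is bijective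
on the basic open of `a`. -/
theorem exists_num [IsAffine X] [IsAffine T] (p : T ⟶ X) (a : Γ(X, ⊤))
    [IsIso (p.app (X.basicOpen a))] (g : Γ(T, ⊤)) :
    ∃ N₀ : ℕ, ∀ N, N₀ ≤ N → ∃ c : Γ(X, ⊤), p.appTop c = p.appTop a ^ N * g := by
  have hpre : p ⁻¹ᵁ X.basicOpen a = T.basicOpen (p.appTop a) := Scheme.preimage_basicOpen p a
  have hle : p ⁻¹ᵁ X.basicOpen a ≤ ⊤ := le_top
  letI := (T.presheaf.map (homOfLE hle).op).hom.toAlgebra
  haveI : IsLocalization.Away (p.appTop a) Γ(T, p ⁻¹ᵁ X.basicOpen a) :=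
    (isAffineOpen_top T).isLocalization_of_eq_basicOpen _ (homOfLE hle) hpre
  have hnat : ∀ x : Γ(X, ⊤), algebraMap Γ(T, ⊤) Γ(T, p ⁻¹ᵁ X.basicOpen a) (p.appTop x) =
      p.app (X.basicOpen a) (X.presheaf.map (homOfLE le_top).op x) := fun x =>
    (congrArg (fun φ => φ x) (p.naturality (homOfLE (le_top : X.basicOpen a ≤ ⊤)).op)).symm
  obtain ⟨y, hy⟩ := (ConcreteCategory.bijective_of_isIso (p.app (X.basicOpen a))).2
    (algebraMap Γ(T, ⊤) _ g)
  letI := (X.presheaf.map (homOfLE (le_top : X.basicOpen a ≤ ⊤)).op).hom.toAlgebra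
  haveI : IsLocalization.Away a Γ(X, X.basicOpen a) :=
    (isAffineOpen_top X).isLocalization_of_eq_basicOpen _ (homOfLE le_top) rfl
  obtain ⟨n, c, hc⟩ := IsLocalization.Away.surj a y
  have h1 : algebraMap Γ(T, ⊤) Γ(T, p ⁻¹ᵁ X.basicOpen a) (g * p.appTop a ^ n) =
      algebraMap Γ(T, ⊤) Γ(T, p ⁻¹ᵁ X.basicOpen a) (p.appTop c) := by
    rw [map_mul, map_pow, hnat, hnat, ← hy, ← map_pow, ← map_mul]
    exact congrArg _ hc
  obtain ⟨m, hm⟩ := IsLocalization.Away.exists_of_eq (p.appTop a) h1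
  refine ⟨m + n, fun N hN => ⟨a ^ (N - (m + n) + m) * c, ?_⟩⟩
  have e : p.appTop a ^ N = p.appTop a ^ (N - (m + n) + m) * p.appTop a ^ n := by
    rw [← pow_add]; congr 1; omega
  rw [e, map_mul, map_pow, pow_add, mul_assoc, mul_assoc, mul_assoc]
  refine congrArg _ ?_
  rw [← hm]
  ring

theorem ofIdealTop_top [IsAffine X] (I : Ideal Γ(X, ⊤)) :
    (Scheme.IdealSheafData.ofIdealTop I).ideal ⟨⊤, isAffineOpen_top X⟩ = I :=
  Scheme.IdealSheafData.equivOfIsAffine.apply_symm_apply _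

variable [IsAffine X] [IsAffine T]

/-- The data of a centre: numerators for the generators of the source over the base. -/
structure Centre (p : T ⟶ X) (U : X.Opens) where
  t : Finset Γ(X, ⊤)
  N : ℕ
  G : Finset Γ(T, ⊤)
  K : X.IdealSheafData
  hadm : BlowUp.IsAdmissibleFor U K
  hG : ∀ (S : Subring Γ(T, ⊤)), (∀ x, p.appTop x ∈ S) → (∀ g ∈ G, g ∈ S) → S = ⊤
  hpos : 0 < N
  hUle : ∀ a ∈ t, ∀ x ∈ X.basicOpen a, x ∈ U
  hiso : ∀ a ∈ t, IsIso (p.app (X.basicOpen a))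
  hnum : ∀ a ∈ t, ∀ g ∈ G, ∃ c : Γ(X, ⊤), c ∈ K.ideal ⟨⊤, isAffineOpen_top X⟩ ∧
    p.appTop c = p.appTop (a ^ N) * g
  hle : Scheme.IdealSheafData.ofIdealTop (Ideal.span ((fun a => a ^ N) '' (t : Set Γ(X, ⊤)))) ≤ K
  hcomap : K.comap p =
    (Scheme.IdealSheafData.ofIdealTop (Ideal.span ((fun a => a ^ N) '' (t : Set Γ(X, ⊤))))).comap p

set_option backward.isDefEq.respectTransparency false in
theorem isIso_app_of_range (p : T ⟶ X) (U : X.Opens) [IsOpenImmersion (p ∣_ U)] (D : X.Opens) (hD : D ≤ U)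
    (hr : (D : Set X) ⊆ Set.range (fun y => p y)) : IsIso (p.app D) := by
  have hcomp : IsOpenImmersion ((p ⁻¹ᵁ U).ι ≫ p) := by rw [← morphismRestrict_ι]; infer_instance
  haveI : IsOpenImmersion (p ∣_ D) := by
    have e : IsOpenImmersion ((p ∣_ D) ≫ D.ι) := by
      rw [morphismRestrict_ι, ← T.homOfLE_ι (show p ⁻¹ᵁ D ≤ p ⁻¹ᵁ U from fun y hy => hD hy), Category.assoc]
      infer_instance
    exact IsOpenImmersion.of_comp (p ∣_ D) D.ι
  haveI : Surjective (p ∣_ D) := ⟨fun x => by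
    obtain ⟨y, hy⟩ := hr x.2
    refine ⟨⟨y, show p y ∈ D from (show p y = x.1 from hy).symm ▸ x.2⟩, Subtype.ext ?_⟩
    rw [morphismRestrict_base_coe]
    exact hy⟩
  haveI : IsIso (p ∣_ D) := (isIso_iff_isOpenImmersion_and_surjective _).2 ⟨inferInstance, inferInstance⟩
  have h := Scheme.Hom.isIso_app (p ∣_ D) ⊤ fun x _ => Set.mem_range.2 ((p ∣_ D).surjective x)
  have e1 : IsIso (p.app (D.ι ''ᵁ ⊤)) :=
    @IsIso.of_isIso_fac_right _ _ _ _ _ _ _ _ _ h (morphismRestrict_app p D ⊤).symm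
  have e2 : D.ι ''ᵁ ⊤ = D := D.ι_image_top
  rwa [e2] at e1

theorem exists_centre (p : T ⟶ X) [LocallyOfFiniteType p] (U : X.Opens) (hU : IsCompact (U : Set X))
    [IsOpenImmersion (p ∣_ U)] : Nonempty (Centre p U) := by
  classical
  let D : X.Opens := U.ι ''ᵁ (p ∣_ U).opensRange
  have hDU : D ≤ U := by rintro _ ⟨x, -, rfl⟩; exact x.2
  have hDr : ∀ x : X, x ∈ D ↔ x ∈ U ∧ ∃ y, p y = x := by
    intro x
    constructor
    · rintro ⟨_, ⟨y, rfl⟩, rfl⟩
      exact ⟨((p ∣_ U) y).2, y.1, (morphismRestrict_base_coe p U y).symm⟩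
    · rintro ⟨hx, y, rfl⟩
      exact ⟨_, ⟨⟨y, hx⟩, rfl⟩, morphismRestrict_base_coe p U ⟨y, hx⟩⟩
  have hDc : IsCompact (D : Set X) := by
    haveI : QuasiCompact p := inferInstance
    haveI : CompactSpace (p ⁻¹ᵁ U : T.Opens) :=
      isCompact_iff_compactSpace.1 (p.isCompact_preimage hU)
    have : (D : Set X) = Set.range ((p ∣_ U) ≫ U.ι) := by
      ext x
      constructor
      · rintro ⟨_, ⟨y, rfl⟩, rfl⟩; exact ⟨y, rfl⟩
      · rintro ⟨y, rfl⟩; exact ⟨_, ⟨y, rfl⟩, rfl⟩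
    rw [this]
    exact isCompact_range (Scheme.Hom.continuous _)
  obtain ⟨t, ht⟩ := exists_basicOpens D hDc
  have htD : ∀ a ∈ t, ∀ x ∈ X.basicOpen a, x ∈ D := fun a ha x hx => by
    show x ∈ (D : Set X)
    rw [ht]
    exact Set.mem_iUnion₂.2 ⟨a, ha, hx⟩
  have hiso : ∀ a ∈ t, IsIso (p.app (X.basicOpen a)) := fun a ha =>
    isIso_app_of_range p U _ (fun x hx => hDU (htD a ha x hx)) fun x hx => ((hDr x).1 (htD a ha x hx)).2
  obtain ⟨G, hG⟩ : ∃ G : Finset Γ(T, ⊤), ∀ (S : Subring Γ(T, ⊤)), (∀ x, p.appTop x ∈ S) →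
      (∀ g ∈ G, g ∈ S) → S = ⊤ := by
    have hft : p.appTop.hom.FiniteType :=
      (HasRingHomProperty.iff_of_isAffine (P := @LocallyOfFiniteType)).1 inferInstance
    letI := p.appTop.hom.toAlgebra
    obtain ⟨G, hG⟩ := hft.out
    refine ⟨G, fun S h1 h2 => eq_top_iff.2 fun y _ => ?_⟩
    have hy : y ∈ Algebra.adjoin Γ(X, ⊤) (G : Set Γ(T, ⊤)) := hG ▸ Algebra.mem_top
    exact Algebra.adjoin_induction (fun g hg => h2 g hg) (fun r => h1 r) (fun _ _ _ _ h h' => S.add_mem h h')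
      (fun _ _ _ _ h h' => S.mul_mem h h') hy
  have hN : ∀ ag : {ag // ag ∈ t ×ˢ G}, ∃ N₀ : ℕ, ∀ N, N₀ ≤ N →
      ∃ c : Γ(X, ⊤), p.appTop c = p.appTop ag.1.1 ^ N * ag.1.2 := fun ag => by
    haveI := hiso _ (Finset.mem_product.1 ag.2).1
    exact exists_num p ag.1.1 ag.1.2
  choose N₀ hN₀ using hN
  let N := (Finset.univ.sup N₀) + 1
  choose c hc using fun ag => hN₀ ag N ((Finset.le_sup (Finset.mem_univ ag)).trans (Nat.le_succ _))
  obtain ⟨L, hL, hLs⟩ := exists_compl_ideal U hU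
  let Pt := Scheme.IdealSheafData.ofIdealTop (Ideal.span ((fun a => a ^ N) '' (t : Set Γ(X, ⊤))))
  let Ct := Scheme.IdealSheafData.ofIdealTop (Ideal.span (Set.range c))
  have hfgTop : ∀ I : Ideal Γ(X, ⊤), I.FG → BlowUp.IsFiniteTypeIdeal (Scheme.IdealSheafData.ofIdealTop I) := by
    intro I hI V
    rw [Scheme.IdealSheafData.ofIdealTop_ideal]
    exact hI.map _
  have hPfg : BlowUp.IsFiniteTypeIdeal Pt := hfgTop _ (Submodule.fg_span (t.finite_toSet.image _))
  have hCfg : BlowUp.IsFiniteTypeIdeal Ct := hfgTop _ (Submodule.fg_span (Set.finite_range c))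
  have hsupp : ((Pt.comap p).support : Set T) ⊆ ((L.comap p).support : Set T) := by
    intro y hy
    simp only [Scheme.IdealSheafData.support_comap] at hy ⊢
    show p y ∈ (L.support : Set X)
    rw [hLs]
    intro hyU
    have hyD : p y ∈ (D : Set X) := (hDr _).2 ⟨hyU, y, rfl⟩
    rw [ht] at hyD
    obtain ⟨a, ha, hya⟩ := Set.mem_iUnion₂.1 hyD
    have h1 : p y ∈ Pt.support := hy
    rw [← SetLike.mem_coe, Scheme.IdealSheafData.coe_support_ofIdealTop, Scheme.zeroLocus_span] at h1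
    refine (Scheme.mem_zeroLocus_iff X _ _).1 h1 (a ^ N) ⟨a, ha, rfl⟩ ?_
    rw [X.basicOpen_pow a (show 0 < N from Nat.succ_pos _)]
    exact hya
  haveI : CompactSpace T := inferInstance
  obtain ⟨n, hn⟩ := Groth.L20.StrictSep.exists_pow_le (isFiniteType_comap hL p) hsupp
  have hCle : Ct.comap p ≤ Pt.comap p := by
    refine Scheme.IdealSheafData.le_of_isAffine ?_
    rw [Groth.L22.Ideals.comap_ideal_top, Groth.L22.Ideals.comap_ideal_top,
      ofIdealTop_top, ofIdealTop_top, Ideal.map_le_iff_le_comap,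
      Ideal.span_le]
    rintro _ ⟨ag, rfl⟩
    rw [SetLike.mem_coe, Ideal.mem_comap]
    show p.appTop (c ag) ∈ (_ : Ideal Γ(T, ⊤))
    rw [hc, ← map_pow]
    exact Ideal.mul_mem_right _ _ (Ideal.mem_map_of_mem _
      (Ideal.subset_span ⟨_, (Finset.mem_product.1 ag.2).1, rfl⟩))
  refine ⟨{ t := t, N := N, G := G, K := Pt ⊔ Ct ⊔ L ^ (n + 1), hadm := ⟨?_, ?_⟩, hG := hG,
            hpos := Nat.succ_pos _, hUle := fun a ha x hx => hDU (htD a ha x hx), hiso := hiso,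
            hnum := fun a ha g hg => ?_, hle := le_sup_left.trans le_sup_left, hcomap := ?_ }⟩
  · refine fun V => ((LocFG.of_fg hPfg).sup (LocFG.of_fg hCfg) |>.sup (LocFG.of_fg fun V => ?_)).fg V
    rw [Scheme.IdealSheafData.ideal_pow, Pi.pow_apply]
    exact (hL V).pow
  · refine Set.disjoint_left.2 fun x hx hxU => ?_
    have h1 := Scheme.IdealSheafData.support_antitone (le_sup_right : L ^ (n + 1) ≤ Pt ⊔ Ct ⊔ L ^ (n + 1)) hx
    rw [Scheme.IdealSheafData.support_pow_succ] at h1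
    have h2 : x ∈ (L.support : Set X) := h1
    rw [hLs] at h2
    exact h2 hxU
  · refine ⟨c ⟨(a, g), Finset.mem_product.2 ⟨ha, hg⟩⟩, ?_, ?_⟩
    · refine (show Ct ≤ Pt ⊔ Ct ⊔ L ^ (n + 1) from le_sup_right.trans le_sup_left) _ ?_
      rw [ofIdealTop_top]
      exact Ideal.subset_span ⟨_, rfl⟩
    · rw [hc, map_pow]
  · simp only [Scheme.IdealSheafData.comap_sup]
    refine le_antisymm (sup_le (sup_le le_rfl hCle) ?_) (le_sup_left.trans le_sup_left)
    rw [Groth.L17.Thick.comap_pow]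
    exact hn

end Groth.L13.Nagata
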