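import Groth.Agent.L13.Nagata.Side

/-!
# Union of two compactifiable opens
-/

set_option autoImplicit false
set_option linter.style.haveILetI false
set_option backward.isDefEq.respectTransparency.types false

universe u

open CategoryTheory CategoryTheory.Limits AlgebraicGeometry TopologicalSpace

noncomputable section

namespace Groth.L13.Nagata

variable {X S : Scheme.{u}}

/-- A closed set inside an open carrying a morphism gives a proper scheme mapping onto its image. -/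
theorem exists_proper_piece {P' T : Scheme.{u}} (π : P' ⟶ S) [IsProper π] (qT : T ⟶ S) (N : P'.Opens)
    (φ : (N : Scheme.{u}) ⟶ T) (hφ : φ ≫ qT = N.ι ≫ π) (C : Closeds P') (hC : (C : Set P') ⊆ N) :
    ∃ (A : Scheme.{u}) (α : A ⟶ T), IsProper (α ≫ qT) ∧ ∀ y : N, (N.ι y) ∈ C → φ y ∈ Set.range α := by
  let I := Scheme.IdealSheafData.vanishingIdeal C
  have hI : (I.support : Set P') = C := by
    rw [Scheme.IdealSheafData.coe_support_vanishingIdeal]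
  let l : I.subscheme ⟶ (N : Scheme.{u}) := IsOpenImmersion.lift N.ι I.subschemeι (by
    rw [Scheme.Opens.range_ι, Scheme.IdealSheafData.range_subschemeι, hI]; exact hC)
  have hl : l ≫ N.ι = I.subschemeι := IsOpenImmersion.lift_fac _ _ _
  refine ⟨_, l ≫ φ, ?_, fun y hy => ?_⟩
  · rw [Category.assoc, hφ, reassoc_of% hl]; infer_instance
  · obtain ⟨a, ha⟩ : N.ι y ∈ Set.range I.subschemeι := by
      rw [Scheme.IdealSheafData.range_subschemeι, hI]; exact hy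
    refine ⟨a, ?_⟩
    have e : l a = y := N.ι.isOpenEmbedding.injective (by rw [← Scheme.Hom.comp_apply, hl, ha])
    rw [Scheme.Hom.comp_apply, e]

/-- **Union of two compactifiable opens.** -/
theorem exists_compactification_union [CompactSpace S] [QuasiSeparatedSpace S] (g : X ⟶ S) [IsSeparated g]
    [QuasiCompact g] [LocallyOfFiniteType g] (V₁ V₂ : X.Opens) (hV₁ : IsCompact (V₁ : Set X))
    (hV₂ : IsCompact (V₂ : Set X)) (hcov : V₁ ⊔ V₂ = ⊤)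
    (h₁ : ∃ (Y : Scheme.{u}) (j : (V₁ : Scheme.{u}) ⟶ Y) (p : Y ⟶ S),
      IsOpenImmersion j ∧ QuasiCompact j ∧ IsProper p ∧ j ≫ p = V₁.ι ≫ g)
    (h₂ : ∃ (Y : Scheme.{u}) (j : (V₂ : Scheme.{u}) ⟶ Y) (p : Y ⟶ S),
      IsOpenImmersion j ∧ QuasiCompact j ∧ IsProper p ∧ j ≫ p = V₂.ι ≫ g) :
    ∃ (Y : Scheme.{u}) (j : X ⟶ Y) (p : Y ⟶ S), IsOpenImmersion j ∧ QuasiCompact j ∧ IsProper p ∧ j ≫ p = g := by
  haveI : CompactSpace X := QuasiCompact.compactSpace_of_compactSpace g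
  haveI : QuasiSeparatedSpace X := quasiSeparatedSpace_of_quasiSeparated g
  obtain ⟨D₁, D₂, s₁, s₂, w, hs₁, hs₂, hF₁, hF₂, hZ⟩ := exists_pieces g V₁ V₂ hV₁ hV₂ hcov h₁ h₂
  haveI : CompactSpace D₁.P := QuasiCompact.compactSpace_of_compactSpace D₁.π
  haveI : QuasiSeparatedSpace D₁.P := quasiSeparatedSpace_of_quasiSeparated D₁.π
  haveI : CompactSpace D₂.P := QuasiCompact.compactSpace_of_compactSpace D₂.π
  haveI : QuasiSeparatedSpace D₂.P := quasiSeparatedSpace_of_quasiSeparated D₂.π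
  obtain ⟨t₁, ht₁o, ht₁, hr₁⟩ := D₁.exists_section V₁ le_rfl
  obtain ⟨t₂, ht₂o, ht₂, hr₂⟩ := D₂.exists_section V₂ le_rfl
  haveI : CompactSpace V₁ := isCompact_iff_compactSpace.1 hV₁
  haveI : CompactSpace V₂ := isCompact_iff_compactSpace.1 hV₂
  have hV12 : IsCompact ((V₁ ⊓ V₂ : X.Opens) : Set X) :=
    QuasiSeparatedSpace.inter_isCompact _ _ V₁.2 hV₁ V₂.2 hV₂
  haveI : CompactSpace ((V₁ ⊓ V₂ : X.Opens) : Scheme.{u}) := isCompact_iff_compactSpace.1 hV12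
  haveI : QuasiCompact (pullback.fst D₁.π D₂.π) := MorphismProperty.pullback_fst _ _ inferInstance
  haveI : CompactSpace (pullback D₁.π D₂.π : Scheme.{u}) :=
    QuasiCompact.compactSpace_of_compactSpace (pullback.fst D₁.π D₂.π)
  set u := pullback.lift (s₁ ≫ D₁.o) (s₂ ≫ D₂.o) w with hu
  -- the opens of the pieces
  let Z₁ : Set (pullback D₁.π D₂.π : Scheme.{u}) :=
    closure (Set.range u) ∩ pullback.snd D₁.π D₂.π ⁻¹' D₂.bad V₂
  have hZ₁ : IsCompact Z₁ :=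
    (isClosed_closure.inter (isClosed_closure.preimage (pullback.snd D₁.π D₂.π).continuous)).isCompact
  obtain ⟨M₁, hM₁, hK₁, hM₁le⟩ := exists_compact_open_between
    (((isCompact_range (Scheme.Hom.continuous (t₁ ≫ D₁.o))).union
      (isClosed_closure (s := D₁.o '' ((D₁.q ⁻¹ᵁ V₂ : D₁.Xm.Opens) : Set D₁.Xm)ᶜ)).isCompact).union
      (hZ₁.image (pullback.fst D₁.π D₂.π).continuous)) ⟨(D₁.bad V₁)ᶜ, isClosed_closure.isOpen_compl⟩ (by
      rintro x ((⟨y, rfl⟩ | hx) | ⟨z, ⟨hz, hz'⟩, rfl⟩)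
      · intro h
        have hcl : (D₁.o '' ((D₁.q ⁻¹ᵁ V₁ : D₁.Xm.Opens) : Set D₁.Xm)ᶜ) ⊆
            (D₁.o '' Set.range t₁)ᶜ := by
          rintro _ ⟨a, ha, rfl⟩ ⟨b, hb, hab⟩
          obtain rfl := D₁.o.isOpenEmbedding.injective hab
          exact ha (hr₁.symm.subset hb)
        have hop : IsOpen (D₁.o '' Set.range t₁) :=
          D₁.o.isOpenEmbedding.isOpenMap _ t₁.isOpenEmbedding.isOpen_range
        exact closure_minimal hcl hop.isClosed_compl h ⟨t₁ y, ⟨y, rfl⟩, (Scheme.Hom.comp_apply _ _ _).symm⟩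
      · exact fun h => Set.disjoint_left.1 hF₁ h hx
      · exact fun h => hZ z hz h hz')
  have hM₁o : D₁.o ⁻¹' (M₁ : Set D₁.P) = Set.range t₁ := by
    refine Set.Subset.antisymm (fun y hy => ?_) ?_
    · by_contra hyn
      exact hM₁le hy (subset_closure ⟨y, fun h => hyn (hr₁.subset h), rfl⟩)
    · rintro _ ⟨x, rfl⟩
      exact hK₁ (Or.inl (Or.inl ⟨x, Scheme.Hom.comp_apply _ _ _⟩))
  let Z₂ : Set (pullback D₁.π D₂.π : Scheme.{u}) :=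
    closure (Set.range u) ∩ pullback.fst D₁.π D₂.π ⁻¹' (M₁ : Set D₁.P)ᶜ
  have hZ₂ : IsCompact Z₂ :=
    (isClosed_closure.inter (M₁.2.isClosed_compl.preimage (pullback.fst D₁.π D₂.π).continuous)).isCompact
  obtain ⟨M₂, hM₂, hK₂, hM₂le⟩ := exists_compact_open_between
    (((isCompact_range (Scheme.Hom.continuous (t₂ ≫ D₂.o))).union
      (isClosed_closure (s := D₂.o '' ((D₂.q ⁻¹ᵁ V₁ : D₂.Xm.Opens) : Set D₂.Xm)ᶜ)).isCompact).union
      (hZ₂.image (pullback.snd D₁.π D₂.π).continuous)) ⟨(D₂.bad V₂)ᶜ, isClosed_closure.isOpen_compl⟩ (by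
      rintro x ((⟨y, rfl⟩ | hx) | ⟨z, ⟨hz, hz'⟩, rfl⟩)
      · intro h
        have hcl : (D₂.o '' ((D₂.q ⁻¹ᵁ V₂ : D₂.Xm.Opens) : Set D₂.Xm)ᶜ) ⊆
            (D₂.o '' Set.range t₂)ᶜ := by
          rintro _ ⟨a, ha, rfl⟩ ⟨b, hb, hab⟩
          obtain rfl := D₂.o.isOpenEmbedding.injective hab
          exact ha (hr₂.symm.subset hb)
        have hop : IsOpen (D₂.o '' Set.range t₂) :=
          D₂.o.isOpenEmbedding.isOpenMap _ t₂.isOpenEmbedding.isOpen_range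
        exact closure_minimal hcl hop.isClosed_compl h ⟨t₂ y, ⟨y, rfl⟩, (Scheme.Hom.comp_apply _ _ _).symm⟩
      · exact fun h => Set.disjoint_left.1 hF₂ h hx
      · exact fun h => hz' (hK₁ (Or.inr ⟨z, ⟨hz, h⟩, rfl⟩)))
  have hM₂o : D₂.o ⁻¹' (M₂ : Set D₂.P) = Set.range t₂ := by
    refine Set.Subset.antisymm (fun y hy => ?_) ?_
    · by_contra hyn
      exact hM₂le hy (subset_closure ⟨y, fun h => hyn (hr₂.subset h), rfl⟩)
    · rintro _ ⟨x, rfl⟩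
      exact hK₂ (Or.inl (Or.inl ⟨x, Scheme.Hom.comp_apply _ _ _⟩))
  -- glue and dominate
  obtain ⟨W₁, q₁, iA₁, iM₁, v₁, hq₁s, hq₁c, hq₁l, hA₁, -, hv₁, hAB₁, hAq₁, hMq₁⟩ :=
    exists_glue_piece D₁ t₁ ht₁ M₁ hM₁ hM₁o
  obtain ⟨W₂, q₂, iA₂, iM₂, v₂, hq₂s, hq₂c, hq₂l, hA₂, -, hv₂, hAB₂, hAq₂, hMq₂⟩ :=
    exists_glue_piece D₂ t₂ ht₂ M₂ hM₂ hM₂o
  obtain ⟨T, qT, hTs, hTl, hTc, K₁, K₂, W₁', W₂', b₁, b₂, o₁, o₂, u₁, u₂, hb₁, hK₁a, hb₂, hK₂a, ho₁, ho₂,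
    he₁, he₂, hu₁, hu₂, hu12, -⟩ := exists_common_target g q₁ q₂ iA₁ iA₂ hAq₁ hAq₂
  let j : X ⟶ T := u₁ ≫ o₁
  have hj : j ≫ qT = g := by rw [Category.assoc, he₁, reassoc_of% hu₁, hAq₁]
  haveI : IsOpenImmersion u₁ := by
    obtain ⟨u', hu', hu'o, -⟩ := exists_openImmersion_lift iA₁ hb₁ hK₁a.2
    have e : u' = u₁ := by
      refine blowUp_hom_ext hb₁ ?_ (hu'.trans hu₁.symm)
      rw [hu', Groth.L22.Ideals.comap_eq_top K₁ _ fun y hy => Set.disjoint_left.1 hK₁a.2 hy ⟨y, rfl⟩]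
      exact Groth.L22.Ideals.isEffCartier_top
    exact e ▸ hu'o
  haveI : IsOpenImmersion j := inferInstanceAs (IsOpenImmersion (u₁ ≫ o₁))
  obtain ⟨P₁', c₁, o₁', φ₁, v₁', hc₁, ho₁', hφ₁, hv₁', hvφ₁⟩ :=
    exists_side D₁ t₁ M₁ hM₁ hM₁o q₁ iA₁ iM₁ v₁ hv₁ hAB₁ hMq₁ hK₁a hb₁ qT o₁ he₁ u₁ hu₁
  obtain ⟨P₂', c₂, o₂', φ₂, v₂', hc₂, ho₂', hφ₂, hv₂', hvφ₂⟩ :=
    exists_side D₂ t₂ M₂ hM₂ hM₂o q₂ iA₂ iM₂ v₂ hv₂ hAB₂ hMq₂ hK₂a hb₂ qT o₂ he₂ u₂ hu₂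
  replace hvφ₁ : v₁' ≫ φ₁ = V₁.ι ≫ j := hvφ₁
  replace hvφ₂ : v₂' ≫ φ₂ = V₂.ι ≫ j := hvφ₂.trans (congrArg (V₂.ι ≫ ·) hu12.symm)
  -- the part over both opens
  let N₁ := c₁ ⁻¹ᵁ M₁
  let N₂ := c₂ ⁻¹ᵁ M₂
  let a₁ := X.homOfLE (inf_le_left : V₁ ⊓ V₂ ≤ V₁) ≫ v₁'
  let a₂ := X.homOfLE (inf_le_right : V₁ ⊓ V₂ ≤ V₂) ≫ v₂'
  have ha₁ : a₁ ≫ φ₁ = (V₁ ⊓ V₂).ι ≫ j := by
    simp only [a₁, Category.assoc, hvφ₁, Scheme.homOfLE_ι_assoc]
  have ha₂ : a₂ ≫ φ₂ = (V₁ ⊓ V₂).ι ≫ j := by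
    simp only [a₂, Category.assoc, hvφ₂, Scheme.homOfLE_ι_assoc]
  have hac₁ : a₁ ≫ N₁.ι ≫ c₁ = s₁ ≫ D₁.o := by
    simp only [a₁, N₁, Category.assoc, reassoc_of% hv₁', ho₁']
    rw [← Category.assoc]
    refine congrArg (· ≫ D₁.o) (eq_of_range_subset D₁.q V₁ ?_ fun z => ?_)
    · rw [Category.assoc, ht₁, Scheme.homOfLE_ι, hs₁]
    · rw [Category.assoc, ht₁, Scheme.homOfLE_ι]; exact z.2.1
  have hac₂ : a₂ ≫ N₂.ι ≫ c₂ = s₂ ≫ D₂.o := by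
    simp only [a₂, N₂, Category.assoc, reassoc_of% hv₂', ho₂']
    rw [← Category.assoc]
    refine congrArg (· ≫ D₂.o) (eq_of_range_subset D₂.q V₂ ?_ fun z => ?_)
    · rw [Category.assoc, ht₂, Scheme.homOfLE_ι, hs₂]
    · rw [Category.assoc, ht₂, Scheme.homOfLE_ι]; exact z.2.2
  have hm0 : (a₁ ≫ N₁.ι) ≫ c₁ ≫ D₁.π = (a₂ ≫ N₂.ι) ≫ c₂ ≫ D₂.π := by
    simp only [Category.assoc, reassoc_of% hac₁, reassoc_of% hac₂]
    simpa only [Category.assoc] using w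
  let m := pullback.lift (a₁ ≫ N₁.ι) (a₂ ≫ N₂.ι) hm0
  haveI : IsSeparated (pullback.fst (c₁ ≫ D₁.π) (c₂ ≫ D₂.π)) := MorphismProperty.pullback_fst _ _ inferInstance
  haveI : IsProper (pullback.fst (c₁ ≫ D₁.π) (c₂ ≫ D₂.π)) := MorphismProperty.pullback_fst _ _ inferInstance
  haveI : QuasiSeparatedSpace P₁' := quasiSeparatedSpace_of_quasiSeparated (c₁ ≫ D₁.π)
  haveI : QuasiSeparatedSpace (pullback (c₁ ≫ D₁.π) (c₂ ≫ D₂.π) : Scheme.{u}) :=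
    quasiSeparatedSpace_of_quasiSeparated (pullback.fst (c₁ ≫ D₁.π) (c₂ ≫ D₂.π))
  haveI : QuasiCompact m := quasiCompact_of_compactSpace m
  let π₁ := m.imageι ≫ pullback.fst (c₁ ≫ D₁.π) (c₂ ≫ D₂.π)
  let π₂ := m.imageι ≫ pullback.snd (c₁ ≫ D₁.π) (c₂ ≫ D₂.π)
  let O₁ := π₁ ⁻¹ᵁ N₁
  let O₂ := π₂ ⁻¹ᵁ N₂
  have hOcov : O₁ ⊔ O₂ = ⊤ := by
    refine eq_top_iff.2 fun z _ => TopologicalSpace.Opens.mem_sup.2 ?_
    by_contra hcon
    push Not at hcon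
    let Φ := pullback.map (c₁ ≫ D₁.π) (c₂ ≫ D₂.π) D₁.π D₂.π c₁ c₂ (𝟙 S) (Category.comp_id _) (Category.comp_id _)
    have hz : Φ (m.imageι z) ∈ closure (Set.range u) := by
      have e : m ≫ Φ = u := by
        refine pullback.hom_ext ?_ ?_
        · simp only [m, Φ, u, Category.assoc, pullback.lift_fst, pullback.lift_fst_assoc, hac₁]
        · simp only [m, Φ, u, Category.assoc, pullback.lift_snd, pullback.lift_snd_assoc, hac₂]
      have hz' : m.imageι z ∈ closure (Set.range m) := by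
        rw [← Scheme.Hom.support_ker]
        have h : Set.range m.imageι = (m.ker.support : Set _) := Scheme.IdealSheafData.range_subschemeι _
        exact h.subset ⟨z, rfl⟩
      refine closure_mono ?_ (image_closure_subset_closure_image Φ.continuous ⟨_, hz', rfl⟩)
      rintro _ ⟨_, ⟨x, rfl⟩, rfl⟩
      exact ⟨x, by rw [← e, Scheme.Hom.comp_apply]⟩
    have f1 : pullback.fst D₁.π D₂.π (Φ (m.imageι z)) = c₁ (π₁ z) := by
      rw [← Scheme.Hom.comp_apply, pullback.lift_fst, Scheme.Hom.comp_apply]; rfl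
    have f2 : pullback.snd D₁.π D₂.π (Φ (m.imageι z)) = c₂ (π₂ z) := by
      rw [← Scheme.Hom.comp_apply, pullback.lift_snd, Scheme.Hom.comp_apply]; rfl
    refine hcon.2 ?_
    show c₂ (π₂ z) ∈ M₂
    rw [← f2]
    refine hK₂ (Or.inr ⟨_, ⟨hz, fun h => hcon.1 ?_⟩, rfl⟩)
    show c₁ (π₁ z) ∈ M₁
    rw [← f1]; exact h
  let χ₁ : (O₁ : Scheme.{u}) ⟶ T := (π₁ ∣_ N₁) ≫ φ₁
  let χ₂ : (O₂ : Scheme.{u}) ⟶ T := (π₂ ∣_ N₂) ≫ φ₂
  have hO : ∀ x, m.toImage x ∈ O₁ ⊓ O₂ := fun x => ⟨by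
      show π₁ (m.toImage x) ∈ N₁
      rw [← Scheme.Hom.comp_apply, Scheme.Hom.toImage_imageι_assoc, pullback.lift_fst, Scheme.Hom.comp_apply]
      exact (a₁ x).2, by
      show π₂ (m.toImage x) ∈ N₂
      rw [← Scheme.Hom.comp_apply, Scheme.Hom.toImage_imageι_assoc, pullback.lift_snd, Scheme.Hom.comp_apply]
      exact (a₂ x).2⟩
  let l := IsOpenImmersion.lift (O₁ ⊓ O₂).ι m.toImage (by
    rw [Scheme.Opens.range_ι]; rintro _ ⟨x, rfl⟩; exact hO x)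
  have hl : l ≫ (O₁ ⊓ O₂).ι = m.toImage := IsOpenImmersion.lift_fac _ _ _
  haveI : IsSchemeTheoreticallyDominant m.toImage := Groth.L02.STD.toImage_dominant m
  haveI : IsSchemeTheoreticallyDominant l := by
    have hpb : IsPullback l (𝟙 _) (O₁ ⊓ O₂).ι m.toImage := by
      refine IsPullback.of_isLimit' ⟨by rw [hl, Category.id_comp]⟩
        (PullbackCone.IsLimit.mk _ (fun s => s.snd) (fun s => ?_) (fun s => Category.comp_id _)
          fun s r h1 h2 => (Category.comp_id r).symm.trans h2)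
      rw [← cancel_mono (O₁ ⊓ O₂).ι, Category.assoc, hl]
      exact s.condition.symm
    exact IsSchemeTheoreticallyDominant.of_isPullback hpb.flip
  have hl₁ : l ≫ m.image.homOfLE (inf_le_left : O₁ ⊓ O₂ ≤ O₁) ≫ (π₁ ∣_ N₁) = a₁ := by
    rw [← cancel_mono N₁.ι]
    simp only [Category.assoc, morphismRestrict_ι, Scheme.homOfLE_ι_assoc, O₁]
    rw [reassoc_of% hl, Scheme.Hom.toImage_imageι_assoc, pullback.lift_fst]
  have hl₂ : l ≫ m.image.homOfLE (inf_le_right : O₁ ⊓ O₂ ≤ O₂) ≫ (π₂ ∣_ N₂) = a₂ := by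
    rw [← cancel_mono N₂.ι]
    simp only [Category.assoc, morphismRestrict_ι, Scheme.homOfLE_ι_assoc, O₂]
    rw [reassoc_of% hl, Scheme.Hom.toImage_imageι_assoc, pullback.lift_snd]
  have hπc : π₁ ≫ c₁ ≫ D₁.π = π₂ ≫ c₂ ≫ D₂.π := by
    simp only [π₁, π₂, Category.assoc, pullback.condition]
  have hs₁' : χ₁ ≫ qT = O₁.ι ≫ π₁ ≫ c₁ ≫ D₁.π :=
    (Category.assoc _ _ _).trans ((congrArg ((π₁ ∣_ N₁) ≫ ·) hφ₁).trans
      ((Category.assoc _ _ _).symm.trans ((congrArg (· ≫ c₁ ≫ D₁.π) (morphismRestrict_ι π₁ N₁)).trans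
        (Category.assoc _ _ _))))
  have hs₂' : χ₂ ≫ qT = O₂.ι ≫ π₂ ≫ c₂ ≫ D₂.π :=
    (Category.assoc _ _ _).trans ((congrArg ((π₂ ∣_ N₂) ≫ ·) hφ₂).trans
      ((Category.assoc _ _ _).symm.trans ((congrArg (· ≫ c₂ ≫ D₂.π) (morphismRestrict_ι π₂ N₂)).trans
        (Category.assoc _ _ _))))
  obtain ⟨χ, hχ₁, hχ₂⟩ := Groth.L19.Approx.exists_glue O₁ O₂ hOcov χ₁ χ₂ (by
    refine hom_ext_of_schDominant l qT ?_ ?_
    · simp only [χ₁, χ₂, reassoc_of% hl₁, reassoc_of% hl₂, ha₁, ha₂]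
    · refine ((Category.assoc _ _ _).trans ((congrArg (_ ≫ ·) hs₁').trans ?_)).trans
        ((Category.assoc _ _ _).trans (congrArg (_ ≫ ·) hs₂')).symm
      rw [← hπc, Scheme.homOfLE_ι_assoc, Scheme.homOfLE_ι_assoc])
  have hχ : χ ≫ qT = π₁ ≫ c₁ ≫ D₁.π := by
    refine Scheme.Cover.hom_ext (m.image.openCoverOfIsOpenCover (fun i : Bool => cond i O₁ O₂) (by
      exact TopologicalSpace.IsOpenCover.mk (top_le_iff.1 (hOcov.ge.trans
        (sup_le (le_iSup_of_le true le_rfl) (le_iSup_of_le false le_rfl)))))) _ _ ?_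
    intro i
    cases i
    · show O₂.ι ≫ χ ≫ qT = O₂.ι ≫ π₁ ≫ c₁ ≫ D₁.π
      rw [reassoc_of% hχ₂, hs₂', hπc]
    · show O₁.ι ≫ χ ≫ qT = O₁.ι ≫ π₁ ≫ c₁ ≫ D₁.π
      rw [reassoc_of% hχ₁, hs₁']
  haveI : IsProper (χ ≫ qT) := by rw [hχ]; infer_instance
  -- the parts off the other open
  let C₁ : Closeds P₁' := ⟨closure (o₁' '' ((D₁.q ⁻¹ᵁ V₂ : D₁.Xm.Opens) : Set D₁.Xm)ᶜ), isClosed_closure⟩
  let C₂ : Closeds P₂' := ⟨closure (o₂' '' ((D₂.q ⁻¹ᵁ V₁ : D₂.Xm.Opens) : Set D₂.Xm)ᶜ), isClosed_closure⟩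
  obtain ⟨A₁, α₁, hα₁, hA₁m⟩ := exists_proper_piece (c₁ ≫ D₁.π) qT N₁ φ₁ hφ₁ C₁
    fun y hy => hK₁ (Or.inl (Or.inr (bad_blow D₁ c₁ o₁' ho₁' V₂ hy)))
  obtain ⟨A₂, α₂, hα₂, hA₂m⟩ := exists_proper_piece (c₂ ≫ D₂.π) qT N₂ φ₂ hφ₂ C₂
    fun y hy => hK₂ (Or.inl (Or.inr (bad_blow D₂ c₂ o₂' ho₂' V₁ hy)))
  haveI : IsProper (coprod.desc (α₁ ≫ qT) (α₂ ≫ qT)) := Groth.L28.VTop.isProper_coprodDesc _ _
  haveI : IsProper (coprod.desc (χ ≫ qT) (coprod.desc (α₁ ≫ qT) (α₂ ≫ qT))) := Groth.L28.VTop.isProper_coprodDesc _ _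
  let χA : m.image ⨿ (A₁ ⨿ A₂) ⟶ T := coprod.desc χ (coprod.desc α₁ α₂)
  haveI : IsProper (χA ≫ qT) := by
    have e : χA ≫ qT = coprod.desc (χ ≫ qT) (coprod.desc (α₁ ≫ qT) (α₂ ≫ qT)) := by
      simp only [χA, coprod.desc_comp]
    rw [e]; infer_instance
  haveI : IsProper χA := IsProper.of_comp χA qT
  have hsub : Set.range j ⊆ Set.range χA := by
    rintro _ ⟨x, rfl⟩
    by_cases h2 : x ∈ V₂
    · by_cases h1 : x ∈ V₁
      · let x' : ((V₁ ⊓ V₂ : X.Opens) : Scheme.{u}) := ⟨x, h1, h2⟩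
        refine ⟨(coprod.inl : m.image ⟶ m.image ⨿ (A₁ ⨿ A₂)) (m.toImage x'), ?_⟩
        rw [← Scheme.Hom.comp_apply, coprod.inl_desc, ← Scheme.Hom.comp_apply]
        have e : m.toImage ≫ χ = (V₁ ⊓ V₂).ι ≫ j := by
          rw [← hl, Category.assoc, ← Scheme.homOfLE_ι m.image (inf_le_left : O₁ ⊓ O₂ ≤ O₁), Category.assoc, hχ₁]
          simp only [χ₁, reassoc_of% hl₁, ha₁]
        rw [e, Scheme.Hom.comp_apply]; rfl
      · obtain ⟨a, ha⟩ := hA₂m (v₂' ⟨x, h2⟩) (by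
          rw [← Scheme.Hom.comp_apply, hv₂', Scheme.Hom.comp_apply]
          refine subset_closure ⟨_, ?_, rfl⟩
          show ¬ D₂.q (t₂ ⟨x, h2⟩) ∈ V₁
          rw [← Scheme.Hom.comp_apply, ht₂]
          exact h1)
        refine ⟨(coprod.inr : A₁ ⨿ A₂ ⟶ m.image ⨿ (A₁ ⨿ A₂)) ((coprod.inr : A₂ ⟶ A₁ ⨿ A₂) a), ?_⟩
        rw [← Scheme.Hom.comp_apply, coprod.inr_desc, ← Scheme.Hom.comp_apply, coprod.inr_desc, ha,
          ← Scheme.Hom.comp_apply, hvφ₂, Scheme.Hom.comp_apply]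
        rfl
    · have h1 : x ∈ V₁ := by
        rcases TopologicalSpace.Opens.mem_sup.1 (show x ∈ V₁ ⊔ V₂ by rw [hcov]; trivial) with h | h
        exacts [h, absurd h h2]
      obtain ⟨a, ha⟩ := hA₁m (v₁' ⟨x, h1⟩) (by
          rw [← Scheme.Hom.comp_apply, hv₁', Scheme.Hom.comp_apply]
          refine subset_closure ⟨_, ?_, rfl⟩
          show ¬ D₁.q (t₁ ⟨x, h1⟩) ∈ V₂
          rw [← Scheme.Hom.comp_apply, ht₁]
          exact h2)
      refine ⟨(coprod.inr : A₁ ⨿ A₂ ⟶ m.image ⨿ (A₁ ⨿ A₂)) ((coprod.inl : A₁ ⟶ A₁ ⨿ A₂) a), ?_⟩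
      rw [← Scheme.Hom.comp_apply, coprod.inr_desc, ← Scheme.Hom.comp_apply, coprod.inl_desc, ha,
        ← Scheme.Hom.comp_apply, hvφ₁, Scheme.Hom.comp_apply]
      rfl
  -- the closure
  haveI : QuasiSeparated qT := inferInstance
  haveI : QuasiCompact (j ≫ qT) := by rw [hj]; infer_instance
  haveI : QuasiCompact j := QuasiCompact.of_comp j qT
  obtain ⟨hjo, -⟩ := toImage_openImmersion j j.opensRange j.isoOpensRange.hom (Scheme.Hom.isoOpensRange_hom_ι j)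
  haveI := hjo
  refine ⟨j.image, j.toImage, j.imageι ≫ qT, inferInstance, inferInstance, ?_, by
    rw [Scheme.Hom.toImage_imageι_assoc, hj]⟩
  let r := pullback.snd χA j.imageι
  haveI : Surjective r := ⟨fun z => by
    have hz : j.imageι z ∈ closure (Set.range j) := by
      rw [← Scheme.Hom.support_ker]
      have h : Set.range j.imageι = (j.ker.support : Set _) := Scheme.IdealSheafData.range_subschemeι _
      exact h.subset ⟨z, rfl⟩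
    obtain ⟨a, ha⟩ := closure_minimal hsub χA.isClosedMap.isClosed_range hz
    obtain ⟨y, -, hy⟩ := Scheme.Pullback.exists_preimage_pullback a z ha
    exact ⟨y, hy⟩⟩
  haveI : IsClosedImmersion (pullback.fst χA j.imageι) := MorphismProperty.pullback_fst _ _ inferInstance
  haveI : UniversallyClosed (r ≫ j.imageι ≫ qT) := by
    rw [← pullback.condition_assoc]; infer_instance
  haveI : UniversallyClosed (j.imageι ≫ qT) := UniversallyClosed.of_comp_surjective r _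
  exact ⟨⟩

end Groth.L13.Nagata
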