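import Groth.Agent.L13.Nagata.Image
import Groth.Agent.L13.Nagata.Glue
import Groth.Agent.L06.BlowComp.Main

/-!
# Common admissible blow-ups of two schemes containing the same open
-/

set_option autoImplicit false
set_option linter.style.haveILetI false
set_option backward.isDefEq.respectTransparency.types false

universe u

open CategoryTheory CategoryTheory.Limits AlgebraicGeometry TopologicalSpace

noncomputable section

namespace Groth.L13.Nagata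

variable {U T X S : Scheme.{u}}

/-- An open section of a separated morphism with dense image has full preimage. -/
theorem preimage_range_of_section (p : T ⟶ X) [IsSeparated p] (j : U ⟶ X) [IsOpenImmersion j] (t : U ⟶ T)
    [IsOpenImmersion t] [IsDominant t] (ht : t ≫ p = j) : p ⁻¹ᵁ j.opensRange = t.opensRange := by
  refine le_antisymm (fun z hz => ?_) ?_
  · let u : U ⟶ (p ⁻¹ᵁ j.opensRange : T.Opens) := IsOpenImmersion.lift (p ⁻¹ᵁ j.opensRange).ι t (by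
      rw [Scheme.Opens.range_ι]
      rintro _ ⟨x, rfl⟩
      exact ⟨x, (congrArg (fun φ : U ⟶ X => φ x) ht).symm⟩)
    have hu : u ≫ (p ⁻¹ᵁ j.opensRange).ι = t := IsOpenImmersion.lift_fac _ _ _
    have e : u ≫ (p ∣_ j.opensRange) = j.isoOpensRange.hom := by
      rw [← cancel_mono j.opensRange.ι, Category.assoc, morphismRestrict_ι, reassoc_of% hu, ht,
        Scheme.Hom.isoOpensRange_hom_ι]
    haveI : IsClosedImmersion (u ≫ (p ∣_ j.opensRange)) := by rw [e]; infer_instance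
    haveI : IsClosedImmersion u := IsClosedImmersion.of_comp u (p ∣_ j.opensRange)
    have hcl : IsClosed (Set.range u) := u.isClosedEmbedding.isClosed_range
    by_contra hcon
    obtain ⟨F, hF, hFe⟩ := isClosed_induced_iff.1 hcl
    have hzF : z ∉ F := fun h => by
      have : (⟨z, hz⟩ : (p ⁻¹ᵁ j.opensRange : T.Opens)) ∈ Set.range u := hFe.subset h
      obtain ⟨x, hx⟩ := this
      exact hcon ⟨x, by rw [← hu, Scheme.Hom.comp_apply, hx]; rfl⟩
    obtain ⟨_, ⟨hw1, hw2⟩, x, rfl⟩ := t.denseRange.inter_open_nonempty _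
      ((p ⁻¹ᵁ j.opensRange).2.inter hF.isOpen_compl) ⟨z, hz, hzF⟩
    refine hw2 ?_
    have h3 : (p ⁻¹ᵁ j.opensRange).ι (u x) ∈ F := hFe.symm.subset ⟨x, rfl⟩
    rw [← Scheme.Hom.comp_apply, hu] at h3
    exact h3
  · rintro _ ⟨x, rfl⟩
    exact ⟨x, (congrArg (fun φ : U ⟶ X => φ x) ht).symm⟩

/-- After a blow-up making `p` an open immersion, a further blow-up of the source extends to the base. -/
theorem exists_extend_piece [CompactSpace X] [QuasiSeparatedSpace X] (p : T ⟶ X) [IsSeparated p]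
    [QuasiCompact p] [LocallyOfFiniteType p] (V : X.Opens) (hV : IsCompact (V : Set X))
    (J : X.IdealSheafData) (hJ : BlowUp.IsAdmissibleFor V J) (hgood : Good p J)
    (B : T.IdealSheafData) (hB : BlowUp.IsAdmissibleFor (p ⁻¹ᵁ V) B) :
    ∃ (K : X.IdealSheafData) (X' T' : Scheme.{u}) (b : X' ⟶ X) (c : T' ⟶ T) (h : T' ⟶ X'),
      BlowUp.IsBlowUp b K ∧ BlowUp.IsAdmissibleFor V K ∧ BlowUp.IsBlowUp c (J.comap p * B) ∧
      IsOpenImmersion h ∧ h ≫ b = c ≫ p := by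
  obtain ⟨X1, b1, hb1⟩ := Groth.L13.BU.exists_isBlowUp J
  obtain ⟨T1, c1, hc1⟩ := Groth.L13.BU.exists_isBlowUp (J.comap p)
  obtain ⟨h1, hh1, -⟩ := hb1.2 T1 (c1 ≫ p) (by rw [Scheme.IdealSheafData.comap_comp]; exact hc1.1)
  have hh1 : h1 ≫ b1 = c1 ≫ p := hh1
  haveI := hgood b1 c1 hb1 hc1 h1 hh1
  haveI := Groth.L13.BU.isProper_blowUp hb1 hJ.1
  haveI := Groth.L13.BU.isProper_blowUp hc1 (isFiniteType_comap hJ.1 p)
  haveI : CompactSpace X1 := QuasiCompact.compactSpace_of_compactSpace b1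
  haveI : QuasiSeparatedSpace X1 := quasiSeparatedSpace_of_quasiSeparated b1
  haveI : CompactSpace T := QuasiCompact.compactSpace_of_compactSpace p
  haveI : CompactSpace T1 := QuasiCompact.compactSpace_of_compactSpace c1
  have hadm : BlowUp.IsAdmissibleFor (h1.opensRange.ι ⁻¹ᵁ (b1 ⁻¹ᵁ V))
      ((B.comap c1).comap h1.isoOpensRange.inv) := by
    have h := admissible_comap (admissible_comap hB c1) h1.isoOpensRange.inv
    refine admissible_mono h fun z hz => ?_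
    show p (c1 (h1.isoOpensRange.inv z)) ∈ V
    rw [← Scheme.Hom.comp_apply c1, ← hh1, ← Scheme.Hom.comp_apply, Scheme.Hom.isoOpensRange_inv_comp_assoc,
      Scheme.Hom.comp_apply]
    exact hz
  obtain ⟨K1, hK1, hK1e, -⟩ := Groth.Agent.S8857.result X1 (b1 ⁻¹ᵁ V) h1.opensRange
    (b1.isCompact_preimage hV) (isCompact_range h1.continuous) _ hadm
  have hK1' : K1.comap h1 = B.comap c1 := by
    have e : h1 = h1.isoOpensRange.hom ≫ h1.opensRange.ι := (Scheme.Hom.isoOpensRange_hom_ι h1).symm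
    conv_lhs => rw [e]
    rw [Scheme.IdealSheafData.comap_comp, hK1e, ← Scheme.IdealSheafData.comap_comp, Iso.hom_inv_id,
      Scheme.IdealSheafData.comap_id]
  obtain ⟨X2, e1, he1⟩ := Groth.L13.BU.exists_isBlowUp K1
  obtain ⟨K, hK, hKs, hKb⟩ := Groth.L06.BlowComp.exists_isBlowUp_comp hb1 hJ.1 hK1.1 he1
  have hKadm : BlowUp.IsAdmissibleFor V K := by
    refine ⟨hK, Set.disjoint_left.2 fun x hx hxV => ?_⟩
    rw [hKs] at hx
    rcases hx with hx | ⟨y, hy, rfl⟩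
    · exact Set.disjoint_left.1 hJ.2 hx hxV
    · exact Set.disjoint_left.1 hK1.2 hy hxV
  have hk : BlowUp.IsBlowUp (pullback.fst h1 e1) (B.comap c1) := hK1' ▸ Groth.L13.BU.isBlowUp_pullback h1 he1
  haveI : IsOpenImmersion (pullback.snd h1 e1) := MorphismProperty.pullback_snd _ _ inferInstance
  exact ⟨K, X2, _, e1 ≫ b1, pullback.fst h1 e1 ≫ c1, pullback.snd h1 e1, hKb, hKadm,
    isBlowUp_comp_mul hc1 hk, inferInstance, by rw [← pullback.condition_assoc, hh1, Category.assoc]⟩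

/-- Two schemes containing the same open embed compatibly, after admissible blow-ups, into a separated
scheme. -/
theorem exists_common_target [CompactSpace S] [QuasiSeparatedSpace S] {X₁ X₂ : Scheme.{u}}
    (gU : U ⟶ S) (g₁ : X₁ ⟶ S) (g₂ : X₂ ⟶ S) [QuasiCompact gU]
    [IsSeparated g₁] [LocallyOfFiniteType g₁] [QuasiCompact g₁]
    [IsSeparated g₂] [LocallyOfFiniteType g₂] [QuasiCompact g₂]
    (j₁ : U ⟶ X₁) (j₂ : U ⟶ X₂) [IsOpenImmersion j₁] [IsOpenImmersion j₂]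
    (hj₁ : j₁ ≫ g₁ = gU) (hj₂ : j₂ ≫ g₂ = gU) :
    ∃ (X : Scheme.{u}) (q : X ⟶ S) (_ : IsSeparated q) (_ : LocallyOfFiniteType q) (_ : QuasiCompact q)
      (𝓘₁ : X₁.IdealSheafData) (𝓘₂ : X₂.IdealSheafData) (X₁' X₂' : Scheme.{u}) (b₁ : X₁' ⟶ X₁) (b₂ : X₂' ⟶ X₂)
      (o₁ : X₁' ⟶ X) (o₂ : X₂' ⟶ X) (u₁ : U ⟶ X₁') (u₂ : U ⟶ X₂'),
      BlowUp.IsBlowUp b₁ 𝓘₁ ∧ BlowUp.IsAdmissibleFor j₁.opensRange 𝓘₁ ∧
      BlowUp.IsBlowUp b₂ 𝓘₂ ∧ BlowUp.IsAdmissibleFor j₂.opensRange 𝓘₂ ∧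
      IsOpenImmersion o₁ ∧ IsOpenImmersion o₂ ∧ o₁ ≫ q = b₁ ≫ g₁ ∧ o₂ ≫ q = b₂ ≫ g₂ ∧
      u₁ ≫ b₁ = j₁ ∧ u₂ ≫ b₂ = j₂ ∧ u₁ ≫ o₁ = u₂ ≫ o₂ ∧
      (∀ w : X, (∃ x, o₁ x = w) ∨ ∃ y, o₂ y = w) := by
  haveI : CompactSpace U := QuasiCompact.compactSpace_of_compactSpace gU
  haveI : CompactSpace X₁ := QuasiCompact.compactSpace_of_compactSpace g₁
  haveI : CompactSpace X₂ := QuasiCompact.compactSpace_of_compactSpace g₂
  haveI : QuasiSeparatedSpace X₁ := quasiSeparatedSpace_of_quasiSeparated g₁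
  haveI : QuasiSeparatedSpace X₂ := quasiSeparatedSpace_of_quasiSeparated g₂
  obtain ⟨T, i, t, hi, ht, htd, htq, h1, h2, -, -⟩ := exists_graphClosure g₁ g₂ j₁ j₂ (hj₁.trans hj₂.symm)
  let p₁ := i ≫ pullback.fst g₁ g₂
  let p₂ := i ≫ pullback.snd g₁ g₂
  haveI : IsSeparated (pullback.fst g₁ g₂) := MorphismProperty.pullback_fst _ _ inferInstance
  haveI : IsSeparated (pullback.snd g₁ g₂) := MorphismProperty.pullback_snd _ _ inferInstance
  haveI : IsDominant t := inferInstance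
  have hp₁ : p₁ ⁻¹ᵁ j₁.opensRange = t.opensRange := preimage_range_of_section p₁ j₁ t h1
  have hp₂ : p₂ ⁻¹ᵁ j₂.opensRange = t.opensRange := preimage_range_of_section p₂ j₂ t h2
  haveI : IsIso (p₁ ∣_ j₁.opensRange) := isIso_restrict_of_section p₁ j₁ t h1 hp₁.le
  haveI : IsIso (p₂ ∣_ j₂.opensRange) := isIso_restrict_of_section p₂ j₂ t h2 hp₂.le
  have hV₁ : IsCompact (j₁.opensRange : Set X₁) := isCompact_range j₁.continuous
  have hV₂ : IsCompact (j₂.opensRange : Set X₂) := isCompact_range j₂.continuous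
  obtain ⟨J₁, hJ₁, -, hg₁⟩ := exists_good p₁ j₁.opensRange hV₁
  obtain ⟨J₂, hJ₂, -, hg₂⟩ := exists_good p₂ j₂.opensRange hV₂
  have hB₂ : BlowUp.IsAdmissibleFor (p₁ ⁻¹ᵁ j₁.opensRange) (J₂.comap p₂) := by
    rw [hp₁, ← hp₂]; exact admissible_comap hJ₂ p₂
  have hB₁ : BlowUp.IsAdmissibleFor (p₂ ⁻¹ᵁ j₂.opensRange) (J₁.comap p₁) := by
    rw [hp₂, ← hp₁]; exact admissible_comap hJ₁ p₁
  obtain ⟨K₁, X₁', T', b₁, c, o₁', hb₁, hK₁, hc, ho₁, e₁⟩ :=
    exists_extend_piece p₁ _ hV₁ J₁ hJ₁ hg₁ _ hB₂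
  obtain ⟨K₂, X₂', T'', b₂, c', o₂', hb₂, hK₂, hc', ho₂, e₂⟩ :=
    exists_extend_piece p₂ _ hV₂ J₂ hJ₂ hg₂ _ hB₁
  rw [mul_comm] at hc'
  obtain ⟨w, hw, -⟩ := hc'.2 T' c hc.1
  have hw : w ≫ c' = c := hw
  haveI := Groth.L13.BU.isIso_of_blowUps hc' hc w hw
  have hadmT : BlowUp.IsAdmissibleFor t.opensRange (J₁.comap p₁ * J₂.comap p₂) :=
    admissible_mul (hp₁ ▸ admissible_comap hJ₁ p₁) (hp₂ ▸ admissible_comap hJ₂ p₂)
  haveI := Groth.L13.BU.isProper_blowUp hc hadmT.1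
  haveI := Groth.L13.BU.isProper_blowUp hb₁ hK₁.1
  haveI := Groth.L13.BU.isProper_blowUp hb₂ hK₂.1
  have hsq : o₁' ≫ b₁ ≫ g₁ = (w ≫ o₂') ≫ b₂ ≫ g₂ := by
    calc o₁' ≫ b₁ ≫ g₁ = c ≫ p₁ ≫ g₁ := by rw [reassoc_of% e₁]
      _ = c ≫ p₂ ≫ g₂ := by simp only [p₁, p₂, Category.assoc, pullback.condition]
      _ = w ≫ c' ≫ p₂ ≫ g₂ := by rw [reassoc_of% hw]
      _ = (w ≫ o₂') ≫ b₂ ≫ g₂ := by
        have e := congrArg (fun φ => w ≫ φ ≫ g₂) e₂
        simp only [Category.assoc] at e ⊢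
        exact e.symm
  let l := pullback.lift o₁' (w ≫ o₂') hsq
  let m : pullback (b₁ ≫ g₁) (b₂ ≫ g₂) ⟶ pullback g₁ g₂ :=
    pullback.map _ _ _ _ b₁ b₂ (𝟙 S) (Category.comp_id _) (Category.comp_id _)
  haveI : IsSeparated m := MorphismProperty.pullback_map (P := @IsSeparated) (inferInstanceAs (IsSeparated b₁)) (inferInstanceAs (IsSeparated b₂)) rfl rfl
  haveI : IsProper (l ≫ m) := by
    have e : l ≫ m = c ≫ i := by
      refine pullback.hom_ext ?_ ?_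
      · simp only [l, m, Category.assoc, pullback.lift_fst, pullback.lift_fst_assoc, e₁, p₁]
      · simp only [l, m, Category.assoc, pullback.lift_snd, pullback.lift_snd_assoc, e₂, p₂, reassoc_of% hw]
    rw [e]; infer_instance
  haveI : IsProper l := IsProper.of_comp l m
  haveI : Mono (l ≫ pullback.fst _ _) := by rw [pullback.lift_fst]; infer_instance
  haveI : Mono l := mono_of_mono l (pullback.fst _ _)
  haveI : IsClosedImmersion l := isClosedImmersion_of_proper_mono l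
  obtain ⟨X, q, iA, iB, hq1, hq2, hq3, hA, hB, hAB, hAq, hBq, hcov, -⟩ :=
    exists_glue_separated (b₁ ≫ g₁) (b₂ ≫ g₂) o₁' (w ≫ o₂') hsq
  obtain ⟨u, hu, -⟩ := hc.2 U t (by
    rw [Groth.L22.Ideals.comap_eq_top _ _ fun y hy => Set.disjoint_left.1 hadmT.2 hy ⟨y, rfl⟩]
    exact Groth.L22.Ideals.isEffCartier_top)
  have hu : u ≫ c = t := hu
  refine ⟨X, q, hq1, hq3, hq2, K₁, K₂, X₁', X₂', b₁, b₂, iA, iB, u ≫ o₁', u ≫ w ≫ o₂', hb₁, hK₁, hb₂, hK₂,
    hA, hB, hAq, hBq, ?_, ?_, ?_, hcov⟩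
  · rw [Category.assoc, e₁, reassoc_of% hu]; exact h1
  · rw [Category.assoc, Category.assoc, e₂, reassoc_of% hw, reassoc_of% hu]; exact h2
  · simp only [Category.assoc] at hAB ⊢; rw [hAB]

end Groth.L13.Nagata
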