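import Groth.Agent.L13.Nagata.Piece

/-!
# Separation in a product of two pieces
-/

set_option autoImplicit false
set_option linter.style.haveILetI false
set_option backward.isDefEq.respectTransparency.types false

universe u

open CategoryTheory CategoryTheory.Limits AlgebraicGeometry TopologicalSpace
open Groth.L13.MP Groth.L20.StrictSep

noncomputable section

namespace Groth.L13.Nagata

variable {X S : Scheme.{u}}

/-- Sections of a piece over opens inside `V`. -/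
theorem Piece.exists_section {g : X ⟶ S} {V : X.Opens} (D : Piece g V) (U : X.Opens) (hU : U ≤ V) :
    ∃ t : (U : Scheme.{u}) ⟶ D.Xm, IsOpenImmersion t ∧ t ≫ D.q = U.ι ∧
      ((D.q ⁻¹ᵁ U : D.Xm.Opens) : Set D.Xm) = Set.range t := by
  let t := X.homOfLE hU ≫ inv (D.q ∣_ V) ≫ (D.q ⁻¹ᵁ V).ι
  have ht : t ≫ D.q = U.ι := by
    simp only [t, Category.assoc]
    rw [← morphismRestrict_ι, IsIso.inv_hom_id_assoc, Scheme.homOfLE_ι]
  refine ⟨t, inferInstance, ht, Set.Subset.antisymm (fun z hz => ?_) ?_⟩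
  · have hzV : z ∈ D.q ⁻¹ᵁ V := hU hz
    refine ⟨⟨D.q z, hz⟩, ?_⟩
    simp only [t, Scheme.Hom.comp_apply]
    have h1 : X.homOfLE hU ⟨D.q z, hz⟩ = (D.q ∣_ V) ⟨z, hzV⟩ := by
      refine Subtype.ext ?_
      rw [morphismRestrict_base_coe]
      exact congrArg (fun φ : (U : Scheme.{u}) ⟶ X => φ ⟨D.q z, hz⟩) (X.homOfLE_ι hU)
    rw [h1, ← Scheme.Hom.comp_apply, ← Scheme.Hom.comp_apply, IsIso.hom_inv_id_assoc]
    rfl
  · rintro _ ⟨x, rfl⟩
    show D.q (t x) ∈ U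
    rw [← Scheme.Hom.comp_apply, ht]
    exact x.2

/-- On the closure of the common part, lying in one open part means lying in both, over the same point. -/
theorem exists_over_same_point {g : X ⟶ S} [IsSeparated g] {V₁ V₂ : X.Opens} (D₁ : Piece g V₁) (D₂ : Piece g V₂)
    {U : Scheme.{u}} (t₁ : U ⟶ D₁.Xm) (t₂ : U ⟶ D₂.Xm) (h : t₁ ≫ D₁.q = t₂ ≫ D₂.q)
    (w : (t₁ ≫ D₁.o) ≫ D₁.π = (t₂ ≫ D₂.o) ≫ D₂.π) (z : (pullback D₁.π D₂.π : Scheme.{u}))
    (hz : z ∈ closure (Set.range (pullback.lift (t₁ ≫ D₁.o) (t₂ ≫ D₂.o) w)))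
    {y₁ : D₁.Xm} (hy₁ : D₁.o y₁ = pullback.fst D₁.π D₂.π z) :
    ∃ y₂ : D₂.Xm, D₂.o y₂ = pullback.snd D₁.π D₂.π z ∧ D₂.q y₂ = D₁.q y₁ := by
  set u := pullback.lift (t₁ ≫ D₁.o) (t₂ ≫ D₂.o) w
  let O := pullback.fst D₁.π D₂.π ⁻¹ᵁ D₁.o.opensRange
  let r : (O : Scheme.{u}) ⟶ D₁.Xm := IsOpenImmersion.lift D₁.o (O.ι ≫ pullback.fst D₁.π D₂.π) (by
    rintro _ ⟨a, rfl⟩
    exact a.2)
  have hr : r ≫ D₁.o = O.ι ≫ pullback.fst D₁.π D₂.π := IsOpenImmersion.lift_fac _ _ _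
  let Φ : (O : Scheme.{u}) ⟶ pullback D₂.π g :=
    pullback.lift (O.ι ≫ pullback.snd D₁.π D₂.π) (r ≫ D₁.q) (by
      rw [Category.assoc, Category.assoc, ← pullback.condition, D₁.comm, ← Category.assoc r, hr, Category.assoc])
  let d : D₂.Xm ⟶ pullback D₂.π g := pullback.lift D₂.o D₂.q D₂.comm.symm
  haveI : IsProper (d ≫ pullback.snd D₂.π g) := by rw [pullback.lift_snd]; infer_instance
  haveI : IsProper d := IsProper.of_comp d (pullback.snd D₂.π g)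
  have hR : IsClosed (Set.range (fun x => d x)) := d.isClosedMap.isClosed_range
  have hsub : closure (Subtype.val ⁻¹' Set.range u) ⊆ (fun a : O => Φ a) ⁻¹' Set.range (fun x => d x) := by
    refine closure_minimal ?_ (hR.preimage Φ.continuous)
    rintro a ⟨x, hx⟩
    refine ⟨t₂ x, ?_⟩
    let s : U ⟶ O := IsOpenImmersion.lift O.ι u (by
      rw [Scheme.Opens.range_ι]
      rintro _ ⟨y, rfl⟩
      show pullback.fst D₁.π D₂.π (u y) ∈ D₁.o.opensRange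
      rw [← Scheme.Hom.comp_apply, pullback.lift_fst]
      exact ⟨t₁ y, rfl⟩)
    have hs : s ≫ O.ι = u := IsOpenImmersion.lift_fac _ _ _
    have hsa : s x = a := O.ι.isOpenEmbedding.injective (by rw [← Scheme.Hom.comp_apply, hs]; exact hx)
    have hsr : s ≫ r = t₁ := (cancel_mono D₁.o).1 (by
      rw [Category.assoc, hr, reassoc_of% hs]; exact pullback.lift_fst _ _ _)
    have e : t₂ ≫ d = s ≫ Φ := by
      apply pullback.hom_ext
      · simp only [Category.assoc, d, Φ, pullback.lift_fst]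
        rw [reassoc_of% hs]
        exact (pullback.lift_snd _ _ _).symm
      · simp only [Category.assoc, d, Φ, pullback.lift_snd]
        rw [reassoc_of% hsr, h]
    show d (t₂ x) = Φ a
    rw [← Scheme.Hom.comp_apply, e, Scheme.Hom.comp_apply, hsa]
  have hzi : z ∈ O := ⟨y₁, hy₁⟩
  have hzO : (⟨z, hzi⟩ : O) ∈ closure (Subtype.val ⁻¹' Set.range u) :=
    (O.2.isOpenEmbedding_subtypeVal.isOpenMap.preimage_closure_eq_closure_preimage
      continuous_subtype_val _).subset hz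
  obtain ⟨y, hy⟩ := hsub hzO
  refine ⟨y, ?_, ?_⟩
  · have h1 := congrArg (fun a => pullback.fst D₂.π g a) hy
    simp only [d, Φ, ← Scheme.Hom.comp_apply, pullback.lift_fst] at h1
    exact h1
  · have h1 := congrArg (fun a => pullback.snd D₂.π g a) hy
    simp only [d, Φ, ← Scheme.Hom.comp_apply, pullback.lift_snd] at h1
    rw [Scheme.Hom.comp_apply] at h1
    rw [h1]
    have hry : r ⟨z, hzi⟩ = y₁ := D₁.o.isOpenEmbedding.injective (by
      rw [← Scheme.Hom.comp_apply, hr, hy₁]; rfl)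
    rw [hry]

/-- After admissible blow-ups the closures of the parts outside `G₁` and `G₂` do not meet on the closure
of the common part. -/
theorem exists_product_separation {P₁ P₂ W₁ W₂ U : Scheme.{u}} [CompactSpace S] [QuasiSeparatedSpace S]
    (π₁ : P₁ ⟶ S) (π₂ : P₂ ⟶ S) [IsProper π₁] [IsProper π₂] (o₁ : W₁ ⟶ P₁) (o₂ : W₂ ⟶ P₂)
    [IsOpenImmersion o₁] [IsOpenImmersion o₂] [QuasiCompact o₁] [QuasiCompact o₂]
    (G₁ : W₁.Opens) (G₂ : W₂.Opens) (hG₁ : IsCompact (G₁ : Set W₁)) (hG₂ : IsCompact (G₂ : Set W₂))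
    (u : U ⟶ pullback π₁ π₂) (hu₁ : ∀ x, pullback.fst π₁ π₂ (u x) ∈ o₁.opensRange)
    (h12 : ∀ z ∈ closure (Set.range u),
      (pullback.fst π₁ π₂ z ∈ o₁.opensRange → pullback.snd π₁ π₂ z ∈ o₂.opensRange) ∧
      (pullback.snd π₁ π₂ z ∈ o₂.opensRange → pullback.fst π₁ π₂ z ∈ o₁.opensRange))
    (hempty : ∀ z ∈ closure (Set.range u), ∀ y₁ y₂, o₁ y₁ = pullback.fst π₁ π₂ z →
      o₂ y₂ = pullback.snd π₁ π₂ z → y₁ ∈ G₁ ∨ y₂ ∈ G₂) :
    ∃ (E₁ : P₁.IdealSheafData) (E₂ : P₂.IdealSheafData) (P₁' P₂' : Scheme.{u}) (c₁ : P₁' ⟶ P₁) (c₂ : P₂' ⟶ P₂),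
      BlowUp.IsBlowUp c₁ E₁ ∧ BlowUp.IsAdmissibleFor o₁.opensRange E₁ ∧
      BlowUp.IsBlowUp c₂ E₂ ∧ BlowUp.IsAdmissibleFor o₂.opensRange E₂ ∧
      ∀ (u' : U ⟶ pullback (c₁ ≫ π₁) (c₂ ≫ π₂)),
        u' ≫ pullback.map (c₁ ≫ π₁) (c₂ ≫ π₂) π₁ π₂ c₁ c₂ (𝟙 S) (Category.comp_id _) (Category.comp_id _) = u →
        ∀ z ∈ closure (Set.range u'),
          pullback.fst (c₁ ≫ π₁) (c₂ ≫ π₂) z ∈ closure (c₁ ⁻¹' (o₁ '' (G₁ : Set W₁)ᶜ)) →
          pullback.snd (c₁ ≫ π₁) (c₂ ≫ π₂) z ∈ closure (c₂ ⁻¹' (o₂ '' (G₂ : Set W₂)ᶜ)) → False := by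
  haveI : CompactSpace P₁ := QuasiCompact.compactSpace_of_compactSpace π₁
  haveI : QuasiSeparatedSpace P₁ := quasiSeparatedSpace_of_quasiSeparated π₁
  haveI : CompactSpace P₂ := QuasiCompact.compactSpace_of_compactSpace π₂
  haveI : QuasiSeparatedSpace P₂ := quasiSeparatedSpace_of_quasiSeparated π₂
  haveI : CompactSpace W₁ := QuasiCompact.compactSpace_of_compactSpace o₁
  haveI : CompactSpace W₂ := QuasiCompact.compactSpace_of_compactSpace o₂
  haveI : QuasiCompact (pullback.fst π₁ π₂) := MorphismProperty.pullback_fst _ _ inferInstance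
  haveI : QuasiCompact (pullback.snd π₁ π₂) := MorphismProperty.pullback_snd _ _ inferInstance
  obtain ⟨I₁, hI₁, hs₁⟩ := exists_ideal_image o₁ G₁ hG₁
  obtain ⟨I₂, hI₂, hs₂⟩ := exists_ideal_image o₂ G₂ hG₂
  obtain ⟨J₁, hJ₁, hJs₁⟩ := exists_compl_ideal o₁.opensRange (isCompact_range o₁.continuous)
  obtain ⟨J₂, hJ₂, hJs₂⟩ := exists_compl_ideal o₂.opensRange (isCompact_range o₂.continuous)
  let C : Closeds (pullback π₁ π₂ : Scheme.{u}) := Closeds.closure (Set.range u)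
  let N : (pullback π₁ π₂ : Scheme.{u}).IdealSheafData := Scheme.IdealSheafData.vanishingIdeal C
  set B := I₁.comap (pullback.fst π₁ π₂) ⊔ I₂.comap (pullback.snd π₁ π₂) ⊔ N with hB
  have hBs : ∀ z ∈ B.support, pullback.fst π₁ π₂ z ∉ o₁.opensRange ∧ pullback.snd π₁ π₂ z ∉ o₂.opensRange := by
    intro z hz
    rw [hB, Scheme.IdealSheafData.support_sup, Scheme.IdealSheafData.support_sup,
      Scheme.IdealSheafData.support_comap, Scheme.IdealSheafData.support_comap] at hz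
    have hzC : z ∈ closure (Set.range u) := hz.2
    have key : pullback.fst π₁ π₂ z ∈ o₁.opensRange → False := by
      intro h
      obtain ⟨y₁, hy₁⟩ := h
      obtain ⟨y₂, hy₂⟩ := (h12 z hzC).1 ⟨y₁, hy₁⟩
      have m1 : pullback.fst π₁ π₂ z ∈ I₁.support := hz.1.1
      have m2 : pullback.snd π₁ π₂ z ∈ I₂.support := hz.1.2
      rw [← hy₁] at m1; rw [← hy₂] at m2
      exact (hempty z hzC y₁ y₂ hy₁ hy₂).elim ((hs₁ y₁).1 m1) ((hs₂ y₂).1 m2)
    exact ⟨key, fun h => key ((h12 z hzC).2 h)⟩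
  obtain ⟨n₁, hn₁⟩ : ∃ n, J₁ ^ (n + 1) ≤ B.map (pullback.fst π₁ π₂) := by
    refine exists_pow_le hJ₁ ?_
    rw [Scheme.IdealSheafData.support_map, hJs₁]
    refine closure_minimal ?_ o₁.opensRange.2.isClosed_compl
    rintro _ ⟨z, hz, rfl⟩
    exact (hBs z hz).1
  obtain ⟨n₂, hn₂⟩ : ∃ n, J₂ ^ (n + 1) ≤ B.map (pullback.snd π₁ π₂) := by
    refine exists_pow_le hJ₂ ?_
    rw [Scheme.IdealSheafData.support_map, hJs₂]
    refine closure_minimal ?_ o₂.opensRange.2.isClosed_compl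
    rintro _ ⟨z, hz, rfl⟩
    exact (hBs z hz).2
  have hadm : ∀ {P : Scheme.{u}} (R : P.Opens) (I J : P.IdealSheafData) (n : ℕ), BlowUp.IsFiniteTypeIdeal I →
      BlowUp.IsFiniteTypeIdeal J → (J.support : Set P) = (R : Set P)ᶜ →
      BlowUp.IsAdmissibleFor R (I ⊔ J ^ (n + 1)) := by
    intro P R I J n hI hJ hs
    refine ⟨fun V => (LocFG.sup (LocFG.of_fg hI) (LocFG.of_fg fun V => ?_)).fg V, ?_⟩
    · rw [Scheme.IdealSheafData.ideal_pow, Pi.pow_apply]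
      exact (hJ V).pow
    · refine Set.disjoint_left.2 fun x hx hx' => ?_
      have h1 := Scheme.IdealSheafData.support_antitone (le_sup_right : J ^ (n + 1) ≤ I ⊔ J ^ (n + 1)) hx
      rw [Scheme.IdealSheafData.support_pow_succ] at h1
      have h2 : x ∈ (J.support : Set P) := h1
      rw [hs] at h2
      exact h2 hx'
  let E₁ := I₁ ⊔ J₁ ^ (n₁ + 1)
  let E₂ := I₂ ⊔ J₂ ^ (n₂ + 1)
  have hE₁ : BlowUp.IsAdmissibleFor o₁.opensRange E₁ := hadm _ _ _ _ hI₁ hJ₁ hJs₁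
  have hE₂ : BlowUp.IsAdmissibleFor o₂.opensRange E₂ := hadm _ _ _ _ hI₂ hJ₂ hJs₂
  obtain ⟨P₁', c₁, hc₁⟩ := Groth.L13.BU.exists_isBlowUp E₁
  obtain ⟨P₂', c₂, hc₂⟩ := Groth.L13.BU.exists_isBlowUp E₂
  refine ⟨E₁, E₂, P₁', P₂', c₁, c₂, hc₁, hE₁, hc₂, hE₂, fun u' hu' z hz hz₁ hz₂ => ?_⟩
  let p₁ := pullback.fst (c₁ ≫ π₁) (c₂ ≫ π₂)
  let p₂ := pullback.snd (c₁ ≫ π₁) (c₂ ≫ π₂)
  set Φ := pullback.map (c₁ ≫ π₁) (c₂ ≫ π₂) π₁ π₂ c₁ c₂ (𝟙 S) (Category.comp_id _) (Category.comp_id _)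
  have hΦ₁ : Φ ≫ pullback.fst π₁ π₂ = p₁ ≫ c₁ := pullback.lift_fst _ _ _
  have hΦ₂ : Φ ≫ pullback.snd π₁ π₂ = p₂ ≫ c₂ := pullback.lift_snd _ _ _
  let K₁ := colon (I₁.comap c₁) (LocFG.of_isEffCartier hc₁.1)
  let K₂ := colon (I₂.comap c₂) (LocFG.of_isEffCartier hc₂.1)
  have hIE₁ : I₁.comap c₁ ≤ E₁.comap c₁ := Scheme.IdealSheafData.comap_mono c₁ le_sup_left
  have hIE₂ : I₂.comap c₂ ≤ E₂.comap c₂ := Scheme.IdealSheafData.comap_mono c₂ le_sup_left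
  let e₁ := (E₁.comap c₁).comap p₁
  let e₂ := (E₂.comap c₂).comap p₂
  let k := K₁.comap p₁ ⊔ K₂.comap p₂
  have hk₁ : (I₁.comap (pullback.fst π₁ π₂)).comap Φ ≤ k * (e₁ ⊔ e₂) := by
    rw [← Scheme.IdealSheafData.comap_comp, hΦ₁, Scheme.IdealSheafData.comap_comp,
      ← colon_mul hc₁.1 hIE₁, Groth.L22.Ideals.comap_mul]
    exact mul_mono' le_sup_left le_sup_left
  have hk₂ : (I₂.comap (pullback.snd π₁ π₂)).comap Φ ≤ k * (e₁ ⊔ e₂) := by
    rw [← Scheme.IdealSheafData.comap_comp, hΦ₂, Scheme.IdealSheafData.comap_comp,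
      ← colon_mul hc₂.1 hIE₂, Groth.L22.Ideals.comap_mul]
    exact mul_mono' le_sup_right le_sup_right
  have hBk : B.comap Φ ≤ k * (e₁ ⊔ e₂) ⊔ N.comap Φ := by
    rw [hB, Scheme.IdealSheafData.comap_sup, Scheme.IdealSheafData.comap_sup]
    exact sup_le ((sup_le hk₁ hk₂).trans le_sup_left) le_sup_right
  have hEB₁ : E₁.comap (pullback.fst π₁ π₂) ≤ B := by
    simp only [E₁, Scheme.IdealSheafData.comap_sup]
    exact sup_le (le_sup_left.trans le_sup_left)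
      ((Scheme.IdealSheafData.comap_mono _ hn₁).trans (Scheme.IdealSheafData.comap_map_le _ _))
  have hEB₂ : E₂.comap (pullback.snd π₁ π₂) ≤ B := by
    simp only [E₂, Scheme.IdealSheafData.comap_sup]
    exact sup_le (le_sup_right.trans le_sup_left)
      ((Scheme.IdealSheafData.comap_mono _ hn₂).trans (Scheme.IdealSheafData.comap_map_le _ _))
  have hle : e₁ ⊔ e₂ ≤ k * (e₁ ⊔ e₂) ⊔ N.comap Φ := by
    refine sup_le ?_ ?_
    · show (E₁.comap c₁).comap p₁ ≤ _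
      rw [← Scheme.IdealSheafData.comap_comp, ← hΦ₁, Scheme.IdealSheafData.comap_comp]
      exact (Scheme.IdealSheafData.comap_mono Φ hEB₁).trans hBk
    · show (E₂.comap c₂).comap p₂ ≤ _
      rw [← Scheme.IdealSheafData.comap_comp, ← hΦ₂, Scheme.IdealSheafData.comap_comp]
      exact (Scheme.IdealSheafData.comap_mono Φ hEB₂).trans hBk
  refine notMem_closure (LocFG.sup (LocFG.comap (LocFG.of_isEffCartier hc₁.1) p₁)
    (LocFG.comap (LocFG.of_isEffCartier hc₂.1) p₂)) hle (z := z) ?_ ?_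
  · have hcl : ∀ {P P' W : Scheme.{u}} (o : W ⟶ P) [IsOpenImmersion o] (G : W.Opens) (I : P.IdealSheafData)
        (E : P.IdealSheafData) (c : P' ⟶ P) (hc : BlowUp.IsBlowUp c E) (_ : I.comap c ≤ E.comap c)
        (_ : ∀ y, (o y ∈ I.support ↔ y ∉ G)) (_ : Disjoint (E.support : Set P) (o.opensRange : Set P)),
        closure (c ⁻¹' (o '' (G : Set W)ᶜ)) ⊆ ((colon (I.comap c) (LocFG.of_isEffCartier hc.1)).support : Set P') := by
      intro P P' W o _ G I E c hc hIE hs hd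
      refine (closure_mono ?_).trans (closure_subset_colon hc.1 hIE)
      rintro y ⟨a, ha, hay⟩
      simp only [Scheme.IdealSheafData.support_comap]
      refine ⟨?_, fun h => Set.disjoint_left.1 hd h ⟨a, hay⟩⟩
      show c y ∈ I.support
      rw [← hay]
      exact (hs a).2 ha
    simp only [k, Scheme.IdealSheafData.support_sup, Scheme.IdealSheafData.support_comap]
    exact ⟨hcl o₁ G₁ I₁ E₁ c₁ hc₁ hIE₁ hs₁ hE₁.2 hz₁, hcl o₂ G₂ I₂ E₂ c₂ hc₂ hIE₂ hs₂ hE₂.2 hz₂⟩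
  · refine closure_mono ?_ hz
    rintro _ ⟨x, rfl⟩
    refine ⟨?_, fun h => ?_⟩
    · rw [Scheme.IdealSheafData.support_comap]
      show Φ (u' x) ∈ N.support
      rw [← Scheme.Hom.comp_apply, hu']
      exact subset_closure ⟨x, rfl⟩
    · have h1 : u' x ∈ e₁.support := Scheme.IdealSheafData.support_antitone (le_sup_left : e₁ ≤ e₁ ⊔ e₂) h
      simp only [e₁, Scheme.IdealSheafData.support_comap] at h1
      have h2 : c₁ (p₁ (u' x)) ∈ (E₁.support : Set P₁) := h1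
      refine Set.disjoint_left.1 hE₁.2 h2 ?_
      rw [← Scheme.Hom.comp_apply p₁, ← hΦ₁, Scheme.Hom.comp_apply, ← Scheme.Hom.comp_apply u', hu']
      exact hu₁ x

end Groth.L13.Nagata
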