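import Groth.Agent.L13.Nagata.ExtendSection

/-!
# Modifying a compactification of an open to receive a proper morphism
-/

set_option autoImplicit false
set_option linter.style.haveILetI false
set_option backward.isDefEq.respectTransparency.types false

universe u

open CategoryTheory CategoryTheory.Limits AlgebraicGeometry TopologicalSpace

noncomputable section

namespace Groth.L13.Nagata

/-- After blowing up a compactification of `V ⊆ U` there is an open which maps properly to `U`. -/
theorem exists_proper_open {U S Y : Scheme.{u}} [CompactSpace S] [QuasiSeparatedSpace S]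
    (g : U ⟶ S) [IsSeparated g] [LocallyOfFiniteType g] [QuasiCompact g]
    (V : U.Opens) (hV : IsCompact (V : Set U)) (j : (V : Scheme.{u}) ⟶ Y) [IsOpenImmersion j]
    (πY : Y ⟶ S) [IsProper πY] (hj : j ≫ πY = V.ι ≫ g) :
    ∃ (I : Y.IdealSheafData) (Y' : Scheme.{u}) (b : Y' ⟶ Y), BlowUp.IsBlowUp b I ∧
      BlowUp.IsAdmissibleFor j.opensRange I ∧
      ∃ (V' : Y'.Opens) (hle : b ⁻¹ᵁ j.opensRange ≤ V') (h : (V' : Scheme.{u}) ⟶ U),
        IsProper h ∧
        ∃ k : ((b ⁻¹ᵁ j.opensRange : Y'.Opens) : Scheme.{u}) ⟶ V,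
          k ≫ j = (b ∣_ j.opensRange) ≫ j.opensRange.ι ∧ Y'.homOfLE hle ≫ h = k ≫ V.ι := by
  haveI : CompactSpace (V : Scheme.{u}) := isCompact_iff_compactSpace.1 hV
  haveI : CompactSpace Y := QuasiCompact.compactSpace_of_compactSpace πY
  haveI : QuasiSeparatedSpace Y := quasiSeparatedSpace_of_quasiSeparated πY
  obtain ⟨T, i, t, hi, hto, -, -, ht, htq, hpre, hiso⟩ := exists_graphClosure πY g j V.ι hj
  let p := i ≫ pullback.fst πY g
  let q := i ≫ pullback.snd πY g
  haveI : IsProper (pullback.snd πY g) := MorphismProperty.pullback_snd _ _ inferInstance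
  haveI : IsProper q := inferInstanceAs (IsProper (i ≫ pullback.snd πY g))
  haveI : IsSeparated (pullback.fst πY g) := MorphismProperty.pullback_fst _ _ inferInstance
  haveI : QuasiCompact (pullback.fst πY g) := MorphismProperty.pullback_fst _ _ inferInstance
  haveI : LocallyOfFiniteType (pullback.fst πY g) := MorphismProperty.pullback_fst _ _ inferInstance
  haveI : IsSeparated p := inferInstanceAs (IsSeparated (i ≫ pullback.fst πY g))
  haveI : QuasiCompact p := inferInstanceAs (QuasiCompact (i ≫ pullback.fst πY g))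
  haveI : LocallyOfFiniteType p := inferInstanceAs (LocallyOfFiniteType (i ≫ pullback.fst πY g))
  haveI : IsIso (p ∣_ j.opensRange) := hiso
  obtain ⟨J, Y', T', b, c, h, hb, hc, hJ, -, hh, hhb⟩ :=
    exists_openImmersion_blowUps p j.opensRange (isCompact_range j.continuous)
  haveI := Groth.L13.BU.isProper_blowUp hc (isFiniteType_comap hJ.1 p)
  have hle : b ⁻¹ᵁ j.opensRange ≤ h.opensRange := by
    intro z hz
    obtain ⟨x, hx⟩ := hz
    have hd : Disjoint ((J.comap p).support : Set T) ((p ⁻¹ᵁ j.opensRange : T.Opens) : Set T) := by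
      rw [Scheme.IdealSheafData.support_comap, Closeds.coe_preimage]
      exact Disjoint.preimage _ hJ.2
    have htx : p (t x) = j x := by rw [← Scheme.Hom.comp_apply]; exact congrArg (fun φ => (φ : _ ⟶ Y) x) ht
    obtain ⟨w, hw, -⟩ := surjective_over_of_admissible hc hd (x := t x)
      (show p (t x) ∈ j.opensRange from htx ▸ ⟨x, rfl⟩)
    obtain ⟨z', -, hu⟩ := surjective_over_of_admissible hb hJ.2 (x := b z) ⟨x, hx⟩
    refine ⟨w, (hu _ ?_).trans (hu _ rfl).symm⟩
    rw [← Scheme.Hom.comp_apply, hhb, Scheme.Hom.comp_apply, hw, htx]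
    exact hx
  let h' : (h.opensRange : Scheme.{u}) ⟶ U := h.isoOpensRange.inv ≫ c ≫ q
  let k : ((b ⁻¹ᵁ j.opensRange : Y'.Opens) : Scheme.{u}) ⟶ V := (b ∣_ j.opensRange) ≫ j.isoOpensRange.inv
  have hk : k ≫ j = (b ∣_ j.opensRange) ≫ j.opensRange.ι := by
    simp only [k, Category.assoc, Scheme.Hom.isoOpensRange_inv_comp]
  refine ⟨J, Y', b, hb, hJ, h.opensRange, hle, h', inferInstanceAs (IsProper (h.isoOpensRange.inv ≫ c ≫ q)), k, hk, ?_⟩
  have key : Y'.homOfLE hle ≫ h.isoOpensRange.inv ≫ c = k ≫ t := by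
    have e1 : (Y'.homOfLE hle ≫ h.isoOpensRange.inv ≫ c) ≫ p = k ≫ j := by
      rw [hk, morphismRestrict_ι]
      simp only [Category.assoc, ← hhb, Scheme.Hom.isoOpensRange_inv_comp_assoc, Scheme.homOfLE_ι_assoc]
    have e2 : (k ≫ t) ≫ p = k ≫ j := by rw [Category.assoc]; exact congrArg (k ≫ ·) ht
    refine eq_of_isIso_restrict p j.opensRange (e1.trans e2.symm) fun z => ?_
    rw [← Scheme.Hom.comp_apply, e1, Scheme.Hom.comp_apply]
    exact ⟨_, rfl⟩
  show Y'.homOfLE hle ≫ h.isoOpensRange.inv ≫ c ≫ q = k ≫ V.ι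
  rw [← htq]
  exact (by simp only [Category.assoc] : _ = (Y'.homOfLE hle ≫ h.isoOpensRange.inv ≫ c) ≫ q).trans
    ((congrArg (· ≫ q) key).trans (Category.assoc k t q))

end Groth.L13.Nagata
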