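import Groth.Agent.L13.Nagata.Image

/-!
# Quasi-dominations by admissible blow-ups are blow-ups
-/

set_option autoImplicit false
set_option linter.style.haveILetI false
set_option backward.isDefEq.respectTransparency.types false

universe u

open CategoryTheory CategoryTheory.Limits AlgebraicGeometry TopologicalSpace

noncomputable section

namespace Groth.L13.Nagata

/-- Factoring through a closed immersion may be checked after a schematically dominant morphism. -/
theorem exists_lift_of_schDominant {Z₀ Z P G : Scheme.{u}} (d : Z₀ ⟶ Z) [IsSchemeTheoreticallyDominant d]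
    (i : G ⟶ P) [IsClosedImmersion i] (m : Z ⟶ P) (l : Z₀ ⟶ G) (h : d ≫ m = l ≫ i) : ∃ k : Z ⟶ G, k ≫ i = m := by
  let f := pullback.fst m i
  haveI : IsIso f := by
    refine IsClosedImmersion.isIso_iff_ker_eq_bot.2 (le_bot_iff.1 ?_)
    rw [← IsSchemeTheoreticallyDominant.ker_eq_bot d, ← pullback.lift_fst d l h]
    exact Scheme.Hom.le_ker_comp (pullback.lift d l h) f
  exact ⟨inv f ≫ pullback.snd m i, by rw [Category.assoc, ← pullback.condition, IsIso.inv_hom_id_assoc]⟩

/-- A schematically dominant morphism stays so into an open containing its image. -/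
theorem schDominant_lift {U V : Scheme.{u}} (d : U ⟶ V) [IsSchemeTheoreticallyDominant d] (O : V.Opens)
    (d' : U ⟶ (O : Scheme.{u})) (hd : d' ≫ O.ι = d) [QuasiCompact d] : IsSchemeTheoreticallyDominant d' := by
  have hpb : IsPullback d' (𝟙 U) O.ι d := by
    refine IsPullback.of_isLimit' ⟨by rw [hd, Category.id_comp]⟩
      (PullbackCone.IsLimit.mk _ (fun s => s.snd) (fun s => ?_) (fun s => Category.comp_id _) fun s t h1 h2 => ?_)
    · rw [← cancel_mono O.ι, Category.assoc, hd]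
      exact s.condition.symm
    · exact (Category.comp_id t).symm.trans h2
  exact IsSchemeTheoreticallyDominant.of_isPullback hpb.flip

variable {S U X Y Xt : Scheme.{u}}

/-- **A quasi-domination of an admissible blow-up is a blow-up.** -/
theorem isBlowUp_quasiDomination [QuasiSeparatedSpace S] (gX : X ⟶ S) (gY : Y ⟶ S)
    [IsSeparated gX] [IsSeparated gY]
    (jX : U ⟶ X) [IsOpenImmersion jX] [CompactSpace U]
    (V : Y.Opens)
    (jV : U ⟶ (V : Scheme.{u})) [IsSchemeTheoreticallyDominant jV]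
    (φ : (V : Scheme.{u}) ⟶ X) (hφU : jV ≫ φ = jX) (hφ : V.ι ≫ gY = φ ≫ gX)
    (hφcl : IsClosed (Set.range (fun x => pullback.lift V.ι φ hφ x)))
    (I : X.IdealSheafData) (hI : BlowUp.IsAdmissibleFor jX.opensRange I)
    (b : Xt ⟶ X) (hb : BlowUp.IsBlowUp b I)
    (W : Xt.Opens) (u : U ⟶ (W : Scheme.{u})) (hu : u ≫ W.ι ≫ b = jX)
    [IsSchemeTheoreticallyDominant (u ≫ W.ι)]
    (ψ : (W : Scheme.{u}) ⟶ (V : Scheme.{u})) (hψU : u ≫ ψ = jV)
    (hψ : W.ι ≫ b ≫ gX = ψ ≫ V.ι ≫ gY)
    (hψcl : IsClosed (Set.range (fun x => pullback.lift W.ι ψ hψ x))) :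
    BlowUp.IsBlowUp ψ (I.comap φ) ∧
      IsClosed (Set.range (fun x => pullback.lift (f := b ≫ gX) (g := gY) W.ι (ψ ≫ V.ι)
        (hψ.trans (Category.assoc ψ V.ι gY).symm) x)) := by
  haveI := Groth.L13.BU.isProper_blowUp hb hI.1
  haveI : QuasiSeparatedSpace X := quasiSeparatedSpace_of_quasiSeparated gX
  haveI : QuasiSeparatedSpace Y := quasiSeparatedSpace_of_quasiSeparated gY
  haveI : QuasiSeparatedSpace Xt := quasiSeparatedSpace_of_quasiSeparated b
  haveI : QuasiCompact jV := by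
    haveI : QuasiSeparatedSpace (V : Scheme.{u}) := quasiSeparatedSpace_of_quasiSeparated V.ι
    exact quasiCompact_of_compactSpace jV
  haveI : QuasiCompact (u ≫ W.ι) := quasiCompact_of_compactSpace _
  haveI : IsSchemeTheoreticallyDominant u := schDominant_lift (u ≫ W.ι) W u rfl
  have hWb : W.ι ≫ b = ψ ≫ φ := by
    refine hom_ext_of_schDominant u gX (by rw [hu, reassoc_of% hψU, hφU]) ?_
    rw [Category.assoc, hψ, hφ, Category.assoc]
  have hE : BlowUp.IsEffCartierIdeal ((I.comap φ).comap ψ) := by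
    rw [← Scheme.IdealSheafData.comap_comp, ← hWb, Scheme.IdealSheafData.comap_comp]
    exact Groth.L22.Ideals.isEffCartier_comap_of_flat W.ι hb.1
  let Γ := pullback.lift W.ι ψ hψ
  have hΓ₁ : Γ ≫ pullback.fst (b ≫ gX) (V.ι ≫ gY) = W.ι := pullback.lift_fst _ _ _
  have hΓ₂ : Γ ≫ pullback.snd (b ≫ gX) (V.ι ≫ gY) = ψ := pullback.lift_snd _ _ _
  haveI : IsImmersion (Γ ≫ pullback.fst (b ≫ gX) (V.ι ≫ gY)) := by rw [hΓ₁]; infer_instance
  haveI : IsImmersion Γ := IsImmersion.of_comp Γ (pullback.fst (b ≫ gX) (V.ι ≫ gY))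
  haveI : IsClosedImmersion Γ := IsClosedImmersion.of_isPreimmersion Γ hψcl
  -- the graph over the open where the centre is empty
  let V₀ : (V : Scheme.{u}).Opens := (I.comap φ).support.compl
  have hV₀ : ∀ y, jV y ∈ V₀ := fun y hy => by
    have hy : jV y ∈ ((I.comap φ).support : Set (V : Scheme.{u})) := hy
    rw [Scheme.IdealSheafData.support_comap] at hy
    refine Set.disjoint_left.1 hI.2 hy ⟨y, ?_⟩
    show jX y = φ (jV y)
    rw [← Scheme.Hom.comp_apply, hφU]
  let j₀ : U ⟶ (V₀ : Scheme.{u}) := IsOpenImmersion.lift V₀.ι jV (by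
    rw [Scheme.Opens.range_ι]; rintro _ ⟨y, rfl⟩; exact hV₀ y)
  have hj₀ : j₀ ≫ V₀.ι = jV := IsOpenImmersion.lift_fac _ _ _
  haveI : IsSchemeTheoreticallyDominant j₀ := schDominant_lift jV V₀ j₀ hj₀
  have hEV₀ : I.comap (V₀.ι ≫ φ) = ⊤ := by
    rw [Scheme.IdealSheafData.comap_comp]
    exact Groth.L22.Ideals.comap_eq_top _ _ fun y hy => y.2 hy
  obtain ⟨σ, hσ, -⟩ := hb.2 _ (V₀.ι ≫ φ) (by rw [hEV₀]; exact Groth.L22.Ideals.isEffCartier_top)
  replace hσ : σ ≫ b = V₀.ι ≫ φ := hσ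
  let m₀ : (V₀ : Scheme.{u}) ⟶ pullback (b ≫ gX) (V.ι ≫ gY) := pullback.lift σ V₀.ι (by rw [reassoc_of% hσ, hφ])
  obtain ⟨w₀, hw₀⟩ : ∃ w₀, w₀ ≫ Γ = m₀ := by
    refine exists_lift_of_schDominant j₀ Γ m₀ u (pullback.hom_ext ?_ ?_)
    · simp only [m₀, Γ, Category.assoc, pullback.lift_fst]
      refine blowUp_hom_ext hb ?_ (by rw [Category.assoc, hσ, reassoc_of% hj₀, hφU, Category.assoc, hu])
      rw [Category.assoc, hσ, Scheme.IdealSheafData.comap_comp, hEV₀,
        Scheme.IdealSheafData.comap_top]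
      exact Groth.L22.Ideals.isEffCartier_top
    · simp only [m₀, Γ, Category.assoc, pullback.lift_snd, hj₀, hψU]
  have hbl : BlowUp.IsBlowUp ψ (I.comap φ) := by
    refine ⟨hE, fun Z g hg => ?_⟩
    obtain ⟨k, hk, -⟩ := hb.2 Z (g ≫ φ) (by rw [Scheme.IdealSheafData.comap_comp]; exact hg)
    replace hk : k ≫ b = g ≫ φ := hk
    haveI := isEffCartier_schDominant_compl hg
    let Z₀ : Z.Opens := ((I.comap φ).comap g).support.compl
    let g₀ : (Z₀ : Scheme.{u}) ⟶ (V₀ : Scheme.{u}) := IsOpenImmersion.lift V₀.ι (Z₀.ι ≫ g) (by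
      rw [Scheme.Opens.range_ι]
      rintro _ ⟨z, rfl⟩ hz
      refine z.2 ?_
      show z.1 ∈ ((I.comap φ).comap g).support
      refine (SetLike.ext_iff.1 (Scheme.IdealSheafData.support_comap _ g) z.1).2 ?_
      rw [Scheme.Hom.comp_apply] at hz
      exact hz)
    have hg₀ : g₀ ≫ V₀.ι = Z₀.ι ≫ g := IsOpenImmersion.lift_fac _ _ _
    obtain ⟨w, hw⟩ : ∃ w, w ≫ Γ = pullback.lift k g (by rw [reassoc_of% hk, hφ]) := by
      refine exists_lift_of_schDominant Z₀.ι Γ _ (g₀ ≫ w₀) (pullback.hom_ext ?_ ?_)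
      · simp only [Category.assoc, pullback.lift_fst, reassoc_of% hw₀, m₀]
        refine blowUp_hom_ext hb ?_ (by rw [Category.assoc, hk, Category.assoc, hσ, reassoc_of% hg₀])
        rw [Category.assoc, hk, Scheme.IdealSheafData.comap_comp, Scheme.IdealSheafData.comap_comp]
        exact Groth.L22.Ideals.isEffCartier_comap_of_flat _ hg
      · simp only [Category.assoc, pullback.lift_snd, reassoc_of% hw₀, m₀, hg₀]
    have hw₁ : w ≫ W.ι = k := by
      have := (congrArg (· ≫ pullback.fst (b ≫ gX) (V.ι ≫ gY)) hw).trans (pullback.lift_fst _ _ _)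
      rwa [Category.assoc, hΓ₁] at this
    refine ⟨w, ?_, fun l hl => ?_⟩
    · have := (congrArg (· ≫ pullback.snd (b ≫ gX) (V.ι ≫ gY)) hw).trans (pullback.lift_snd _ _ _)
      rwa [Category.assoc, hΓ₂] at this
    · replace hl : l ≫ ψ = g := hl
      rw [← cancel_mono W.ι, hw₁]
      refine blowUp_hom_ext hb ?_ (by rw [Category.assoc, hWb, reassoc_of% hl, hk])
      rw [Category.assoc, hWb, reassoc_of% hl, Scheme.IdealSheafData.comap_comp]
      exact hg
  refine ⟨hbl, ?_⟩
  haveI := Groth.L13.BU.isProper_blowUp hbl (isFiniteType_comap hI.1 φ)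
  let Γφ := pullback.lift V.ι φ hφ
  haveI : IsImmersion (Γφ ≫ pullback.fst gY gX) := by
    rw [show Γφ ≫ pullback.fst gY gX = V.ι from pullback.lift_fst _ _ _]; infer_instance
  haveI : IsImmersion Γφ := IsImmersion.of_comp Γφ (pullback.fst gY gX)
  haveI : IsClosedImmersion Γφ := IsClosedImmersion.of_isPreimmersion Γφ hφcl
  let M : pullback (b ≫ gX) gY ⟶ pullback gY gX :=
    pullback.map _ _ _ _ b (𝟙 Y) (𝟙 S) (Category.comp_id _) (by rw [Category.comp_id, Category.id_comp]) ≫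
      (pullbackSymmetry gX gY).hom
  haveI : IsSeparated (pullback.map (b ≫ gX) gY gX gY b (𝟙 Y) (𝟙 S) (Category.comp_id _)
      (by rw [Category.comp_id, Category.id_comp])) :=
    MorphismProperty.pullbackMap (P := @IsSeparated)
      (inferInstanceAs (IsSeparated b)) (inferInstanceAs (IsSeparated (𝟙 Y))) rfl (Category.id_comp _).symm
  haveI : IsSeparated M := inferInstanceAs (IsSeparated (_ ≫ _))
  let Γ' := pullback.lift (f := b ≫ gX) (g := gY) W.ι (ψ ≫ V.ι) (hψ.trans (Category.assoc ψ V.ι gY).symm)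
  have e : Γ' ≫ M = ψ ≫ Γφ := by
    refine pullback.hom_ext ?_ ?_
    · simp only [Γ', M, Γφ, Category.assoc, pullbackSymmetry_hom_comp_fst, pullback.lift_snd, pullback.lift_fst,
        pullback.lift_snd_assoc, Category.comp_id]
    · simp only [Γ', M, Γφ, Category.assoc, pullbackSymmetry_hom_comp_snd, pullback.lift_snd, pullback.lift_fst,
        pullback.lift_fst_assoc, hWb]
  haveI : IsProper (Γ' ≫ M) := by rw [e]; infer_instance
  haveI : IsProper Γ' := IsProper.of_comp Γ' M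
  exact Γ'.isClosedMap.isClosed_range

end Groth.L13.Nagata
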