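import Groth.Agent.L13.Nagata.Union

/-!
# A scheme glued with the good part of a piece
-/

set_option autoImplicit false
set_option linter.style.haveILetI false
set_option backward.isDefEq.respectTransparency.types false

universe u

open CategoryTheory CategoryTheory.Limits AlgebraicGeometry TopologicalSpace

noncomputable section

namespace Groth.L13.Nagata

variable {X S : Scheme.{u}}

/-- An open `M` of a piece meeting the open part exactly over `V` glues with `X`. -/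
theorem exists_glue_piece {g : X ⟶ S} [IsSeparated g] [QuasiCompact g] [LocallyOfFiniteType g] {V : X.Opens}
    (D : Piece g V) (t : (V : Scheme.{u}) ⟶ D.Xm) [IsOpenImmersion t] (ht : t ≫ D.q = V.ι)
    (M : D.P.Opens) (hM : IsCompact (M : Set D.P)) [QuasiSeparatedSpace D.P]
    (hMo : D.o ⁻¹' (M : Set D.P) = Set.range t) :
    ∃ (W : Scheme.{u}) (q : W ⟶ S) (iA : X ⟶ W) (iM : (M : Scheme.{u}) ⟶ W) (v : (V : Scheme.{u}) ⟶ M),
      IsSeparated q ∧ QuasiCompact q ∧ LocallyOfFiniteType q ∧ IsOpenImmersion iA ∧ IsOpenImmersion iM ∧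
      v ≫ M.ι = t ≫ D.o ∧ V.ι ≫ iA = v ≫ iM ∧ iA ≫ q = g ∧ iM ≫ q = M.ι ≫ D.π := by
  let v : (V : Scheme.{u}) ⟶ M := IsOpenImmersion.lift M.ι (t ≫ D.o) (by
    rw [Scheme.Opens.range_ι]
    rintro _ ⟨x, rfl⟩
    exact (hMo.symm.subset ⟨x, rfl⟩ : t x ∈ D.o ⁻¹' (M : Set D.P)))
  have hv : v ≫ M.ι = t ≫ D.o := IsOpenImmersion.lift_fac _ _ _
  haveI : IsOpenImmersion (v ≫ M.ι) := by rw [hv]; infer_instance
  haveI : IsOpenImmersion v := IsOpenImmersion.of_comp v M.ι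
  have hw : V.ι ≫ g = v ≫ M.ι ≫ D.π := by
    rw [reassoc_of% hv, ← D.comm, reassoc_of% ht]
  haveI : QuasiCompact M.ι := Groth.L17.Approx.quasiCompact_ι M hM
  let l := pullback.lift V.ι v hw
  let m : pullback g (M.ι ≫ D.π) ⟶ pullback g D.π :=
    pullback.map _ _ _ _ (𝟙 X) M.ι (𝟙 S) (by simp) (by simp)
  let d : D.Xm ⟶ pullback g D.π := pullback.lift D.q D.o D.comm
  haveI : IsOpenImmersion m := MorphismProperty.pullback_map (P := @IsOpenImmersion)
    (inferInstanceAs (IsOpenImmersion (𝟙 X))) (inferInstanceAs (IsOpenImmersion M.ι)) (by simp) rfl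
  haveI : IsProper (d ≫ pullback.fst g D.π) := by rw [pullback.lift_fst]; infer_instance
  haveI : IsProper d := IsProper.of_comp d (pullback.fst g D.π)
  haveI : Mono (d ≫ pullback.snd g D.π) := by rw [pullback.lift_snd]; infer_instance
  haveI : Mono d := mono_of_mono d (pullback.snd g D.π)
  haveI : IsClosedImmersion d := isClosedImmersion_of_proper_mono d
  have hpb : IsPullback l t m d := by
    refine IsOpenImmersion.isPullback l t m d ?_ ?_
    · refine pullback.hom_ext ?_ ?_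
      · simp only [l, m, d, Category.assoc, pullback.lift_fst, pullback.lift_fst_assoc, ht, Category.comp_id]
      · simp only [l, m, d, Category.assoc, pullback.lift_snd, pullback.lift_snd_assoc, hv]
    · refine Opens.ext ?_
      show d ⁻¹' Set.range m = Set.range t
      rw [Scheme.Pullback.range_map, Scheme.Opens.range_ι]
      have e : Set.range (𝟙 X : X ⟶ X) = Set.univ := Set.range_eq_univ.2 fun x => ⟨x, rfl⟩
      rw [e, Set.preimage_univ, Set.univ_inter, ← hMo]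
      ext y
      show pullback.snd g D.π (d y) ∈ M ↔ D.o y ∈ M
      rw [← Scheme.Hom.comp_apply, pullback.lift_snd]
  haveI : IsClosedImmersion l := MorphismProperty.of_isPullback hpb.flip inferInstance
  obtain ⟨W, q, iA, iM, h1, h2, h3, hA, hB, hAB, hAq, hMq, -, -⟩ :=
    exists_glue_separated g (M.ι ≫ D.π) V.ι v hw
  exact ⟨W, q, iA, iM, v, h1, h2, h3, hA, hB, hv, hAB, hAq, hMq⟩

/-- An admissible blow-up of the glued scheme extends to the piece. -/
theorem exists_side [CompactSpace S] [QuasiSeparatedSpace S] {g : X ⟶ S} [IsSeparated g] {V : X.Opens}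
    (D : Piece g V) (t : (V : Scheme.{u}) ⟶ D.Xm) [IsOpenImmersion t]
    (M : D.P.Opens) (hM : IsCompact (M : Set D.P)) (hMo : D.o ⁻¹' (M : Set D.P) = Set.range t)
    {W W' T : Scheme.{u}} (qW : W ⟶ S) (iA : X ⟶ W) [IsOpenImmersion iA] (iM : (M : Scheme.{u}) ⟶ W)
    (v : (V : Scheme.{u}) ⟶ M) (hv : v ≫ M.ι = t ≫ D.o) (hAB : V.ι ≫ iA = v ≫ iM) (hMq : iM ≫ qW = M.ι ≫ D.π)
    {K : W.IdealSheafData} (hK : BlowUp.IsAdmissibleFor iA.opensRange K) {b : W' ⟶ W} (hb : BlowUp.IsBlowUp b K)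
    (qT : T ⟶ S) (o : W' ⟶ T) (ho : o ≫ qT = b ≫ qW) (u : X ⟶ W') (hu : u ≫ b = iA) :
    ∃ (P' : Scheme.{u}) (c : P' ⟶ D.P) (o' : D.Xm ⟶ P') (φ : ((c ⁻¹ᵁ M : P'.Opens) : Scheme.{u}) ⟶ T)
      (v' : (V : Scheme.{u}) ⟶ (c ⁻¹ᵁ M : P'.Opens)),
      IsProper c ∧ o' ≫ c = D.o ∧ φ ≫ qT = (c ⁻¹ᵁ M).ι ≫ c ≫ D.π ∧
      v' ≫ (c ⁻¹ᵁ M).ι = t ≫ o' ∧ v' ≫ φ = V.ι ≫ u ≫ o := by
  haveI : CompactSpace D.P := QuasiCompact.compactSpace_of_compactSpace D.π
  haveI : QuasiSeparatedSpace D.P := quasiSeparatedSpace_of_quasiSeparated D.π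
  haveI : CompactSpace D.Xm := QuasiCompact.compactSpace_of_compactSpace D.o
  have hadm : BlowUp.IsAdmissibleFor (M.ι ⁻¹ᵁ D.o.opensRange) (K.comap iM) := by
    refine admissible_mono (admissible_comap hK iM) ?_
    rintro y ⟨z, hz⟩
    obtain ⟨x, rfl⟩ := (hMo.subset (show D.o z ∈ (M : Set D.P) from hz.symm ▸ y.2) : z ∈ Set.range t)
    have hy : y = v x := M.ι.isOpenEmbedding.injective (by
      rw [← Scheme.Hom.comp_apply, hv, Scheme.Hom.comp_apply]; exact hz.symm)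
    show iM y ∈ iA.opensRange
    rw [hy, ← Scheme.Hom.comp_apply, ← hAB, Scheme.Hom.comp_apply]
    exact ⟨_, rfl⟩
  obtain ⟨L, hL, hLe, hLb⟩ := Groth.Agent.S8857.result D.P D.o.opensRange M (isCompact_range D.o.continuous) hM _ hadm
  obtain ⟨P', c, hc⟩ := Groth.L13.BU.exists_isBlowUp L
  haveI := Groth.L13.BU.isProper_blowUp hc hL.1
  obtain ⟨o', ho', -, -⟩ := exists_openImmersion_lift D.o hc hL.2
  have hcM := hLb P' c hc
  obtain ⟨ψ, hψ, -⟩ := hb.2 _ ((c ∣_ M) ≫ iM) (by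
    rw [Scheme.IdealSheafData.comap_comp]; exact hcM.1)
  have hψ : ψ ≫ b = (c ∣_ M) ≫ iM := hψ
  let v' : (V : Scheme.{u}) ⟶ (c ⁻¹ᵁ M : P'.Opens) := IsOpenImmersion.lift (c ⁻¹ᵁ M).ι (t ≫ o') (by
    rw [Scheme.Opens.range_ι]
    rintro _ ⟨x, rfl⟩
    show c ((t ≫ o') x) ∈ M
    rw [← Scheme.Hom.comp_apply, Category.assoc, ho', ← hv, Scheme.Hom.comp_apply]
    exact (v x).2)
  have hv' : v' ≫ (c ⁻¹ᵁ M).ι = t ≫ o' := IsOpenImmersion.lift_fac _ _ _
  have hv'' : v' ≫ (c ∣_ M) = v := by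
    rw [← cancel_mono M.ι, Category.assoc, morphismRestrict_ι, reassoc_of% hv', ho', hv]
  refine ⟨P', c, o', ψ ≫ o, v', inferInstance, ho', ?_, hv', ?_⟩
  · rw [Category.assoc, ho, reassoc_of% hψ, hMq, morphismRestrict_ι_assoc]
  · have e : v' ≫ ψ = V.ι ≫ u := by
      have e' : (v' ≫ ψ) ≫ b = (V.ι ≫ u) ≫ b := by
        rw [Category.assoc, hψ, reassoc_of% hv'', Category.assoc, hu, hAB]
      refine blowUp_hom_ext hb ?_ e'
      rw [e', Category.assoc, hu, Groth.L22.Ideals.comap_eq_top K _ fun y hy =>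
        Set.disjoint_left.1 hK.2 hy (by rw [Scheme.Hom.comp_apply]; exact ⟨_, rfl⟩)]
      exact Groth.L22.Ideals.isEffCartier_top
    rw [reassoc_of% e]

end Groth.L13.Nagata
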