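import Groth.Agent.L13.Nagata.Product
import Groth.Agent.L28.VTop.Proper

/-!
# A compactification of a union of two compactifiable opens
-/

set_option autoImplicit false
set_option linter.style.haveILetI false
set_option backward.isDefEq.respectTransparency.types false

universe u

open CategoryTheory CategoryTheory.Limits AlgebraicGeometry TopologicalSpace

noncomputable section

namespace Groth.L13.Nagata

variable {X S : Scheme.{u}}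

/-- The closed part of a piece over the complement of an open, in the compactification. -/
def Piece.bad {g : X ⟶ S} {V : X.Opens} (D : Piece g V) (W : X.Opens) : Set D.P :=
  closure (D.o '' ((D.q ⁻¹ᵁ W : D.Xm.Opens) : Set D.Xm)ᶜ)

theorem image_eq_preimage_image {W P P' : Scheme.{u}} (o : W ⟶ P) [IsOpenImmersion o] (o' : W ⟶ P')
    (c : P' ⟶ P) (h : o' ≫ c = o) (hr : ((c ⁻¹ᵁ o.opensRange : P'.Opens) : Set P') = Set.range o') (A : Set W) :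
    o' '' A = c ⁻¹' (o '' A) := by
  ext y
  constructor
  · rintro ⟨a, ha, rfl⟩
    exact ⟨a, ha, by rw [← Scheme.Hom.comp_apply, h]⟩
  · rintro ⟨a, ha, hay⟩
    obtain ⟨b, rfl⟩ : y ∈ Set.range o' := hr.subset ⟨a, hay⟩
    rw [← Scheme.Hom.comp_apply, h] at hay
    exact ⟨b, o.isOpenEmbedding.injective hay ▸ ha, rfl⟩

/-- A piece can be chosen with the parts over the complements of two covering opens separated. -/
theorem exists_piece_separated [CompactSpace S] [QuasiSeparatedSpace S] {g : X ⟶ S} [QuasiSeparated g]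
    {V : X.Opens} (D : Piece g V) (W₁ W₂ : X.Opens) (hW₁ : IsCompact (W₁ : Set X)) (hW₂ : IsCompact (W₂ : Set X))
    (hcov : W₁ ⊔ W₂ = ⊤) : ∃ D' : Piece g V, Disjoint (D'.bad W₁) (D'.bad W₂) := by
  haveI : CompactSpace D.P := QuasiCompact.compactSpace_of_compactSpace D.π
  haveI : QuasiSeparatedSpace D.P := quasiSeparatedSpace_of_quasiSeparated D.π
  obtain ⟨E, P', c, hc, hE, hdis⟩ := exists_separation D.o (D.q ⁻¹ᵁ W₁) (D.q ⁻¹ᵁ W₂)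
    (D.q.isCompact_preimage hW₁) (D.q.isCompact_preimage hW₂) fun y =>
      (TopologicalSpace.Opens.mem_sup.1 (show D.q y ∈ W₁ ⊔ W₂ by rw [hcov]; trivial))
  obtain ⟨o', hπ, hoi, hoq, ho', hcomm, hr⟩ := D.exists_blow hE hc
  refine ⟨⟨P', D.Xm, c ≫ D.π, o', D.q, hπ, hoi, hoq, inferInstance, hcomm, inferInstance⟩, ?_⟩
  simpa only [Piece.bad, image_eq_preimage_image D.o o' c ho' hr] using hdis

theorem bad_blow {g : X ⟶ S} {V : X.Opens} (D : Piece g V) {P' : Scheme.{u}} (c : P' ⟶ D.P) (o' : D.Xm ⟶ P')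
    (ho' : o' ≫ c = D.o) (W : X.Opens) :
    closure (o' '' ((D.q ⁻¹ᵁ W : D.Xm.Opens) : Set D.Xm)ᶜ) ⊆ c ⁻¹' D.bad W := by
  refine closure_minimal ?_ (isClosed_closure.preimage c.continuous)
  rintro _ ⟨a, ha, rfl⟩
  exact subset_closure ⟨a, ha, by rw [← ho', Scheme.Hom.comp_apply]⟩

/-- Two pieces whose bad parts do not meet on the closure of the common part. -/
theorem exists_pieces [CompactSpace S] [QuasiSeparatedSpace S] (g : X ⟶ S) [IsSeparated g] [QuasiCompact g]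
    [LocallyOfFiniteType g] (V₁ V₂ : X.Opens) (hV₁ : IsCompact (V₁ : Set X)) (hV₂ : IsCompact (V₂ : Set X))
    (hcov : V₁ ⊔ V₂ = ⊤)
    (h₁ : ∃ (Y : Scheme.{u}) (j : (V₁ : Scheme.{u}) ⟶ Y) (p : Y ⟶ S),
      IsOpenImmersion j ∧ QuasiCompact j ∧ IsProper p ∧ j ≫ p = V₁.ι ≫ g)
    (h₂ : ∃ (Y : Scheme.{u}) (j : (V₂ : Scheme.{u}) ⟶ Y) (p : Y ⟶ S),
      IsOpenImmersion j ∧ QuasiCompact j ∧ IsProper p ∧ j ≫ p = V₂.ι ≫ g) :
    ∃ (D₁ : Piece g V₁) (D₂ : Piece g V₂) (t₁ : ((V₁ ⊓ V₂ : X.Opens) : Scheme.{u}) ⟶ D₁.Xm)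
      (t₂ : ((V₁ ⊓ V₂ : X.Opens) : Scheme.{u}) ⟶ D₂.Xm) (w : (t₁ ≫ D₁.o) ≫ D₁.π = (t₂ ≫ D₂.o) ≫ D₂.π),
      t₁ ≫ D₁.q = (V₁ ⊓ V₂).ι ∧ t₂ ≫ D₂.q = (V₁ ⊓ V₂).ι ∧
      Disjoint (D₁.bad V₁) (D₁.bad V₂) ∧ Disjoint (D₂.bad V₂) (D₂.bad V₁) ∧
      ∀ z ∈ closure (Set.range (pullback.lift (t₁ ≫ D₁.o) (t₂ ≫ D₂.o) w)),
        pullback.fst D₁.π D₂.π z ∈ D₁.bad V₁ → pullback.snd D₁.π D₂.π z ∈ D₂.bad V₂ → False := by
  obtain ⟨E₁⟩ := exists_piece g V₁ hV₁ h₁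
  obtain ⟨E₂⟩ := exists_piece g V₂ hV₂ h₂
  obtain ⟨D₁, hF₁⟩ := exists_piece_separated E₁ V₁ V₂ hV₁ hV₂ hcov
  obtain ⟨D₂, hF₂⟩ := exists_piece_separated E₂ V₂ V₁ hV₂ hV₁ (by rw [sup_comm]; exact hcov)
  obtain ⟨t₁, -, ht₁, -⟩ := D₁.exists_section (V₁ ⊓ V₂) inf_le_left
  obtain ⟨t₂, -, ht₂, -⟩ := D₂.exists_section (V₁ ⊓ V₂) inf_le_right
  have w : (t₁ ≫ D₁.o) ≫ D₁.π = (t₂ ≫ D₂.o) ≫ D₂.π := by
    rw [Category.assoc, Category.assoc, ← D₁.comm, ← D₂.comm, reassoc_of% ht₁, reassoc_of% ht₂]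
  have w' := w.symm
  set u := pullback.lift (t₁ ≫ D₁.o) (t₂ ≫ D₂.o) w with hu
  have h12 : ∀ z ∈ closure (Set.range u),
      (∀ y₁, D₁.o y₁ = pullback.fst D₁.π D₂.π z →
        ∃ y₂, D₂.o y₂ = pullback.snd D₁.π D₂.π z ∧ D₂.q y₂ = D₁.q y₁) ∧
      (pullback.snd D₁.π D₂.π z ∈ D₂.o.opensRange → pullback.fst D₁.π D₂.π z ∈ D₁.o.opensRange) := by
    intro z hz
    refine ⟨fun y₁ hy₁ => exists_over_same_point D₁ D₂ t₁ t₂ (ht₁.trans ht₂.symm) w z hz hy₁, ?_⟩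
    rintro ⟨y₂, hy₂⟩
    let σ := (pullbackSymmetry D₁.π D₂.π).hom
    have hσ : σ z ∈ closure (Set.range (pullback.lift (t₂ ≫ D₂.o) (t₁ ≫ D₁.o) w')) := by
      have e : u ≫ σ = pullback.lift (t₂ ≫ D₂.o) (t₁ ≫ D₁.o) w' := by
        refine pullback.hom_ext ?_ ?_
        · simp only [u, σ, Category.assoc, pullbackSymmetry_hom_comp_fst, pullback.lift_snd, pullback.lift_fst]
        · simp only [u, σ, Category.assoc, pullbackSymmetry_hom_comp_snd, pullback.lift_fst, pullback.lift_snd]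
      rw [← e]
      refine closure_mono ?_ (image_closure_subset_closure_image σ.continuous ⟨z, hz, rfl⟩)
      rintro _ ⟨_, ⟨x, rfl⟩, rfl⟩
      exact ⟨x, Scheme.Hom.comp_apply _ _ _⟩
    obtain ⟨y₁, hy₁, -⟩ := exists_over_same_point D₂ D₁ t₂ t₁ (ht₂.trans ht₁.symm) w' (σ z) hσ (y₁ := y₂) (by
      rw [hy₂, ← Scheme.Hom.comp_apply]; simp [σ])
    refine ⟨y₁, ?_⟩
    rw [hy₁, ← Scheme.Hom.comp_apply]
    simp [σ]
  obtain ⟨R₁, R₂, P₁', P₂', c₁, c₂, hc₁, hR₁, hc₂, hR₂, hsep⟩ :=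
    exists_product_separation D₁.π D₂.π D₁.o D₂.o (D₁.q ⁻¹ᵁ V₁) (D₂.q ⁻¹ᵁ V₂)
      (D₁.q.isCompact_preimage hV₁) (D₂.q.isCompact_preimage hV₂) u
      (fun x => by
        rw [← Scheme.Hom.comp_apply, pullback.lift_fst]
        exact ⟨t₁ x, rfl⟩)
      (fun z hz => ⟨fun h => by
          obtain ⟨y, hy⟩ := h
          obtain ⟨y₂, hy₂, -⟩ := (h12 z hz).1 y hy
          exact ⟨y₂, hy₂⟩, (h12 z hz).2⟩)
      (fun z hz y₁ y₂ hy₁ hy₂ => by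
        obtain ⟨y, hy, hq⟩ := (h12 z hz).1 y₁ hy₁
        obtain rfl := D₂.o.isOpenEmbedding.injective (hy.trans hy₂.symm)
        rcases TopologicalSpace.Opens.mem_sup.1 (show D₁.q y₁ ∈ V₁ ⊔ V₂ by rw [hcov]; trivial) with h | h
        · exact Or.inl h
        · exact Or.inr (show D₂.q y ∈ V₂ from hq ▸ h))
  obtain ⟨o₁', hπ₁, hoi₁, hoq₁, ho₁, hcomm₁, hr₁⟩ := D₁.exists_blow hR₁ hc₁
  obtain ⟨o₂', hπ₂, hoi₂, hoq₂, ho₂, hcomm₂, hr₂⟩ := D₂.exists_blow hR₂ hc₂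
  refine ⟨⟨P₁', D₁.Xm, c₁ ≫ D₁.π, o₁', D₁.q, hπ₁, hoi₁, hoq₁, inferInstance, hcomm₁, inferInstance⟩,
    ⟨P₂', D₂.Xm, c₂ ≫ D₂.π, o₂', D₂.q, hπ₂, hoi₂, hoq₂, inferInstance, hcomm₂, inferInstance⟩, t₁, t₂, ?_, ht₁, ht₂,
    ?_, ?_, ?_⟩
  · simp only [Category.assoc, reassoc_of% ho₁, reassoc_of% ho₂]
    simpa only [Category.assoc] using w
  · exact (hF₁.preimage c₁).mono (bad_blow D₁ c₁ o₁' ho₁ V₁) (bad_blow D₁ c₁ o₁' ho₁ V₂)
  · exact (hF₂.preimage c₂).mono (bad_blow D₂ c₂ o₂' ho₂ V₂) (bad_blow D₂ c₂ o₂' ho₂ V₁)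
  · intro z hz hz₁ hz₂
    refine hsep _ ?_ z hz ?_ ?_
    · refine pullback.hom_ext ?_ ?_
      · simp only [u, Category.assoc, pullback.lift_fst, pullback.lift_fst_assoc, ho₁]
      · simp only [u, Category.assoc, pullback.lift_snd, pullback.lift_snd_assoc, ho₂]
    · rw [← image_eq_preimage_image D₁.o o₁' c₁ ho₁ hr₁]; exact hz₁
    · rw [← image_eq_preimage_image D₂.o o₂' c₂ ho₂ hr₂]; exact hz₂

end Groth.L13.Nagata
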